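import Mathlib
import Cfsg.Agent.Lib.BrauerPairs.SubsectionCount
import Cfsg.Agent.Lib.BrauerPairs.CyclicAut
import Cfsg.Agent.S4633
import Cfsg.Agent.S4645

/-!
# The local structure of a block with cyclic defect group

`z` is an element of order `p` of the defect group `P` and `(Z, bz)` is the pair at `Z = ⟨z⟩` below
the maximal pair `(P, c)`. Its stabilizer is `stab (P, c) * C(Z)`, a cyclic extension of `C(Z)` of
degree `e ∣ p - 1`, and `bz` has one modular and `|P|` ordinary characters.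
-/

set_option autoImplicit false
set_option linter.style.haveILetI false
set_option linter.unusedSectionVars false

namespace Cfsg.Agent.Lib.CyclicBlocks.Local

open MonoidAlgebra Cfsg.Agent.Lib.BrauerMap.Basic
open Cfsg.Agent.Lib.BrauerPairs
open Cfsg.Agent.Lib.BrauerPairs.Center Cfsg.Agent.Lib.BrauerPairs.Trunc
open Cfsg.Agent.Lib.BrauerPairs.Conj Cfsg.Agent.Lib.BrauerPairs.Pairs
open Cfsg.Agent.Lib.BrauerPairs.Transport Cfsg.Agent.Lib.BrauerPairs.Maximal
open Cfsg.Agent.Lib.BrauerPairs.Bridge Cfsg.Agent.Lib.BrauerPairs.Embed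
open Cfsg.Agent.Lib.BrauerPairs.Local Cfsg.Agent.Lib.BrauerPairs.Abelian
open Cfsg.Agent.Lib.BrauerPairs.LocalAbelian Cfsg.Agent.Lib.BrauerPairs.SubsectionCount

universe u

attribute [local instance] Ideal.Quotient.field

variable {M : Ideal Cfsg.AlgInt} [M.IsMaximal] {G : Type u} [Group G] [Finite G]
  {p : ℕ} [Fact p.Prime] [CharP (Res M) p]

local notation "C[" P "]" => Subgroup.centralizer ((P : Subgroup G) : Set G)

/-- A block with cyclic defect group `P`, a maximal pair and an element of order `p` of `P`. -/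
structure Cyc (p : ℕ) [Fact p.Prime] [CharP (Res M) p] (ψ : Blk (Res M) G) (P : Subgroup G)
    (c : Blk (Res M) (Subgroup.centralizer (P : Set G))) (z : G) : Prop where
  top : Top p (⟨P, c⟩ : Idx (Res M) G)
  pair : PairOf p ψ (⟨P, c⟩ : Idx (Res M) G)
  cyclic : IsCyclic P
  mem : z ∈ P
  order : orderOf z = p

variable {ψ : Blk (Res M) G} {P : Subgroup G}
  {c : Blk (Res M) (Subgroup.centralizer (P : Set G))} {z : G}

/-- There is a suitable element of order `p`. -/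
theorem exists_cyc (htop : Top p (⟨P, c⟩ : Idx (Res M) G))
    (hψ : PairOf p ψ (⟨P, c⟩ : Idx (Res M) G)) (hc : IsCyclic P) (h1 : P ≠ ⊥) :
    ∃ z, Cyc p ψ P c z := by
  haveI : Nontrivial P := (Subgroup.nontrivial_iff_ne_bot P).mpr h1
  have hd : p ∣ Nat.card P := by
    obtain ⟨k, hk⟩ := (IsPGroup.iff_card (p := p)).mp htop.1
    rcases Nat.eq_zero_or_pos k with rfl | hk0
    · exact absurd hk (by rw [pow_zero]; exact Finite.one_lt_card.ne')
    · exact hk ▸ dvd_pow_self p hk0.ne'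
  obtain ⟨z, hz⟩ := exists_prime_orderOf_dvd_card' p hd
  exact ⟨z, htop, hψ, hc, z.2, (Subgroup.orderOf_coe z).trans hz⟩

theorem Cyc.comm (hc : Cyc p ψ P c z) : ∀ x ∈ P, ∀ y ∈ P, x * y = y * x := fun x hx y hy => by
  haveI := hc.cyclic
  letI : CommGroup P := IsCyclic.commGroup
  exact congrArg Subtype.val (mul_comm (⟨x, hx⟩ : P) ⟨y, hy⟩)

theorem Cyc.ne_one (hc : Cyc p ψ P c z) : z ≠ 1 := fun h => by
  have := hc.order
  rw [h, orderOf_one] at this
  exact (Fact.out : p.Prime).ne_one this.symm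

theorem Cyc.ne_bot (hc : Cyc p ψ P c z) : P ≠ ⊥ := fun h =>
  hc.ne_one (Subgroup.mem_bot.mp (h ▸ hc.mem))

/-- Every nontrivial subgroup of `P` contains `z`. -/
theorem Cyc.mem_zpowers (hc : Cyc p ψ P c z) {u : G} (hu : u ∈ P) (hu1 : u ≠ 1) :
    z ∈ Subgroup.zpowers u := by
  obtain ⟨k, hk⟩ := IsPGroup.iff_orderOf.mp hc.top.1 ⟨u, hu⟩
  rw [← Subgroup.orderOf_coe] at hk
  have hd : p ∣ Nat.card (Subgroup.zpowers u) := by
    rw [Nat.card_zpowers]
    show p ∣ orderOf u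
    rw [hk]
    exact dvd_pow_self p fun h => hu1 (orderOf_eq_one_iff.mp (by rw [hk, h, pow_zero]))
  obtain ⟨v, hv⟩ := exists_prime_orderOf_dvd_card' p hd
  have hvP : (v : G) ∈ P := (Subgroup.zpowers_le.mpr hu) v.2
  have h2 := Cfsg.Agent.S4645.eq_of_card_eq_of_cyclic hc.cyclic (Subgroup.zpowers_le.mpr hc.mem)
    (Subgroup.zpowers_le.mpr hvP) (by
      rw [Nat.card_zpowers, Nat.card_zpowers]
      exact hc.order.trans (hv.symm.trans (Subgroup.orderOf_coe v).symm))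
  exact Subgroup.zpowers_le.mpr v.2 (h2 ▸ Subgroup.mem_zpowers z)

theorem Cyc.centralizer_le (hc : Cyc p ψ P c z) {u : G} (hu : u ∈ P) (hu1 : u ≠ 1) :
    C[Subgroup.zpowers u] ≤ C[Subgroup.zpowers z] :=
  Subgroup.centralizer_le (Subgroup.zpowers_le.mpr (hc.mem_zpowers hu hu1) :
    Subgroup.zpowers z ≤ Subgroup.zpowers u)

theorem Cyc.centralizer_le' (hc : Cyc p ψ P c z) : C[P] ≤ C[Subgroup.zpowers z] :=
  centralizer_anti (Subgroup.zpowers_le.mpr hc.mem)

theorem Cyc.le_centralizer (hc : Cyc p ψ P c z) : P ≤ C[Subgroup.zpowers z] :=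
  le_centralizer_zpowers hc.comm hc.mem

/-- The block of `C(z)` below the maximal pair. -/
noncomputable def bz (hc : Cyc p ψ P c z) : Blk (Res M) C[Subgroup.zpowers z] :=
  localBlk c hc.top.1 hc.comm hc.mem

/-- The pair at `z`. -/
noncomputable def az (hc : Cyc p ψ P c z) : Idx (Res M) G := ⟨Subgroup.zpowers z, bz hc⟩

theorem Cyc.le_az (hc : Cyc p ψ P c z) : Le p (az hc) (⟨P, c⟩ : Idx (Res M) G) :=
  le_localBlk hc.top.1 hc.comm hc.mem

theorem Cyc.pair_az (hc : Cyc p ψ P c z) : PairOf p ψ (az hc) :=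
  (pairOf_iff_of_le hc.top.1 hc.le_az ψ).mpr hc.pair

/-- The structure of the inertial quotient. -/
theorem Cyc.inertial (hM : Cfsg.IsPModular p M) (hc : Cyc p ψ P c z) :
    (∀ x ∈ stab (⟨P, c⟩ : Idx (Res M) G), ∀ u ∈ P, u ≠ 1 → x * u = u * x → x ∈ C[P]) ∧
    C[P].relIndex (stab (⟨P, c⟩ : Idx (Res M) G)) ∣ p - 1 ∧
    ∃ h ∈ stab (⟨P, c⟩ : Idx (Res M) G),
      (∀ x ∈ stab (⟨P, c⟩ : Idx (Res M) G),
        ∃ i < C[P].relIndex (stab (⟨P, c⟩ : Idx (Res M) G)), (h ^ i)⁻¹ * x ∈ C[P]) ∧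
      ∀ i : ℕ, h ^ i ∈ C[P] ↔ C[P].relIndex (stab (⟨P, c⟩ : Idx (Res M) G)) ∣ i := by
  classical
  set T := stab (⟨P, c⟩ : Idx (Res M) G) with hT
  haveI hn : (C[P].subgroupOf T).Normal := by
    rw [Subgroup.normal_subgroupOf_iff_le_normalizer
      (show C[P] ≤ T from centralizer_le_stab (⟨P, c⟩ : Idx (Res M) G))]
    exact le_normalizer_centralizer (stab_le_normalizer (⟨P, c⟩ : Idx (Res M) G))
  have hPD : Cfsg.IsDefectGroup p M (toSet ψ) P := by
    rw [isDefectGroup_iff (isPBlock_toSet ψ), blk_toSet]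
    exact isDef_of_top hc.top hc.pair
  have hind : Cfsg.IsInducedBlock M C[P] (toSet c) (toSet ψ) :=
    (InducedPair.isInducedBlock_iff hc.top.1 (isPBlock_toSet _) (isPBlock_toSet _)).mpr
      (by rw [blk_toSet, blk_toSet]; exact hc.pair)
  obtain ⟨hcy, hdvd, hfree⟩ := Cfsg.Agent.S4633.result p M hM (toSet ψ) (isPBlock_toSet ψ) P hPD
    hc.ne_bot hc.cyclic (toSet c) hind T (fun g => by
      rw [hT, mem_stab_iff]
      refine and_congr_right fun hg => ?_
      rw [stabilizesBlock_iff (isPBlock_toSet c) hg, act_eq_iff, blk_toSet])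
  refine ⟨fun x hx u hu hu1 h => hfree x hx u hu hu1 (by rw [h, mul_inv_cancel_right]), hdvd, ?_⟩
  set N := C[P].subgroupOf T with hN
  obtain ⟨g, hg⟩ := hcy.exists_generator
  obtain ⟨h, rfl⟩ := QuotientGroup.mk'_surjective N g
  have hord : orderOf (QuotientGroup.mk' N h) = C[P].relIndex T :=
    (orderOf_eq_card_of_forall_mem_zpowers hg).trans rfl
  have hiff : ∀ i : ℕ, (h : G) ^ i ∈ C[P] ↔ C[P].relIndex T ∣ i := by
    intro i
    rw [← hord, orderOf_dvd_iff_pow_eq_one, ← map_pow, QuotientGroup.mk'_apply,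
      QuotientGroup.eq_one_iff, hN, Subgroup.mem_subgroupOf, SubgroupClass.coe_pow]
  refine ⟨(h : G), h.2, fun x hx => ?_, hiff⟩
  obtain ⟨i, hi, hi'⟩ := (IsOfFinOrder.mem_zpowers_iff_mem_range_orderOf
    (isOfFinOrder_of_finite (QuotientGroup.mk' N h))).mp (hg (QuotientGroup.mk' N ⟨x, hx⟩)) |>
      fun H => by simpa [Finset.mem_image] using H
  refine ⟨i, by rwa [← hord], ?_⟩
  have h1 : (h ^ i)⁻¹ * (⟨x, hx⟩ : T) ∈ N := by
    rw [← QuotientGroup.eq_one_iff, QuotientGroup.mk_mul, QuotientGroup.mk_inv,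
      QuotientGroup.mk_pow, hi', inv_mul_cancel]
  simpa [hN, Subgroup.mem_subgroupOf] using h1

/-- The elements stabilizing the pair at `z`. -/
theorem Cyc.mem_stab_az (hc : Cyc p ψ P c z) (x : G) :
    x ∈ stab (az hc) ↔
      ∃ y ∈ stab (⟨P, c⟩ : Idx (Res M) G), ∃ w ∈ C[Subgroup.zpowers z], x = y * w := by
  refine ⟨fun hx => exists_stab_mul hc.top hc.comm hc.le_az hx, ?_⟩
  rintro ⟨y, hy, w, hw, rfl⟩
  refine mul_mem (inf_stab_le hc.top.1 hc.le_az ⟨hy, ?_⟩) (centralizer_le_stab (az hc) hw)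
  refine Subgroup.mem_normalizer_iff_map_conj_eq.mpr ?_
  refine Cfsg.Agent.S4645.eq_of_card_eq_of_cyclic hc.cyclic ?_
    (Subgroup.zpowers_le.mpr hc.mem) (card_map_conj y _)
  rintro _ ⟨v, hv, rfl⟩
  exact (Subgroup.mem_normalizer_iff.mp (stab_le_normalizer _ hy) v).mp
    (Subgroup.zpowers_le.mpr hc.mem hv)

/-- The inertial index. -/
noncomputable def eIdx (_hc : Cyc p ψ P c z) : ℕ :=
  C[P].relIndex (stab (⟨P, c⟩ : Idx (Res M) G))

theorem Cyc.eIdx_pos (hM : Cfsg.IsPModular p M) (hc : Cyc p ψ P c z) : 0 < eIdx hc := by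
  refine Nat.pos_of_dvd_of_pos (hc.inertial hM).2.1 ?_
  have := (Fact.out : p.Prime).two_le
  omega

theorem Cyc.not_dvd_eIdx (hM : Cfsg.IsPModular p M) (hc : Cyc p ψ P c z) : ¬ p ∣ eIdx hc :=
  fun h => by
    have h2 := Nat.le_of_dvd (by have := (Fact.out : p.Prime).two_le; omega)
      (h.trans (hc.inertial hM).2.1)
    have := (Fact.out : p.Prime).two_le
    omega

/-- The quotient of the stabilizer of the pair at `z` by `C(z)` is cyclic of order `e`. -/
theorem Cyc.exists_gen (hM : Cfsg.IsPModular p M) (hc : Cyc p ψ P c z) :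
    ∃ h ∈ stab (az hc), h ∈ stab (⟨P, c⟩ : Idx (Res M) G) ∧
      (∀ x ∈ stab (az hc), ∃ i < eIdx hc, (h ^ i)⁻¹ * x ∈ C[Subgroup.zpowers z]) ∧
      ∀ i : ℕ, h ^ i ∈ C[Subgroup.zpowers z] ↔ eIdx hc ∣ i := by
  obtain ⟨hfree, -, h, hh, hgen, hiff⟩ := hc.inertial hM
  refine ⟨h, (hc.mem_stab_az h).mpr ⟨h, hh, 1, one_mem _, (mul_one h).symm⟩, hh, fun x hx => ?_,
    fun i => ?_⟩
  · obtain ⟨y, hy, w, hw, rfl⟩ := (hc.mem_stab_az x).mp hx
    obtain ⟨i, hi, hi'⟩ := hgen y hy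
    exact ⟨i, hi, by rw [← mul_assoc]; exact mul_mem (hc.centralizer_le' hi') hw⟩
  · refine ⟨fun h' => (hiff i).mp ?_, fun h' => hc.centralizer_le' ((hiff i).mpr h')⟩
    exact hfree _ (pow_mem hh i) z hc.mem hc.ne_one
      (Subgroup.mem_centralizer_iff.mp h' z (Subgroup.mem_zpowers z)).symm

/-- An element outside `C(z)` acts nontrivially on `z`. -/
theorem Cyc.conj_ne (hc : Cyc p ψ P c z) {x : G} (hx : x ∉ C[Subgroup.zpowers z]) :
    x * z * x⁻¹ ≠ z := fun h => hx (by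
  rw [Cfsg.Agent.Lib.BrauerMap.SecondMain.mem_centralizer_zpowers_iff]
  exact mul_inv_eq_iff_eq_mul.mp h)

/-- The pair `(P, c)` seen in `C(z)` is maximal, with block `bz`. -/
theorem Cyc.top_local (hc : Cyc p ψ P c z) :
    Top p (localPair c hc.comm hc.mem) ∧ PairOf p (bz hc) (localPair c hc.comm hc.mem) :=
  ⟨top_localPair hc.top hc.comm hc.mem, pairOf_localBlk hc.top.1 hc.comm hc.mem⟩

theorem Cyc.isDefectGroup_bz (hc : Cyc p ψ P c z) :
    Cfsg.IsDefectGroup p M (toSet (bz hc)) (P.subgroupOf C[Subgroup.zpowers z]) := by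
  rw [isDefectGroup_iff (isPBlock_toSet _), blk_toSet]
  exact isDef_of_top hc.top_local.1 hc.top_local.2

/-- One modular and `|P|` ordinary characters. -/
theorem Cyc.rank_card (hM : Cfsg.IsPModular p M) (hc : Cyc p ψ P c z) :
    Cfsg.blockRank p (toSet (bz hc)) = 1 ∧ Nat.card (toSet (bz hc)) = Nat.card P :=
  blockRank_localBlk hM hc.top hc.comm hc.mem fun x hx h =>
    (hc.inertial hM).1 x hx z hc.mem hc.ne_one h

/-- The number of ordinary characters of the block. -/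
theorem Cyc.card_eq (hM : Cfsg.IsPModular p M) (hc : Cyc p ψ P c z) :
    ∃ r : ℕ, Nat.card (toSet ψ) = Cfsg.blockRank p (toSet ψ) + r ∧
      eIdx hc * r + 1 = Nat.card P := by
  classical
  haveI := Fintype.ofFinite G
  obtain ⟨R, hR⟩ := exists_orbitReps (p := p) (⟨P, c⟩ : Idx (Res M) G)
  refine ⟨R.card, card_eq_of_free hM hc.top hc.pair hc.comm (hc.inertial hM).1 hR, ?_⟩
  obtain ⟨hfree, -, h, hh, hgen, hiff⟩ := hc.inertial hM
  let f : ℕ × G → G := fun q => h ^ q.1 * q.2 * (h ^ q.1)⁻¹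
  have hmem : ∀ q ∈ Finset.range (eIdx hc) ×ˢ R, f q ∈ P ∧ f q ≠ 1 := by
    rintro ⟨i, r⟩ hq
    obtain ⟨-, hr⟩ := Finset.mem_product.mp hq
    exact ⟨(Subgroup.mem_normalizer_iff.mp (stab_le_normalizer _ (pow_mem hh i)) r).mp (hR.mem r hr),
      fun e => hR.ne_one r hr (conj_eq_one_iff.mp e)⟩
  have hinj : ∀ (i j : ℕ) (r s : G), j < eIdx hc → i ≤ j → r ∈ R → s ∈ R →
      f (i, r) = f (j, s) → i = j ∧ r = s := by
    intro i j r s hj hij hr hs e
    obtain ⟨d, rfl⟩ := Nat.exists_eq_add_of_le hij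
    simp only [f, pow_add] at e
    have e' : h ^ d * s * (h ^ d)⁻¹ = r := by
      calc h ^ d * s * (h ^ d)⁻¹ =
            (h ^ i)⁻¹ * (h ^ i * h ^ d * s * (h ^ i * h ^ d)⁻¹) * h ^ i := by group
        _ = (h ^ i)⁻¹ * (h ^ i * r * (h ^ i)⁻¹) * h ^ i := by rw [e]
        _ = r := by group
    have hrs : s = r := hR.unique s hs r hr _ (pow_mem hh d) e'
    subst hrs
    have h1 := hfree _ (pow_mem hh d) s (hR.mem s hs) (hR.ne_one s hs)
      (mul_inv_eq_iff_eq_mul.mp e')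
    have := Nat.eq_zero_of_dvd_of_lt ((hiff d).mp h1) (show d < eIdx hc by omega)
    subst this
    exact ⟨rfl, rfl⟩
  have himg : (Finset.range (eIdx hc) ×ˢ R).image f =
      (Finset.univ.filter fun u : G => u ∈ P).erase 1 := by
    ext u
    simp only [Finset.mem_image, Finset.mem_erase, Finset.mem_filter, Finset.mem_univ, true_and]
    refine ⟨?_, fun hu => ?_⟩
    · rintro ⟨q, hq, rfl⟩
      exact ⟨(hmem q hq).2, (hmem q hq).1⟩
    · obtain ⟨r, hr, t, ht, htr⟩ := hR.exists_conj u hu.2 hu.1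
      obtain ⟨i, hi, hi'⟩ := hgen t⁻¹ (inv_mem ht)
      refine ⟨(i, r), Finset.mem_product.mpr ⟨Finset.mem_range.mpr hi, hr⟩, ?_⟩
      set w := (h ^ i)⁻¹ * t⁻¹ with hw
      have hwr : w * r * w⁻¹ = r := by
        rw [← Subgroup.mem_centralizer_iff.mp hi' r (hR.mem r hr), mul_inv_cancel_right]
      show h ^ i * r * (h ^ i)⁻¹ = u
      rw [← hwr, hw, ← htr]
      group
  have hcard := congrArg Finset.card himg
  rw [Finset.card_image_of_injOn ?_, Finset.card_product, Finset.card_range,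
    Finset.card_erase_of_mem (by simp)] at hcard
  · rw [hcard, Nat.sub_add_cancel (Finset.card_pos.mpr ⟨1, by simp⟩),
      Nat.card_eq_fintype_card, Fintype.card_subtype]
  · rintro ⟨i, r⟩ hq ⟨j, s⟩ hq' e
    obtain ⟨hi, hr⟩ := Finset.mem_product.mp hq
    obtain ⟨hj, hs⟩ := Finset.mem_product.mp hq'
    rcases le_total i j with hle | hle
    · obtain ⟨rfl, rfl⟩ := hinj i j r s (Finset.mem_range.mp hj) hle hr hs e
      rfl
    · obtain ⟨rfl, rfl⟩ := hinj j i s r (Finset.mem_range.mp hi) hle hs hr e.symm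
      rfl

end Cfsg.Agent.Lib.CyclicBlocks.Local
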