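import Mathlib.LinearAlgebra.Matrix.Basis
import Mathlib.LinearAlgebra.Matrix.Trace
import Cfsg.Agent.Lib.BrauerPairs.CornerAlgebra

/-!
# A symmetric algebra with one simple module and a cyclic space of trace forms

`π` is a full matrix representation of the summand `e * A` with nilpotent kernel, `τ` a nondegenerate
trace form and `z` a central element of the summand with `z ^ m ≠ 0 = z ^ (m + 1)`. If the trace
forms of the summand have dimension at most `m + 1` then the corner is spanned by the powers of `z`.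
-/

set_option autoImplicit false
set_option linter.unusedSectionVars false

namespace Cfsg.Agent.Lib.CyclicBlocks.Corner

open Module Cfsg.Agent.Lib.BrauerPairs.CornerAlgebra

variable {k : Type*} [Field k] {A : Type*} [Ring A] [Algebra k A] [FiniteDimensional k A] {n : ℕ}
  {π : A →ₐ[k] Matrix (Fin n) (Fin n) k} {e : A} {i₀ : Fin n}

/-- The trace forms of the corner extend to the summand. -/
theorem exists_extension (he : e * e = e) (hc : ∀ x : A, e * x = x * e) (U : Units π e i₀)
    (F : Dual k (corner k U.f)) (hF : ∀ (x y : corner k U.f) (h h'), F ⟨(x : A) * y, h⟩ = F ⟨(y : A) * x, h'⟩) :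
    ∃ Φ ∈ traceForms k e, ∀ x : corner k U.f, Φ (x : A) = F x := by
  classical
  have hmulC : ∀ {x y : A}, x ∈ (corner k U.f) → y ∈ (corner k U.f) → x * y ∈ (corner k U.f) := fun {x y} hx hy =>
    mem_corner.mpr ⟨by rw [← mul_assoc, (mem_corner.mp hx).1],
      by rw [mul_assoc, (mem_corner.mp hy).2]⟩
  have hτmem : ∀ (x : A) (i j : Fin n), U.b i * x * U.a j ∈ (corner k U.f) := fun x i j =>
    mem_corner.mpr ⟨by rw [← mul_assoc, ← mul_assoc, U.f_b], by rw [mul_assoc, U.a_f]⟩
  let τ : A →ₗ[k] (corner k U.f) := LinearMap.codRestrict (corner k U.f)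
    (∑ i, (LinearMap.mulRight k (U.a i)).comp (LinearMap.mulLeft k (U.b i))) fun x => by
      simpa using Submodule.sum_mem _ fun i _ => hτmem x i i
  have hτ : ∀ x, τ x = ∑ i, (⟨U.b i * x * U.a i, hτmem x i i⟩ : (corner k U.f)) := fun x => by
    apply Subtype.ext
    simp [τ]
  have hbe : ∀ i, U.b i * e = U.b i := fun i => by
    rw [← hc, ← U.f_b, ← mul_assoc, U.e_f]
  refine ⟨F ∘ₗ τ, mem_traceForms.mpr ⟨fun x => ?_, fun x y => ?_⟩, fun c => ?_⟩
  · show F (τ (e * x)) = F (τ x)
    congr 1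
    rw [hτ, hτ]
    refine Finset.sum_congr rfl fun i _ => Subtype.ext ?_
    show U.b i * (e * x) * U.a i = U.b i * x * U.a i
    rw [← mul_assoc, hbe]
  · show F (τ (x * y)) = F (τ (y * x))
    have hsplit : ∀ u v : A, τ (u * v) = ∑ i, ∑ j,
        (⟨(U.b i * u * U.a j) * (U.b j * v * U.a i), hmulC (hτmem u i j) (hτmem v j i)⟩ : (corner k U.f)) := by
      intro u v
      rw [hτ]
      refine Finset.sum_congr rfl fun i _ => Subtype.ext ?_
      show U.b i * (u * v) * U.a i = _
      rw [Submodule.coe_sum]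
      have : U.b i * u * e = U.b i * u := by
        rw [mul_assoc, ← hc, ← mul_assoc, hbe]
      calc U.b i * (u * v) * U.a i = U.b i * u * e * v * U.a i := by
            rw [this, ← mul_assoc (U.b i) u v]
        _ = _ := by
            rw [show U.b i * u * e = U.b i * u * ∑ j, U.a j * U.b j by rw [U.sum_eq],
              Finset.mul_sum, Finset.sum_mul, Finset.sum_mul]
            simp [mul_assoc]
    rw [hsplit, hsplit, map_sum, map_sum]
    simp only [map_sum]
    rw [Finset.sum_comm]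
    exact Finset.sum_congr rfl fun i _ => Finset.sum_congr rfl fun j _ =>
      hF ⟨_, hτmem x j i⟩ ⟨_, hτmem y i j⟩ _ _
  · show F (τ c) = F c
    obtain ⟨hc1, hc2⟩ := mem_corner.mp c.2
    have hb : ∀ i, U.b i * U.f ∈ (corner k U.f) := fun i =>
      mem_corner.mpr ⟨by rw [← mul_assoc, U.f_b], by rw [mul_assoc, U.f_idem]⟩
    have ha : ∀ i, (c : A) * U.a i ∈ (corner k U.f) := fun i =>
      mem_corner.mpr ⟨by rw [← mul_assoc, hc1], by rw [mul_assoc, U.a_f]⟩
    rw [hτ, map_sum]
    have e1 : ∀ i, F ⟨U.b i * c * U.a i, hτmem c i i⟩ =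
        F ⟨((c : A) * U.a i) * (U.b i * U.f), hmulC (ha i) (hb i)⟩ := fun i => by
      rw [← hF ⟨_, hb i⟩ ⟨_, ha i⟩ (hmulC (hb i) (ha i))]
      congr 1
      apply Subtype.ext
      show U.b i * c * U.a i = U.b i * U.f * ((c : A) * U.a i)
      rw [mul_assoc (U.b i) U.f, ← mul_assoc U.f, hc1, mul_assoc]
    rw [Finset.sum_congr rfl fun i _ => e1 i, ← map_sum]
    congr 1
    apply Subtype.ext
    rw [Submodule.coe_sum]
    show ∑ i, (c : A) * U.a i * (U.b i * U.f) = c
    calc ∑ i, (c : A) * U.a i * (U.b i * U.f) = (c : A) * (∑ i, U.a i * U.b i) * U.f := by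
          rw [Finset.mul_sum, Finset.sum_mul]; simp [mul_assoc]
      _ = c := by rw [U.sum_eq, mul_assoc, U.e_f, hc2]

/-- A central nilpotent element is killed by a full matrix representation. -/
theorem map_eq_zero_of_central (hπ : Function.Surjective π) {x : A} (hx : ∀ y, Commute x y)
    (hnil : IsNilpotent x) : π x = 0 := by
  classical
  rcases isEmpty_or_nonempty (Fin n) with _ | _
  · exact Subsingleton.elim _ _
  obtain ⟨s, hs⟩ := Matrix.mem_range_scalar_of_commute_single (M := π x) (fun i j _ => by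
    obtain ⟨y, hy⟩ := hπ (Matrix.single i j 1)
    rw [← hy]
    exact ((hx y).map π).symm)
  obtain ⟨r, hr⟩ := hnil
  replace hr : π x ^ r = 0 := by rw [← map_pow, hr, map_zero]
  rw [← hs, ← map_pow] at hr
  obtain ⟨i⟩ := ‹Nonempty (Fin n)›
  have h3 : s ^ r = 0 := by
    have := congrFun (congrFun hr i) i
    simpa using this
  rw [← hs, eq_zero_of_pow_eq_zero h3, map_zero]

variable (he : e * e = e) (hc : ∀ x : A, e * x = x * e) (hπ : Function.Surjective π)
  (hπe : π e = 1) {N : ℕ} (hN : kerPart π e ^ (N + 1) = ⊥) (U : Units π e i₀)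
  {τ : Dual k A} (hτ : ∀ x y, τ (x * y) = τ (y * x)) (hnd : ∀ x, (∀ y, τ (x * y) = 0) → x = 0)
  {z : A} (hz : ∀ x, Commute z x) (hez : e * z = z) {m : ℕ} (hzm : z ^ m * e ≠ 0)
  (hzm1 : z ^ (m + 1) = 0) (hdim : finrank k (traceForms k e) ≤ m + 1)

include he hc hπ hπe hN hτ hnd hz hez hzm hzm1 hdim

set_option maxHeartbeats 1000000 in
/-- **The corner is spanned by the powers of `z`.** -/
theorem corner_le_span :
    corner k U.f ≤ Submodule.span k (Set.range fun j : Fin (m + 1) => z ^ (j : ℕ) * U.f) := by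
  classical
  set R := corner k U.f with hR
  set W := Submodule.span k (Set.range fun j : Fin (m + 1) => z ^ (j : ℕ) * U.f) with hW
  have hzj : ∀ (j : ℕ) (x : A), Commute (z ^ j) x := fun j x => (hz x).pow_left j
  have hfR : U.f ∈ R := mem_corner.mpr ⟨U.f_idem, U.f_idem⟩
  have hzR : ∀ (j : ℕ) {x : A}, x ∈ R → z ^ j * x ∈ R := fun j {x} hx =>
    mem_corner.mpr ⟨by rw [← mul_assoc, ← (hzj j U.f).eq, mul_assoc, (mem_corner.mp hx).1],
      by rw [mul_assoc, (mem_corner.mp hx).2]⟩
  have hmulR : ∀ {x y : A}, x ∈ R → y ∈ R → x * y ∈ R := fun {x y} hx hy =>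
    mem_corner.mpr ⟨by rw [← mul_assoc, (mem_corner.mp hx).1],
      by rw [mul_assoc, (mem_corner.mp hy).2]⟩
  have hWR : W ≤ R := Submodule.span_le.mpr (by rintro _ ⟨j, rfl⟩; exact hzR _ hfR)
  have hzer : ∀ j, m < j → z ^ j = 0 := fun j hj => by
    rw [← Nat.add_sub_cancel' (show m + 1 ≤ j by omega), pow_add, hzm1, zero_mul]
  -- the trace forms
  have heze : ∀ j, e * (z ^ j * e) = z ^ j * e := fun j => by
    rw [← mul_assoc, hc, mul_assoc, he]
  let Ψ : Fin (m + 1) → Dual k A := fun j => τ ∘ₗ LinearMap.mulLeft k (z ^ (j : ℕ) * e)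
  have hΨ : ∀ j, Ψ j ∈ traceForms k e := fun j => by
    refine mem_traceForms.mpr ⟨fun x => ?_, fun x y => ?_⟩
    · show τ (z ^ (j : ℕ) * e * (e * x)) = τ (z ^ (j : ℕ) * e * x)
      rw [← mul_assoc, mul_assoc _ e e, he]
    · show τ (z ^ (j : ℕ) * e * (x * y)) = τ (z ^ (j : ℕ) * e * (y * x))
      have hcen : ∀ w, Commute (z ^ (j : ℕ) * e) w := fun w =>
        (hzj _ w).mul_left (show Commute e w from hc w)
      rw [← mul_assoc, hτ, ← mul_assoc, ← (hcen y).eq, mul_assoc]
  have hlow : ∀ c : Fin (m + 1) → k, (∑ j, c j • (z ^ (j : ℕ) * e) = 0) → ∀ j, c j = 0 := by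
    intro c hsum
    by_contra hne
    push Not at hne
    obtain ⟨j₁, hj₁⟩ := hne
    set S := Finset.univ.filter fun j => c j ≠ 0 with hS
    have hSne : S.Nonempty := ⟨j₁, by simp [hS, hj₁]⟩
    set j := S.min' hSne with hj
    have h1 := congrArg (z ^ (m - (j : ℕ)) * ·) hsum
    simp only [Finset.mul_sum, mul_smul_comm, mul_zero, ← mul_assoc, ← pow_add] at h1
    rw [Finset.sum_eq_single j] at h1
    · rw [Nat.sub_add_cancel (by omega : (j : ℕ) ≤ m)] at h1
      exact hzm ((smul_eq_zero.mp h1).resolve_left (Finset.mem_filter.mp (S.min'_mem hSne)).2)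
    · intro i _ hi
      by_cases hci : c i = 0
      · rw [hci, zero_smul]
      · have hle : j ≤ i := S.min'_le i (Finset.mem_filter.mpr ⟨Finset.mem_univ _, hci⟩)
        have hlt : (j : ℕ) < i := lt_of_le_of_ne (Fin.le_def.mp hle) fun h => hi (Fin.ext h.symm)
        rw [hzer _ (by omega), zero_mul, smul_zero]
    · simp
  have hnul : ∀ c : Fin (m + 1) → k, (∑ j, c j • Ψ j = 0) → ∀ j, c j = 0 := fun c h => by
    refine hlow c (hnd _ fun y => ?_)
    have := LinearMap.congr_fun h y
    simpa [Ψ, Finset.sum_mul, smul_mul_assoc, mul_assoc] using this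
  have hli : LinearIndependent k Ψ := Fintype.linearIndependent_iff.mpr fun c h => hnul c h
  have hspanΨ : ∀ Φ ∈ traceForms k e, ∃ c : Fin (m + 1) → k, ∑ j, c j • Ψ j = Φ := by
    intro Φ hΦ
    have hcard : finrank k (Submodule.span k (Set.range Ψ)) = m + 1 :=
      (finrank_span_eq_card hli).trans (Fintype.card_fin _)
    have htop : Submodule.span k (Set.range Ψ) = traceForms k e :=
      Submodule.eq_of_le_of_finrank_le (Submodule.span_le.mpr (Set.range_subset_iff.mpr hΨ))
        (hdim.trans hcard.ge)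
    exact (Submodule.mem_span_range_iff_exists_fun k).mp (htop.symm ▸ hΦ)
  -- the character of the representation is the last of them
  have hπz : π z = 0 := map_eq_zero_of_central hπ hz ⟨m + 1, hzm1⟩
  have htrace : (Matrix.traceLinearMap (Fin n) k k ∘ₗ π.toLinearMap) ∈ traceForms k e := by
    refine mem_traceForms.mpr ⟨fun x => ?_, fun x y => ?_⟩
    · show (π (e * x)).trace = (π x).trace
      rw [map_mul, hπe, one_mul]
    · show (π (x * y)).trace = (π (y * x)).trace
      rw [map_mul, map_mul, Matrix.trace_mul_comm]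
  obtain ⟨ct, hct⟩ := hspanΨ _ htrace
  have hshift : ∀ j : Fin (m + 1), (j : ℕ) < m → ct j = 0 := by
    have h1 : ∑ j, ct j • (z ^ ((j : ℕ) + 1) * e) = 0 := by
      refine hnd _ fun y => ?_
      have := LinearMap.congr_fun hct (z * y)
      simp only [LinearMap.coe_sum, Finset.sum_apply, LinearMap.smul_apply, Ψ, LinearMap.comp_apply,
        LinearMap.mulLeft_apply, AlgHom.toLinearMap_apply, Matrix.traceLinearMap_apply, map_mul,
        hπz, zero_mul, Matrix.trace_zero] at this
      rw [Finset.sum_mul, map_sum, ← this]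
      refine Finset.sum_congr rfl fun j _ => ?_
      rw [smul_mul_assoc, map_smul]
      congr 2
      rw [pow_succ, mul_assoc _ z e, ← hc z, ← mul_assoc (z ^ (j : ℕ)) e z, mul_assoc]
    intro j hj
    by_contra hne
    set S := Finset.univ.filter fun i : Fin (m + 1) => ct i ≠ 0 ∧ (i : ℕ) < m with hS
    have hSne : S.Nonempty := ⟨j, by simp [hS, hne, hj]⟩
    obtain ⟨hi1, hi2⟩ := (Finset.mem_filter.mp (S.min'_mem hSne)).2
    set i := S.min' hSne with hi
    have h2 := congrArg (z ^ (m - (i : ℕ) - 1) * ·) h1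
    simp only [Finset.mul_sum, mul_smul_comm, mul_zero, ← mul_assoc, ← pow_add] at h2
    rw [Finset.sum_eq_single i] at h2
    · rw [show m - (i : ℕ) - 1 + ((i : ℕ) + 1) = m by omega] at h2
      exact hzm ((smul_eq_zero.mp h2).resolve_left hi1)
    · intro l _ hl
      by_cases hcl : ct l = 0
      · rw [hcl, zero_smul]
      · by_cases hlm : (l : ℕ) < m
        · have hlt : (i : ℕ) < l := lt_of_le_of_ne
            (Fin.le_def.mp (S.min'_le l (Finset.mem_filter.mpr ⟨Finset.mem_univ _, hcl, hlm⟩)))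
            fun h => hl (Fin.ext h.symm)
          rw [hzer _ (by omega), zero_mul, smul_zero]
        · rw [hzer _ (by omega), zero_mul, smul_zero]
    · simp
  let top : Fin (m + 1) := ⟨m, Nat.lt_succ_self m⟩
  have htr : ∀ x, (π x).trace = ct top * Ψ top x := fun x => by
    have := LinearMap.congr_fun hct x
    simp only [LinearMap.coe_sum, Finset.sum_apply, LinearMap.smul_apply, smul_eq_mul] at this
    rw [Finset.sum_eq_single top] at this
    · exact this.symm
    · intro j _ hj
      rw [hshift j (lt_of_le_of_ne (Nat.lt_succ_iff.mp j.2) fun h => hj (Fin.ext h)), zero_mul]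
    · simp
  have hctne : ct top ≠ 0 ∧ Ψ top U.f ≠ 0 := by
    have h1 := htr U.f
    rw [U.pi_f, Matrix.trace_single_eq_same] at h1
    exact ⟨fun h => by simp [h] at h1, fun h => by simp [h] at h1⟩
  -- the elements killed by all trace forms
  let T : R →ₗ[k] (Fin (m + 1) → k) := LinearMap.pi fun j => Ψ j ∘ₗ R.subtype
  have hindep : ∀ c : Fin (m + 1) → k,
      (∀ l, Ψ l (∑ j, c j • (z ^ (j : ℕ) * U.f)) = 0) → ∀ j, c j = 0 := by
    intro c hall
    by_contra hne
    push Not at hne
    obtain ⟨j₁, hj₁⟩ := hne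
    set S := Finset.univ.filter fun j => c j ≠ 0 with hS
    have hSne : S.Nonempty := ⟨j₁, by simp [hS, hj₁]⟩
    set i := S.min' hSne with hi
    have h1 := hall ⟨m - (i : ℕ), by omega⟩
    simp only [map_sum, map_smul, smul_eq_mul] at h1
    have hval : ∀ j : Fin (m + 1), Ψ ⟨m - (i : ℕ), by omega⟩ (z ^ (j : ℕ) * U.f) =
        τ (z ^ (m - (i : ℕ) + (j : ℕ)) * e * U.f) := fun j => by
      show τ (z ^ (m - (i : ℕ)) * e * (z ^ (j : ℕ) * U.f)) = _
      rw [mul_assoc _ e, ← mul_assoc e, ← (hzj j e).eq, mul_assoc (z ^ (j : ℕ)), ← mul_assoc,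
        ← pow_add, mul_assoc]
    simp only [hval] at h1
    rw [Finset.sum_eq_single i] at h1
    · rw [Nat.sub_add_cancel (by omega : (i : ℕ) ≤ m)] at h1
      exact (mul_ne_zero (Finset.mem_filter.mp (S.min'_mem hSne)).2 hctne.2) h1
    · intro j _ hj
      by_cases hcj : c j = 0
      · rw [hcj, zero_mul]
      · have hlt : (i : ℕ) < j := lt_of_le_of_ne
          (Fin.le_def.mp (S.min'_le j (Finset.mem_filter.mpr ⟨Finset.mem_univ _, hcj⟩)))
          fun h => hj (Fin.ext h.symm)
        rw [hzer _ (by omega), zero_mul, zero_mul, map_zero, mul_zero]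
    · simp
  have hdec : ∀ x : R, ∃ w ∈ W, ∀ l, Ψ l ((x : A) - w) = 0 := by
    intro x
    let L : (Fin (m + 1) → k) →ₗ[k] (Fin (m + 1) → k) :=
      { toFun := fun c l => Ψ l (∑ j, c j • (z ^ (j : ℕ) * U.f))
        map_add' := fun c c' => by funext l; simp [add_smul, Finset.sum_add_distrib]
        map_smul' := fun r c => by funext l; simp [← smul_smul, ← Finset.smul_sum] }
    have hinj : Function.Injective L := by
      rw [injective_iff_map_eq_zero]
      exact fun c h => funext fun j => hindep c (fun l => congrFun h l) j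
    obtain ⟨c, hcx⟩ := LinearMap.injective_iff_surjective.mp hinj (fun l => Ψ l (x : A))
    refine ⟨∑ j, c j • (z ^ (j : ℕ) * U.f), Submodule.sum_mem _ fun j _ =>
      Submodule.smul_mem _ _ (Submodule.subset_span ⟨j, rfl⟩), fun l => ?_⟩
    rw [map_sub, show Ψ l (x : A) = L c l from (congrFun hcx l).symm]
    exact sub_self _
  set Z : Submodule k A := R ⊓ ⨅ l, LinearMap.ker (Ψ l) with hZ
  have hmemZ : ∀ {x}, x ∈ Z ↔ x ∈ R ∧ ∀ l, Ψ l x = 0 := fun {x} => by
    simp [hZ, Submodule.mem_iInf, LinearMap.mem_ker]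
  have hcommW : ∀ w ∈ W, ∀ y ∈ R, w * y = y * w := by
    intro w hw y hy
    induction hw using Submodule.span_induction with
    | mem x hx =>
      obtain ⟨j, rfl⟩ := hx
      rw [mul_assoc, (mem_corner.mp hy).1, ← mul_assoc, ← (hzj j y).eq, mul_assoc,
        (mem_corner.mp hy).2]
    | zero => simp
    | add a b _ _ ha hb => rw [add_mul, mul_add, ha, hb]
    | smul r a _ ha => rw [smul_mul_assoc, mul_smul_comm, ha]
  -- the commutators lie in the square
  have hZsq : Z ≤ Z * Z := by
    intro x hx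
    obtain ⟨hxR, hxΨ⟩ := hmemZ.mp hx
    by_contra hnot
    obtain ⟨F, hF0, hF⟩ := Submodule.exists_dual_map_eq_bot_of_notMem hnot inferInstance
    have hFsym : ∀ (a b : R) (h h'), (F ∘ₗ R.subtype) ⟨(a : A) * b, h⟩ =
        (F ∘ₗ R.subtype) ⟨(b : A) * a, h'⟩ := by
      intro a b _ _
      show F ((a : A) * b) = F ((b : A) * a)
      obtain ⟨w, hw, hwa⟩ := hdec a
      obtain ⟨v, hv, hvb⟩ := hdec b
      have ha' : (a : A) - w ∈ Z := hmemZ.mpr ⟨R.sub_mem a.2 (hWR hw), hwa⟩
      have hb' : (b : A) - v ∈ Z := hmemZ.mpr ⟨R.sub_mem b.2 (hWR hv), hvb⟩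
      have hzero : ∀ u ∈ Z * Z, F u = 0 := fun u hu => by
        have := Submodule.mem_map_of_mem (f := F) hu
        rwa [hF] at this
      rw [← sub_eq_zero, ← map_sub]
      refine hzero _ ?_
      have e1 : (a : A) * b - b * a = ((a : A) - w) * (b - v) - (b - v) * (a - w) := by
        simp only [sub_mul, mul_sub]
        rw [hcommW w hw b b.2, hcommW v hv a a.2, hcommW w hw v (hWR hv)]
        abel
      rw [e1]
      exact Submodule.sub_mem _ (Submodule.mul_mem_mul ha' hb') (Submodule.mul_mem_mul hb' ha')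
    obtain ⟨Φ, hΦ, hΦF⟩ := exists_extension he hc U (F ∘ₗ R.subtype) hFsym
    obtain ⟨c, hcΦ⟩ := hspanΨ Φ hΦ
    refine hF0 ?_
    have h1 := hΦF ⟨x, hxR⟩
    rw [← hcΦ] at h1
    simp only [LinearMap.coe_sum, Finset.sum_apply, LinearMap.smul_apply, hxΨ, smul_zero,
      Finset.sum_const_zero] at h1
    exact h1.symm
  have hZker : Z ≤ kerPart π e := by
    intro x hx
    obtain ⟨hxR, hxΨ⟩ := hmemZ.mp hx
    obtain ⟨h1, h2⟩ := mem_corner.mp hxR
    refine mem_kerPart.mpr ⟨by rw [← h1, ← mul_assoc, U.e_f], ?_⟩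
    have h3 : π x = Matrix.single i₀ i₀ 1 * π x * Matrix.single i₀ i₀ 1 := by
      rw [← U.pi_f, ← map_mul, ← map_mul, h1, h2]
    have h4 : π x i₀ i₀ = 0 := by
      have h5 := htr x
      rw [hxΨ, mul_zero, h3] at h5
      simpa [Matrix.trace, Matrix.mul_apply, Matrix.single_apply, ite_and, Finset.sum_ite_eq]
        using h5
    rw [h3]
    ext i j
    simp [Matrix.mul_apply, Matrix.single_apply, ite_and, h4]
  have hZ0 : Z = ⊥ := by
    have hpow : ∀ t, Z ≤ Z ^ (t + 1) := by
      intro t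
      induction t with
      | zero => rw [pow_one]
      | succ t ih =>
        refine hZsq.trans ?_
        rw [pow_succ]
        exact mul_le_mul' ih le_rfl
    refine eq_bot_iff.mpr ((hpow N).trans ?_)
    rw [← hN]
    exact pow_le_pow_left' hZker _
  intro x hx
  obtain ⟨w, hw, hwx⟩ := hdec ⟨x, hx⟩
  have h1 : x - w ∈ Z := hmemZ.mpr ⟨R.sub_mem hx (hWR hw), hwx⟩
  rw [hZ0, Submodule.mem_bot, sub_eq_zero] at h1
  rwa [h1]

end Cfsg.Agent.Lib.CyclicBlocks.Corner
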