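import Mathlib
import Cfsg.Agent.Lib.BrauerPairs.Maximal
import Cfsg.Agent.Lib.BrauerPairs.BlockAlgebra
import Cfsg.Agent.Lib.BrauerPairs.SimpleRep
import Cfsg.Agent.Lib.CyclicBlocks.Corner

/-!
# A block with one simple module

`exists_corner`: a block of regular rank one with a central nilpotent element `X`, `X ^ m ≠ 0`, and
at most `m + 1` ordinary characters has a system of units whose corner is spanned by the powers of
`X`. `exists_trace_preimage`: a block idempotent is a relative trace from a defect group.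
-/

set_option autoImplicit false
set_option linter.style.haveILetI false
set_option linter.unusedSectionVars false
set_option synthInstance.maxHeartbeats 200000

namespace Cfsg.Agent.Lib.CyclicBlocks.LocalBlock

open MonoidAlgebra Cfsg.Agent.Lib.BrauerMap.Basic Cfsg.Agent.Lib.BrauerMap.ClassSum
open Cfsg.Agent.Lib.BrauerPairs
open Cfsg.Agent.Lib.BrauerPairs.Center Cfsg.Agent.Lib.BrauerPairs.Trunc
open Cfsg.Agent.Lib.BrauerPairs.Maximal Cfsg.Agent.Lib.BrauerPairs.Bridge
open Cfsg.Agent.Lib.BrauerPairs.Transport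
open Cfsg.Agent.Lib.BrauerPairs.CornerAlgebra Cfsg.Agent.Lib.BrauerPairs.BlockAlgebra

universe u

attribute [local instance] Ideal.Quotient.field

variable {M : Ideal Cfsg.AlgInt} [M.IsMaximal] {G : Type u} [Group G] [Finite G]
  {p : ℕ} [Fact p.Prime] [CharP (Res M) p]

local notation "k" => Res M

theorem eBar_eq_bidem [Fintype G] (ω : Blk k G) : eBar (isPBlock_toSet ω) = bidem ω := by
  rw [eBar, ← idem_eq_blockIdemBar, blk_toSet]
  rfl

/-- The system of units. -/
theorem exists_corner (hM : Cfsg.IsPModular p M) {ω : Blk k G}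
    (hl : Cfsg.blockRank p (toSet ω) = 1) {m : ℕ} {X : MonoidAlgebra k G}
    (hX : X ∈ Subalgebra.center k (MonoidAlgebra k G)) (hbX : bidem ω * X = X)
    (hnil : IsNilpotent X) (hXm : X ^ m ≠ 0) (hk : Nat.card (toSet ω) ≤ m + 1) :
    ∃ (N d : ℕ) (f : MonoidAlgebra k G) (a b : Fin d → MonoidAlgebra k G),
      m ≤ N ∧ X ^ (N + 1) = 0 ∧ X ^ N * f ≠ 0 ∧ f * f = f ∧ bidem ω * f = f ∧
      (∀ i, bidem ω * a i = a i) ∧ (∀ i, a i * f = a i) ∧ (∀ i, f * b i = b i) ∧
      ∑ i, a i * b i = bidem ω ∧
      ∀ x, f * x * f ∈ Submodule.span k (Set.range fun j : Fin (N + 1) => X ^ (j : ℕ) * f) := by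
  classical
  haveI := Fintype.ofFinite G
  have hcomm : ∀ x, Commute X x := fun x => (Subalgebra.mem_center_iff.mp hX x).symm
  obtain ⟨N, hN1, hN0⟩ : ∃ N, X ^ (N + 1) = 0 ∧ X ^ N ≠ 0 := by
    obtain ⟨r, hr⟩ := hnil
    have hex : ∃ r, X ^ r = 0 := ⟨r, hr⟩
    refine ⟨Nat.find hex - 1, ?_, ?_⟩
    · rw [Nat.sub_add_cancel (Nat.one_le_iff_ne_zero.mpr fun h => ?_)]
      · exact Nat.find_spec hex
      · have := Nat.find_spec hex
        rw [h, pow_zero] at this
        exact hXm (by rw [← one_mul (X ^ m), this, zero_mul])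
    · intro h
      have h1 := Nat.find_min' hex h
      have h2 : Nat.find hex ≠ 0 := fun h0 => by
        have := Nat.find_spec hex
        rw [h0, pow_zero] at this
        exact hXm (by rw [← one_mul (X ^ m), this, zero_mul])
      omega
  have hmN : m ≤ N := by
    by_contra hlt
    exact hXm (by rw [← Nat.add_sub_cancel' (show N + 1 ≤ m by omega), pow_add, hN1, zero_mul])
  set hB := isPBlock_toSet (M := M) ω
  have he := eBar_eq_bidem ω
  have heb : ∀ x, bidem ω * x = x * bidem ω := fun x =>
    (Subalgebra.mem_center_iff.mp (bidem_mem ω) x).symm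
  have hee : bidem ω * bidem ω = bidem ω := (bidem_isIdem ω).eq
  have hne : bidem ω ≠ 0 := fun h => idem_ne_zero ω (Subtype.ext h)
  obtain ⟨n, hn, π, hπ, hπe⟩ := SimpleRep.exists_rep («k» := Res M) hee heb hne
  obtain ⟨L, hL⟩ := SimpleRep.exists_prod_eq_zero («k» := Res M) hee heb
    (S := (kerPart π (bidem ω) : Set (MonoidAlgebra k G)))
    (fun x hx => (mem_kerPart.mp hx).1) (fun r ρ hρ hρe x hx => by
      rcases Nat.eq_zero_or_pos r with rfl | hr
      · exact Subsingleton.elim _ _
      obtain ⟨y, hy⟩ := hπ (Matrix.single ⟨0, hn⟩ ⟨0, hn⟩ 1)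
      refine SimpleRep.eq_zero_of_trace fun Y => ?_
      obtain ⟨a, rfl⟩ := hρ Y
      rw [← map_mul]
      have h := trace_mul_trace hM hB hl hn hr π ρ (by rw [he]; exact hπe) (by rw [he]; exact hρe)
        y (a * x)
      rw [hy, Matrix.trace_single_eq_same, one_mul, map_mul π, (mem_kerPart.mp hx).2, mul_zero,
        Matrix.trace_zero, zero_mul] at h
      exact h)
  rw [Submodule.span_eq] at hL
  obtain ⟨U⟩ := exists_units hee heb hπ hπe hL ⟨0, hn⟩
  let τ : Module.Dual k (MonoidAlgebra k G) :=
    { toFun := fun x => x.coeff 1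
      map_add' := fun x y => by simp
      map_smul' := fun r x => by simp }
  have hτ : ∀ x y, τ (x * y) = τ (y * x) := fun x y => by
    show (x * y).coeff 1 = (y * x).coeff 1
    rw [coeff_mul_sum, coeff_mul_sum]
    refine Fintype.sum_equiv (Equiv.inv G) _ _ fun g => ?_
    simp [mul_comm]
  have hnd : ∀ x, (∀ y, τ (x * y) = 0) → x = 0 := fun x h => by
    ext g
    have h1 : (x * single g⁻¹ (1 : k)).coeff 1 = 0 := h _
    simpa using h1
  have hXNe : X ^ N * bidem ω ≠ 0 := by
    rcases Nat.eq_zero_or_pos N with h0 | h0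
    · rw [h0, pow_zero, one_mul]
      exact hne
    · obtain ⟨t, rfl⟩ : ∃ t, N = t + 1 := ⟨N - 1, by omega⟩
      rwa [pow_succ, mul_assoc, ← heb, hbX, ← pow_succ]
  have hdim : Module.finrank k (traceForms k (bidem ω)) ≤ N + 1 := by
    rw [← he, finrank_traceForms hB]
    omega
  have hspan := Corner.corner_le_span hee heb hπ hπe hL U hτ hnd hcomm hbX hXNe hN1 hdim
  have hf : ∀ x, U.f * x * U.f ∈ corner k U.f := fun x =>
    mem_corner.mpr ⟨by rw [← mul_assoc, ← mul_assoc, U.f_idem], by rw [mul_assoc, U.f_idem]⟩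
  refine ⟨N, n, U.f, U.a, U.b, hmN, hN1, ?_, U.f_idem, U.e_f, U.e_a, U.a_f, U.f_b, U.sum_eq,
    fun x => hspan (hf x)⟩
  intro h
  refine hXNe ?_
  rw [← U.sum_eq, Finset.mul_sum]
  refine Finset.sum_eq_zero fun i _ => ?_
  calc X ^ N * (U.a i * U.b i) = X ^ N * U.a i * (U.f * U.b i) := by rw [U.f_b, mul_assoc]
    _ = U.a i * (X ^ N * U.f) * U.b i := by
        rw [((hcomm (U.a i)).pow_left N).eq]; simp only [mul_assoc]
    _ = 0 := by rw [h, mul_zero, zero_mul]

set_option maxHeartbeats 1000000 in
/-- The block idempotent is a relative trace from a defect group. -/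
theorem exists_trace_preimage (ω : Blk k G) {D : Subgroup G} (hD : IsDef p ω D) :
    ∃ a : MonoidAlgebra k G, (∀ u ∈ D, conjA u a = a) ∧
      ∀ [Fintype (G ⧸ D)], bidem ω = ∑ q : G ⧸ D, conjA q.out a := by
  classical
  haveI := Fintype.ofFinite G
  obtain ⟨g, -, hg, S, hS⟩ := hD
  have hDC : D ≤ Subgroup.centralizer ({g} : Set G) := hS ▸ Subgroup.map_subtype_le _
  set m := D.relIndex (Subgroup.centralizer ({g} : Set G)) with hm
  have hmp : (m : k) ≠ 0 := by
    rw [Ne, CharP.cast_eq_zero_iff k p]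
    have h1 : D.subgroupOf (Subgroup.centralizer ({g} : Set G)) =
        (S : Subgroup (Subgroup.centralizer ({g} : Set G))) := by
      rw [hS, Subgroup.subgroupOf,
        Subgroup.comap_map_eq_self_of_injective (Subgroup.subtype_injective _)]
    show ¬ p ∣ (D.subgroupOf (Subgroup.centralizer ({g} : Set G))).index
    rw [h1]
    exact S.not_dvd_index
  -- the inverse in the block
  set c := ω (classSumC k g) with hc
  set w : ZAlg k G := idem ω * (c⁻¹ • classSumC k g - 1) with hw
  have hwn : IsNilpotent w := by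
    refine isNilpotent_of_forall_hom («k» := Res M) fun φ => ?_
    rw [hw, map_mul]
    by_cases hφ : φ = ω
    · rw [hφ, map_sub, map_smul, smul_eq_mul, inv_mul_cancel₀ hg, map_one, sub_self, mul_zero]
    · rw [apply_idem_ne hφ, zero_mul]
  obtain ⟨v, hv⟩ := hwn.isUnit_one_add.exists_right_inv
  set v' : ZAlg k G := c⁻¹ • (v * idem ω) with hv'
  have hinv : classSumC k g * v' = idem ω := by
    have h1 : idem ω * (1 + w) = idem ω * (c⁻¹ • classSumC k g) := by
      rw [hw, mul_add, mul_one, ← mul_assoc, (idem_isIdem ω).eq]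
      have h2 := (mul_add (idem ω) 1 (c⁻¹ • classSumC k g - 1)).symm
      rw [mul_one, add_sub_cancel] at h2
      exact h2
    calc classSumC k g * v' = idem ω * (c⁻¹ • classSumC k g) * v := by
          rw [hv']; simp only [mul_smul_comm, smul_mul_assoc]; ring_nf
      _ = idem ω * ((1 + w) * v) := by rw [← h1, mul_assoc]
      _ = idem ω := by rw [hv, mul_one]
  set a : MonoidAlgebra k G := (m : k)⁻¹ • (single g 1 * (v' : MonoidAlgebra k G)) with ha
  have hfixv : ∀ x, conjA x (v' : MonoidAlgebra k G) = v' := fun x =>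
    conjA_eq_of_mem_center v'.2 x
  have hconjg : ∀ x, conjA x (single g (1 : k)) = single (x * g * x⁻¹) 1 := fun x => by
    ext h
    rw [coeff_conjA, coeff_single, coeff_single, Finsupp.single_apply, Finsupp.single_apply]
    refine if_congr ⟨fun e => ?_, fun e => ?_⟩ rfl rfl
    · rw [e]; group
    · rw [← e]; group
  refine ⟨a, fun u hu => ?_, fun {_} => ?_⟩
  · rw [ha, map_smul, map_mul, hconjg, hfixv,
      Subgroup.mem_centralizer_singleton_iff.mp (hDC hu), mul_inv_cancel_right]
  · simp only [ha, map_smul, map_mul, hfixv, ← Finset.smul_sum, ← Finset.sum_mul]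
    have hsum : ∑ q : G ⧸ D, conjA q.out (single g (1 : k)) =
        (m : k) • (classSumC k g : MonoidAlgebra k G) := by
      ext h
      simp only [hconjg, MonoidAlgebra.coeff_sum, Finsupp.finsetSum_apply, coeff_single,
        Finsupp.single_apply, MonoidAlgebra.coeff_smul, Finsupp.smul_apply, classSumC, coeff_classSum,
        smul_eq_mul, Finset.sum_boole]
      split_ifs with hh
      · rw [mul_one]
        congr 1
        obtain ⟨x, hx⟩ := isConj_iff.mp hh
        rw [hm, Subgroup.relIndex, Subgroup.index, ← Fintype.card_subtype, ← Nat.card_eq_fintype_card]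
        refine (Nat.card_congr (Equiv.ofBijective (fun r : Subgroup.centralizer ({g} : Set G) ⧸
            D.subgroupOf (Subgroup.centralizer ({g} : Set G)) =>
          (⟨QuotientGroup.mk (x * (r.out : G)), ?_⟩ :
            {q : G ⧸ D // q.out * g * q.out⁻¹ = h})) ⟨?_, ?_⟩)).symm
        · obtain ⟨d, hd⟩ := QuotientGroup.mk_out_eq_mul D (x * (r.out : G))
          have h1 := Subgroup.mem_centralizer_singleton_iff.mp (r.out).2
          have h2 := Subgroup.mem_centralizer_singleton_iff.mp (hDC d.2)
          rw [hd, ← hx]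
          calc x * (r.out : G) * (d : G) * g * (x * (r.out : G) * (d : G))⁻¹
              = x * (r.out : G) * ((d : G) * g) * (d : G)⁻¹ * (r.out : G)⁻¹ * x⁻¹ := by group
            _ = x * ((r.out : G) * g) * (r.out : G)⁻¹ * x⁻¹ := by rw [h2]; group
            _ = x * g * x⁻¹ := by rw [h1]; group
        · intro r r' e
          have e' := QuotientGroup.eq.mp (congrArg Subtype.val e)
          rw [← QuotientGroup.out_eq' r, ← QuotientGroup.out_eq' r']
          refine QuotientGroup.eq.mpr (Subgroup.mem_subgroupOf.mpr ?_)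
          simpa [mul_assoc] using e'
        · rintro ⟨q, hq⟩
          refine ⟨QuotientGroup.mk ⟨x⁻¹ * q.out, ?_⟩, Subtype.ext ?_⟩
          · rw [Subgroup.mem_centralizer_singleton_iff]
            rw [← hx, mul_inv_eq_iff_eq_mul] at hq
            calc x⁻¹ * q.out * g = x⁻¹ * (q.out * g) := by group
              _ = _ := by rw [hq]; group
          · show _ = q
            conv_rhs => rw [← QuotientGroup.out_eq' q]
            refine QuotientGroup.eq.mpr ?_
            obtain ⟨d, hd⟩ := QuotientGroup.mk_out_eq_mul (D.subgroupOf (Subgroup.centralizer ({g} : Set G)))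
              (⟨x⁻¹ * q.out, _⟩ : Subgroup.centralizer ({g} : Set G))
            rw [hd]
            simpa [mul_assoc] using inv_mem (Subgroup.mem_subgroupOf.mp d.2)
      · rw [mul_zero, Finset.filter_false_of_mem, Finset.card_empty, Nat.cast_zero]
        exact fun q _ e => hh (isConj_iff.mpr ⟨_, e⟩)
    rw [hsum, smul_mul_assoc, ← Subalgebra.coe_mul, hinv]
    ext h
    simp only [MonoidAlgebra.coeff_smul, Finsupp.smul_apply, smul_eq_mul, ← mul_assoc,
      inv_mul_cancel₀ hmp, one_mul]
    rfl

end Cfsg.Agent.Lib.CyclicBlocks.LocalBlock
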