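import Mathlib
import Cfsg.Agent.Lib.BrauerPairs.Abelian
import Cfsg.Agent.Lib.BrauerPairs.CentralRank
import Cfsg.Agent.Lib.BrauerPairs.Bridge
import Cfsg.Agent.Lib.Blocks.Orthogonality

/-!
# A nilpotent central element of full length

In a block with cyclic defect group `P` of order `n` whose maximal pair is centralised by its
stabilizer there is a nilpotent element `X` of the centre of the block with `X ^ (n - 1) ≠ 0`.
-/

set_option autoImplicit false
set_option linter.style.haveILetI false
set_option linter.unusedSectionVars false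

namespace Cfsg.Agent.Lib.CyclicBlocks.Pi

open MonoidAlgebra Cfsg.Agent.Lib.BrauerMap.Basic
open Cfsg.Agent.Lib.BrauerPairs
open Cfsg.Agent.Lib.BrauerPairs.Center Cfsg.Agent.Lib.BrauerPairs.Trunc
open Cfsg.Agent.Lib.BrauerPairs.Conj Cfsg.Agent.Lib.BrauerPairs.Pairs
open Cfsg.Agent.Lib.BrauerPairs.Transport Cfsg.Agent.Lib.BrauerPairs.Maximal
open Cfsg.Agent.Lib.BrauerPairs.Bridge Cfsg.Agent.Lib.BrauerPairs.Embed
open Cfsg.Agent.Lib.BrauerPairs.Local

universe u

attribute [local instance] Ideal.Quotient.field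

variable {M : Ideal Cfsg.AlgInt} [M.IsMaximal] {G : Type u} [Group G] [Finite G]
  {p : ℕ} [Fact p.Prime] [CharP (Res M) p]

local notation "C[" P "]" => Subgroup.centralizer ((P : Subgroup G) : Set G)
local notation "k" => Res M

theorem sum_pow_eq_sub_one_pow (a : ℕ) :
    ∑ j ∈ Finset.range (p ^ a), (Polynomial.X : Polynomial k) ^ j =
      (Polynomial.X - 1) ^ (p ^ a - 1) := by
  have hne : (Polynomial.X - 1 : Polynomial k) ≠ 0 := by
    simpa using Polynomial.X_sub_C_ne_zero (1 : k)
  refine mul_right_cancel₀ hne ?_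
  rw [geom_sum_mul, ← pow_succ, Nat.sub_add_cancel (Nat.one_le_pow _ _ (Fact.out : p.Prime).pos),
    sub_pow_char_pow_of_commute _ _ (Commute.one_right _), one_pow]

/-- A nontrivial translate of a regular element by an element of `P` is singular. -/
theorem coeff_mul_eq_zero (hM : Cfsg.IsPModular p M) {P : Subgroup G} (hP : IsPGroup p P)
    (hab : ∀ x ∈ P, ∀ y ∈ P, x * y = y * x) (c : Blk k C[P]) {v : C[P]} (hv : (v : G) ∈ P)
    (hv1 : v ≠ 1) {g : C[P]} (hg : (bidem c).coeff g ≠ 0) : (bidem c).coeff (v * g) = 0 := by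
  have hreg : ∀ y : C[P], (bidem c).coeff y ≠ 0 → ¬ p ∣ orderOf y := by
    intro y hy hpy
    apply hy
    rw [← blk_toSet c (isPBlock_toSet c), coeff_bidem]
    refine (congrArg (Blocks.residue M) (Subtype.ext ?_ :
      (⟨Cfsg.blockCoeff (toSet c) y, _⟩ : Blocks.localRing M) = 0)).trans (map_zero _)
    exact Blocks.blockCoeff_eq_zero_of_dvd hM (isPBlock_toSet c) hpy
  by_contra h
  haveI := Fintype.ofFinite C[P]
  have hPC : P ≤ C[P] := Abelian.le_centralizer_of_le_abelian hab le_rfl
  refine hv1 (CentralRank.eq_one_of_regular (p := p) (Z := P.subgroupOf C[P])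
    (hP.of_equiv (Subgroup.subgroupOfEquivOfLe hPC).symm) ?_ (Subgroup.mem_subgroupOf.mpr hv)
    (hreg g hg) (hreg _ h))
  intro y hy
  rw [Subgroup.mem_center_iff]
  intro x
  exact Subtype.ext ((Subgroup.mem_centralizer_iff.mp x.2 (y : G) hy).symm)

set_option maxHeartbeats 1000000 in
/-- **The element.** -/
theorem exists_pi (hM : Cfsg.IsPModular p M) {ψ : Blk k G} {P : Subgroup G} {c : Blk k C[P]}
    (htop : Top p (⟨P, c⟩ : Idx k G)) (hψ : PairOf p ψ (⟨P, c⟩ : Idx k G)) {u : G}
    (hu : P = Subgroup.zpowers u)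
    (hstab : ∀ x ∈ stab (⟨P, c⟩ : Idx k G), x ∈ C[P]) :
    ∃ X : MonoidAlgebra k G, X ∈ Subalgebra.center k (MonoidAlgebra k G) ∧
      bidem ψ * X = X ∧ IsNilpotent X ∧ X ^ (Nat.card P - 1) ≠ 0 := by
  classical
  haveI := Fintype.ofFinite G
  haveI := Fintype.ofFinite (G ⧸ C[P])
  have hP : IsPGroup p P := htop.1
  have hab : ∀ x ∈ P, ∀ y ∈ P, x * y = y * x := by
    intro x hx y hy
    rw [hu] at hx hy
    obtain ⟨i, rfl⟩ := Subgroup.mem_zpowers_iff.mp hx
    obtain ⟨j, rfl⟩ := Subgroup.mem_zpowers_iff.mp hy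
    rw [← zpow_add, ← zpow_add, add_comm]
  have hPC : P ≤ C[P] := Abelian.le_centralizer_of_le_abelian hab le_rfl
  have huP : u ∈ P := hu ▸ Subgroup.mem_zpowers u
  have huC : ∀ v ∈ C[P], Commute v u := fun v hv =>
    (Subgroup.mem_centralizer_iff.mp hv u huP).symm
  set u' : C[P] := ⟨u, hPC huP⟩ with hu'
  set ε := bext C[P] c with hε
  set y : MonoidAlgebra k G := ext C[P] (single u' 1 * bidem c) with hy
  have hyC : ∀ v ∈ C[P], ∀ g, y.coeff (v * g * v⁻¹) = y.coeff g := by
    refine isFixedBy_ext_of_center (Subalgebra.mul_mem _ ?_ (bidem_mem c))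
    rw [Subalgebra.mem_center_iff]
    intro b
    induction b using MonoidAlgebra.induction_linear with
    | zero => simp
    | add f g hf hg => rw [mul_add, add_mul, hf, hg]
    | single m r =>
      rw [single_mul_single, single_mul_single, mul_one, one_mul]
      congr 1
      exact Subtype.ext (huC m m.2).eq
  have hyconj : ∀ (x v : G), v ∈ C[P] → ∀ g, y.coeff ((x * v)⁻¹ * g * (x * v)) =
      y.coeff (x⁻¹ * g * x) := fun x v hv g => by
    rw [show (x * v)⁻¹ * g * (x * v) = v⁻¹ * (x⁻¹ * g * x) * v⁻¹⁻¹ by group,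
      hyC _ (inv_mem hv)]
  have hout : ∀ (x : G) (g : G), y.coeff ((QuotientGroup.mk x : G ⧸ C[P]).out⁻¹ * g *
      (QuotientGroup.mk x : G ⧸ C[P]).out) = y.coeff (x⁻¹ * g * x) := by
    intro x g
    obtain ⟨v, hv⟩ := QuotientGroup.mk_out_eq_mul C[P] x
    rw [hv, hyconj x v v.2]
  -- the sum over the cosets
  set X₀ : MonoidAlgebra k G := ∑ q : G ⧸ C[P], conjA q.out y with hX₀
  have hX₀coeff : ∀ g, X₀.coeff g = ∑ q : G ⧸ C[P], y.coeff (q.out⁻¹ * g * q.out) := fun g => by
    rw [hX₀, MonoidAlgebra.coeff_sum, Finsupp.finsetSum_apply]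
    exact Finset.sum_congr rfl fun q _ => coeff_conjA _ _ _
  have hX₀c : X₀ ∈ Subalgebra.center k (MonoidAlgebra k G) := by
    rw [mem_center_iff_coeff]
    intro w g
    rw [hX₀coeff, hX₀coeff]
    refine Fintype.sum_equiv (MulAction.toPerm w⁻¹) _ _ fun q => ?_
    rw [MulAction.toPerm_apply]
    conv_rhs => rw [← QuotientGroup.out_eq' q, MulAction.Quotient.smul_mk, smul_eq_mul, hout]
    congr 1
    group
  -- its truncation at `P`
  set F := (Finset.univ : Finset (G ⧸ C[P])).filter
    fun q => q.out ∈ Subgroup.normalizer (P : Set G) with hF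
  have hfix0 : ∀ q : G ⧸ C[P], (∀ v : P, v • q = q) → q ∉ F → ∀ g ∈ C[P],
      y.coeff (q.out⁻¹ * g * q.out) = 0 := by
    intro q hq hqF g hg
    set x := q.out
    set R := P.map (MulAut.conj x⁻¹).toMonoidHom with hR
    have hRC : R ≤ C[P] := by
      rintro _ ⟨v, hv, rfl⟩
      have h1 : (QuotientGroup.mk (v * x) : G ⧸ C[P]) = QuotientGroup.mk x := by
        rw [← smul_eq_mul, ← MulAction.Quotient.smul_mk, QuotientGroup.out_eq']
        exact hq ⟨v, hv⟩
      have h2 := QuotientGroup.eq.mp h1.symm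
      show x⁻¹ * v * x⁻¹⁻¹ ∈ C[P]
      simpa [mul_assoc] using inv_mem (inv_mem h2)
    have hRN : R ≤ Subgroup.normalizer (P : Set G) :=
      hRC.trans (Subgroup.centralizer_le_normalizer _)
    have hlt : P < P ⊔ R := by
      refine lt_of_le_of_ne le_sup_left fun h => hqF (Finset.mem_filter.mpr ⟨Finset.mem_univ _, ?_⟩)
      have hRP : R ≤ P := sup_eq_left.mp h.symm
      have hRe : R = P := Subgroup.eq_of_le_of_card_ge hRP (card_map_conj x⁻¹ P).ge
      have := Subgroup.mem_normalizer_iff_map_conj_eq.mpr hRe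
      simpa using inv_mem this
    have hsup : IsPGroup p ↥(P ⊔ R) := hP.to_sup_of_normal_left' (hP.map _) hRN
    have htopR := (top_iff (⟨P, c⟩ : Idx k G)).mp htop
    have hbr := htopR.2 (P ⊔ R) hsup hlt (sup_le Subgroup.le_normalizer hRN)
      (isFixedBy_bext_of_le (sup_le hPC hRC) c)
    -- the conjugate of `g` centralises both
    have hg' : x⁻¹ * g * x ∈ C[R] := by
      rintro _ ⟨v, hv, rfl⟩
      show x⁻¹ * v * x⁻¹⁻¹ * (x⁻¹ * g * x) = x⁻¹ * g * x * (x⁻¹ * v * x⁻¹⁻¹)
      have := Subgroup.mem_centralizer_iff.mp hg v hv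
      calc x⁻¹ * v * x⁻¹⁻¹ * (x⁻¹ * g * x) = x⁻¹ * (v * g) * x := by group
        _ = x⁻¹ * (g * v) * x := by rw [this]
        _ = _ := by group
    by_cases hgC : x⁻¹ * g * x ∈ C[P]
    · rw [hy, show x⁻¹ * g * x = ((⟨_, hgC⟩ : C[P]) : G) from rfl, coeff_ext, coeff_single_mul_apply,
        one_mul]
      have huR : u ∈ C[P ⊔ R] := (centralizer_sup P R u).mpr ⟨hPC huP, by
        rintro w hw
        exact ((huC w (hRC hw)).eq)⟩
      have h0 := (coeff_eq_zero_iff_br _).mp hbr (((u'⁻¹ * ⟨_, hgC⟩ : C[P]) : C[P]) : G) (by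
        rw [Subgroup.coe_mul, Subgroup.coe_inv]
        exact mul_mem (inv_mem huR) ((centralizer_sup P R _).mpr ⟨hgC, hg'⟩))
      rwa [show bext C[(⟨P, c⟩ : Idx k G).1] (⟨P, c⟩ : Idx k G).2 = ext C[P] (bidem c) from rfl,
        coeff_ext] at h0
    · rw [hy, coeff_ext_of_notMem _ _ hgC]
  have hbrX₀ : ext C[P] (br P X₀) = ∑ q ∈ F, conjA q.out y := by
    ext g
    by_cases hg : g ∈ C[P]
    · rw [show g = ((⟨g, hg⟩ : C[P]) : G) from rfl, coeff_ext, coeff_br, hX₀coeff,
        MonoidAlgebra.coeff_sum, Finsupp.finsetSum_apply]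
      simp only [coeff_conjA]
      rw [sum_eq_sum_fixed hP (fun q : G ⧸ C[P] => y.coeff (q.out⁻¹ * g * q.out)) ?_]
      · rw [← Finset.sum_filter_add_sum_filter_not (Finset.univ.filter
          fun q : G ⧸ C[P] => q ∈ MulAction.fixedPoints P (G ⧸ C[P])) (fun q => q ∈ F)]
        rw [Finset.sum_eq_zero (s := Finset.filter (fun q => ¬ q ∈ F) _) fun q hq => by
          obtain ⟨h1, h2⟩ := Finset.mem_filter.mp hq
          exact hfix0 q (Finset.mem_filter.mp h1).2 h2 g hg, add_zero]
        refine Finset.sum_congr ?_ fun q _ => rfl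
        ext q
        simp only [Finset.mem_filter, Finset.mem_univ, true_and]
        refine ⟨fun h => h.2, fun h => ⟨fun v => ?_, h⟩⟩
        have hxN := (Finset.mem_filter.mp h).2
        conv_rhs => rw [← QuotientGroup.out_eq' q]
        show (v : G) • q = _
        conv_lhs => rw [← QuotientGroup.out_eq' q, MulAction.Quotient.smul_mk, smul_eq_mul]
        refine QuotientGroup.eq.mpr ?_
        have : q.out⁻¹ * (v : G) * q.out ∈ P := by
          simpa using (Subgroup.mem_normalizer_iff.mp (inv_mem hxN) (v : G)).mp v.2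
        have h3 := hPC (inv_mem this)
        simpa [mul_assoc] using h3
      · rintro ⟨v, hv⟩ q
        show y.coeff ((((v : G) • q : G ⧸ C[P])).out⁻¹ * g * (((v : G) • q : G ⧸ C[P])).out) = _
        conv_lhs => rw [← QuotientGroup.out_eq' q, MulAction.Quotient.smul_mk, smul_eq_mul, hout]
        congr 1
        have := Subgroup.mem_centralizer_iff.mp hg v hv
        calc (v * q.out)⁻¹ * g * (v * q.out) = q.out⁻¹ * (v⁻¹ * (g * v)) * q.out := by group
          _ = _ := by rw [← this]; group
    · rw [coeff_ext_of_notMem _ _ hg, MonoidAlgebra.coeff_sum, Finsupp.finsetSum_apply]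
      refine (Finset.sum_eq_zero fun q hq => ?_).symm
      rw [coeff_conjA]
      refine coeff_ext_of_notMem _ _ fun h => hg ?_
      have h2 := (mem_centralizer_conj_iff (Finset.mem_filter.mp hq).2 _).mp h
      simpa [mul_assoc] using h2
  have hmul : ext C[P] (br P X₀) * ε = y := by
    have hεε : ε * ε = ε := (bext_isIdem C[P] c).eq
    have hyε : y * ε = y := by
      rw [hy, hε, bext, ← map_mul, mul_assoc, (bidem_isIdem c).eq]
    have honeF : (QuotientGroup.mk 1 : G ⧸ C[P]) ∈ F := by
      obtain ⟨v, hv⟩ := QuotientGroup.mk_out_eq_mul C[P] (1 : G)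
      refine Finset.mem_filter.mpr ⟨Finset.mem_univ _, ?_⟩
      rw [hv, one_mul]
      exact Subgroup.centralizer_le_normalizer _ v.2
    rw [hbrX₀, Finset.sum_mul, Finset.sum_eq_single (QuotientGroup.mk 1 : G ⧸ C[P])]
    · have : conjA (QuotientGroup.mk 1 : G ⧸ C[P]).out y = y := by
        ext g
        rw [coeff_conjA, hout]
        simp
      rw [this, hyε]
    · intro q hq hne
      have hxN := (Finset.mem_filter.mp hq).2
      have hne' : act P hxN c ≠ c := fun h => hne (by
        conv_lhs => rw [← QuotientGroup.out_eq' q]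
        refine QuotientGroup.eq.mpr ?_
        have h2 : q.out ∈ C[P] := hstab _ (mem_stab_iff.mpr ⟨hxN, (act_eq_iff hxN c).mp h⟩)
        simpa using inv_mem h2)
      have h1 : conjA q.out (ε) * ε = 0 := by
        rw [hε, ← bext_act P hxN c]
        exact bext_mul_bext _ hne'
      rw [show y = ext C[P] (single u' 1) * ε from by rw [hy, hε, bext, map_mul], map_mul, mul_assoc,
        h1, mul_zero]
    · exact fun h => absurd honeF h
  -- the element
  set l₀ := ψ ⟨X₀, hX₀c⟩ with hl₀
  set Xc : ZAlg k G := idem ψ * (⟨X₀, hX₀c⟩ - algebraMap k _ l₀) with hXc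
  refine ⟨(Xc : MonoidAlgebra k G), Xc.2, ?_, ?_, ?_⟩
  · show ((idem ψ : ZAlg k G) : MonoidAlgebra k G) * _ = _
    rw [← Subalgebra.coe_mul, hXc, ← mul_assoc, (idem_isIdem ψ).eq]
  · have : IsNilpotent Xc := by
      refine isNilpotent_of_forall_hom («k» := Res M) fun φ => ?_
      rw [hXc, map_mul]
      by_cases hφ : φ = ψ
      · rw [hφ, map_sub, AlgHom.commutes, Algebra.algebraMap_self, RingHom.id_apply, hl₀, sub_self,
          mul_zero]
      · rw [apply_idem_ne hφ, zero_mul]
    exact this.map (Subalgebra.center k (MonoidAlgebra k G)).val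
  · intro hzero
    set n := Nat.card P with hn
    obtain ⟨a, ha⟩ := IsPGroup.iff_card.mp hP
    have hn1 : 1 ≤ n := Nat.card_pos
    -- the homomorphism to the centre of the block of `C[P](P)`
    let θ : ZAlg k G →ₐ[k] ZAlg k C[P] := brauerHom hP le_rfl (Subgroup.centralizer_le_normalizer _)
    have hθ : ∀ w : ZAlg k G, ((θ w : ZAlg k C[P]) : MonoidAlgebra k C[P]) =
        br P (w : MonoidAlgebra k G) := fun w =>
      brauerHom_apply hP le_rfl (Subgroup.centralizer_le_normalizer _) w
    have hone : θ (idem ψ) * idem c = idem c := by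
      refine mul_idem_eq c ((idem_isIdem ψ).map θ) ?_
      have := hψ.apply_eq (idem ψ)
      rw [apply_idem_self, val_eq c (isFixedBy_of_mem_center _ (idem ψ).2)] at this
      exact Eq.trans (congrArg c (Subtype.ext (hθ (idem ψ)))) this
    have hX₀θ : θ ⟨X₀, hX₀c⟩ * idem c = ⟨single u' 1 * bidem c, Subalgebra.mul_mem _ (by
        rw [Subalgebra.mem_center_iff]
        intro b
        induction b using MonoidAlgebra.induction_linear with
        | zero => simp
        | add f g hf hg => rw [mul_add, add_mul, hf, hg]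
        | single m r =>
          rw [single_mul_single, single_mul_single, mul_one, one_mul]
          congr 1
          exact Subtype.ext (huC m m.2).eq) (bidem_mem c)⟩ := by
      refine Subtype.ext (ext_injective C[P] ?_)
      show ext C[P] (((θ ⟨X₀, hX₀c⟩ : ZAlg k C[P]) : MonoidAlgebra k C[P]) * bidem c) = y
      rw [hθ, map_mul]
      exact hmul
    set W : MonoidAlgebra k C[P] := (single u' 1 - algebraMap k _ l₀) * bidem c with hW
    have hθW : ((θ Xc * idem c : ZAlg k C[P]) : MonoidAlgebra k C[P]) = W := by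
      rw [hXc, map_mul, mul_right_comm, hone, map_sub, AlgHom.commutes, mul_comm]
      show (((θ ⟨X₀, hX₀c⟩ : ZAlg k C[P]) : MonoidAlgebra k C[P]) - algebraMap k _ l₀) * bidem c = W
      rw [hW, sub_mul, sub_mul]
      congr 1
      exact congrArg Subtype.val hX₀θ
    have hWpow : ∀ m, ((θ Xc ^ m * idem c : ZAlg k C[P]) : MonoidAlgebra k C[P]) =
        (single u' 1 - algebraMap k _ l₀) ^ m * bidem c := by
      intro m
      induction m with
      | zero => simp [bidem]
      | succ m ih =>
        have : θ Xc ^ (m + 1) * idem c = (θ Xc ^ m * idem c) * (θ Xc * idem c) := by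
          rw [pow_succ, mul_mul_mul_comm, (idem_isIdem c).eq]
        rw [this, Subalgebra.coe_mul, ih, hθW, hW, pow_succ]
        have hcomm := Subalgebra.mem_center_iff.mp (bidem_mem c) (single u' 1 - algebraMap k _ l₀)
        rw [mul_assoc, ← mul_assoc (bidem c), ← hcomm, mul_assoc, (bidem_isIdem c).eq, ← mul_assoc]
    have hX0 : Xc ^ (n - 1) = 0 := Subtype.ext (by rw [Subalgebra.coe_pow]; exact hzero)
    have h0 : (single u' 1 - algebraMap k _ l₀) ^ (n - 1) * bidem c = 0 := by
      have h0' : θ Xc ^ (n - 1) * idem c = 0 := by rw [← map_pow, hX0, map_zero, zero_mul]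
      exact (hWpow (n - 1)).symm.trans (congrArg Subtype.val h0')
    have hbne : bidem c ≠ 0 := fun h => by
      have h2 := congrArg c (show idem c = 0 from Subtype.ext h)
      rw [apply_idem_self, map_zero] at h2
      exact one_ne_zero h2
    have hun : u' ^ n = 1 := Subtype.ext (by
      rw [SubgroupClass.coe_pow, OneMemClass.coe_one, hn,
        show Nat.card P = orderOf u from (congrArg (fun H : Subgroup G => Nat.card H) hu).trans
          (Nat.card_zpowers u)]
      exact pow_orderOf_eq_one u)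
    have hlam : l₀ = 1 := by
      have h1 : (single u' (1 : k) - algebraMap k _ l₀) ^ n * bidem c = 0 := by
        rw [show n = 1 + (n - 1) by omega, pow_add, mul_assoc, h0, mul_zero]
      haveI : CharP (MonoidAlgebra k C[P]) p :=
        charP_of_injective_algebraMap (algebraMap k (MonoidAlgebra k C[P])).injective p
      rw [hn, ha, sub_pow_char_pow_of_commute _ _ (Algebra.commute_algebraMap_right _ _),
        MonoidAlgebra.single_pow, one_pow, ← ha, hun, ← MonoidAlgebra.one_def, ← map_pow,
        ← map_one (algebraMap k (MonoidAlgebra k C[P])), ← map_sub, ← Algebra.smul_def] at h1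
      have h2 : (1 : k) - l₀ ^ n = 0 := (smul_eq_zero.mp (by exact h1)).resolve_right hbne
      have h3 : (l₀ - 1) ^ p ^ a = 0 := by
        rw [sub_pow_char_pow, one_pow, ← ha, ← sub_eq_zero.mp h2, sub_self]
      exact sub_eq_zero.mp (eq_zero_of_pow_eq_zero h3)
    rw [hlam, map_one, show n = p ^ a from ha] at h0
    have hgeo := congrArg (Polynomial.aeval (single u' (1 : k)))
      (sum_pow_eq_sub_one_pow (M := M) (p := p) a)
    simp only [map_sum, map_pow, Polynomial.aeval_sub, Polynomial.aeval_one, Polynomial.aeval_X]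
      at hgeo
    rw [← hgeo, Finset.sum_mul] at h0
    obtain ⟨g₀, hg₀⟩ : ∃ g₀ : C[P], (bidem c).coeff g₀ ≠ 0 := by
      by_contra hall
      push Not at hall
      exact hbne (MonoidAlgebra.coeff_injective (Finsupp.ext (by simpa using hall)))
    apply hg₀
    have h1 := congrArg (fun z => MonoidAlgebra.coeff z g₀) h0
    simp only [MonoidAlgebra.coeff_sum, Finsupp.finsetSum_apply, MonoidAlgebra.single_pow, one_pow,
      coeff_single_mul_apply, one_mul, coeff_zero, Finsupp.coe_zero, Pi.zero_apply] at h1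
    rw [Finset.sum_eq_single 0] at h1
    · simpa using h1
    · intro j hj hj0
      refine coeff_mul_eq_zero hM hP hab c ?_ ?_ hg₀
      · rw [Subgroup.coe_inv, SubgroupClass.coe_pow]
        exact inv_mem (pow_mem huP j)
      · intro h
        have h2 : u ^ j = 1 := by
          have := congrArg Subtype.val (inv_eq_one.mp h)
          simpa using this
        have h3 := Nat.le_of_dvd (Nat.pos_of_ne_zero hj0) (orderOf_dvd_of_pow_eq_one h2)
        have h4 : orderOf u = p ^ a := (Nat.card_zpowers u).symm.trans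
          ((congrArg (fun H : Subgroup G => Nat.card H) hu).symm.trans ha)
        have := Finset.mem_range.mp hj
        omega
    · intro h
      exact absurd (Finset.mem_range.mpr (pow_pos (Fact.out : p.Prime).pos a)) h

end Cfsg.Agent.Lib.CyclicBlocks.Pi
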