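import Mathlib.Algebra.Module.PID
import Mathlib.Algebra.Polynomial.Module.AEval
import Mathlib.RingTheory.Polynomial.Basic
import Mathlib.Algebra.Polynomial.FieldDivision

/-!
# Endomorphisms commuting with a nilpotent map

A linear map which respects, modulo the range of a nilpotent `π`, the kernels of the powers of `π`
agrees modulo that range with one commuting with `π`.
-/

set_option autoImplicit false

namespace Cfsg.Agent.Lib.CyclicBlocks.Strings

open Polynomial

variable {k : Type*} [Field k] {V : Type*} [AddCommGroup V] [Module k V] [FiniteDimensional k V]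

theorem exists_lift (π : Module.End k V) {n : ℕ} (hπ : π ^ n = 0) (f : Module.End k V)
    (hf0 : ∀ v, f (π v) ∈ LinearMap.range π)
    (hf : ∀ (j : ℕ) (v : V), (π ^ j) v = 0 → ∃ w, (π ^ j) w = 0 ∧ f v - w ∈ LinearMap.range π) :
    ∃ ψ : Module.End k V, Commute π ψ ∧ ∀ v, ψ v - f v ∈ LinearMap.range π := by
  classical
  let o : V ≃ₗ[k] Module.AEval' π := Module.AEval.of k V π
  have hX : ∀ (q : k[X]) (v : V), q • o v = o ((aeval π q) v) := fun q v =>
    (Module.AEval.of_aeval_smul π q v).symm
  have htor : Module.IsTorsion' (Module.AEval' π) (Submonoid.powers (X : k[X])) := by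
    intro m
    refine ⟨⟨X ^ n, n, rfl⟩, ?_⟩
    obtain ⟨v, rfl⟩ := o.surjective m
    show (X ^ n : k[X]) • o v = 0
    rw [hX, aeval_X_pow, hπ, LinearMap.zero_apply, map_zero]
  obtain ⟨d, e, ⟨E⟩⟩ := Module.torsion_by_prime_power_decomposition (irreducible_X (R := k)) htor
  let q := fun i => (X : k[X]) ^ (e i)
  have hx : ∀ i, (π ^ e i) (o.symm (E.symm (DirectSum.lof k[X] _ _ i 1))) = 0 := by
    intro i
    apply o.injective
    rw [← aeval_X_pow (R := k), ← hX, o.apply_symm_apply, map_zero, ← map_smul, ← map_smul]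
    have : (X ^ e i : k[X]) • (1 : k[X] ⧸ k[X] ∙ (X : k[X]) ^ e i) = 0 := by
      refine (Submodule.Quotient.mk_eq_zero _).mpr ?_
      simp [Submodule.mem_span_singleton_self]
    rw [this, map_zero, map_zero]
  choose y hy0 hyf using fun i => hf (e i) _ (hx i)
  have hy : ∀ i, (X ^ e i : k[X]) • o (y i) = 0 := fun i => by
    rw [hX, aeval_X_pow, hy0, map_zero]
  let G : Module.AEval' π →ₗ[k[X]] Module.AEval' π :=
    (DirectSum.toModule k[X] _ _ fun i =>
      Submodule.liftQSpanSingleton ((X : k[X]) ^ e i)
        (LinearMap.toSpanSingleton k[X] _ (o (y i))) (hy i)).comp E.toLinearMap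
  let ψ : Module.End k V := o.symm.toLinearMap ∘ₗ (G.restrictScalars k) ∘ₗ o.toLinearMap
  refine ⟨ψ, ?_, fun v => ?_⟩
  · refine LinearMap.ext fun v => ?_
    show π (o.symm (G (o v))) = o.symm (G (o (π v)))
    apply o.injective
    have h1 : o (π v) = (X : k[X]) • o v := by rw [hX, aeval_X]
    rw [o.apply_symm_apply, h1, map_smul]
    obtain ⟨w, hw⟩ := o.surjective (G (o v))
    rw [← hw, o.symm_apply_apply, hX, aeval_X]
  obtain ⟨a, ha⟩ := (o.trans (E.restrictScalars k)).symm.surjective v
  rw [← ha]
  clear ha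
  induction a using DirectSum.induction_on with
  | zero => simp
  | add a b ha hb =>
    rw [map_add, map_add, map_add, add_sub_add_comm]
    exact Submodule.add_mem _ ha hb
  | of i r =>
    obtain ⟨q, rfl⟩ := Submodule.Quotient.mk_surjective _ r
    set x := o.symm (E.symm (DirectSum.lof k[X] (Fin d) (fun i => k[X] ⧸ k[X] ∙ (X : k[X]) ^ e i)
      i 1))
    have hm : (Submodule.Quotient.mk q : k[X] ⧸ k[X] ∙ (X : k[X]) ^ e i) =
        q • (1 : k[X] ⧸ k[X] ∙ (X : k[X]) ^ e i) := by
      rw [show (1 : k[X] ⧸ k[X] ∙ (X : k[X]) ^ e i) = Submodule.Quotient.mk 1 from rfl,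
        ← Submodule.Quotient.mk_smul, smul_eq_mul, mul_one]
    have h1 : (o.trans (E.restrictScalars k)).symm
        (DirectSum.of (fun i => k[X] ⧸ k[X] ∙ (X : k[X]) ^ e i) i (Submodule.Quotient.mk q)) =
        (aeval π q) x := by
      apply o.injective
      rw [← hX, LinearEquiv.apply_symm_apply]
      show o (o.symm (E.symm (DirectSum.lof k[X] (Fin d) _ i _))) = _
      rw [o.apply_symm_apply, hm, map_smul, map_smul]
    rw [h1]
    have hGx : G (o x) = o (y i) := by
      show DirectSum.toModule k[X] _ _ _ (E (o (o.symm (E.symm _)))) = _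
      rw [o.apply_symm_apply, E.apply_symm_apply, DirectSum.toModule_lof]
      show Submodule.liftQSpanSingleton _ _ _ (Submodule.Quotient.mk 1) = _
      exact one_smul k[X] (o (y i))
    have hψ : ψ ((aeval π q) x) = (aeval π q) (y i) := by
      apply o.injective
      show o (o.symm (G (o ((aeval π q) x)))) = o ((aeval π q) (y i))
      rw [o.apply_symm_apply, ← hX, map_smul, hGx, hX]
    rw [hψ]
    -- modulo the range only the constant term matters
    have hconst : ∀ u : V, (aeval π q) u - q.coeff 0 • u ∈ LinearMap.range π := by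
      intro u
      refine ⟨(aeval π q.divX) u, ?_⟩
      have h := congrArg (fun r => (aeval π r) u) (Polynomial.X_mul_divX_add q)
      simp only [map_add, map_mul, aeval_X, aeval_C, LinearMap.add_apply, Module.End.mul_apply,
        Module.algebraMap_end_apply] at h
      rw [← h, add_sub_cancel_right]
    have hfr : f ((aeval π q) x) - q.coeff 0 • f x ∈ LinearMap.range π := by
      obtain ⟨u, hu⟩ := hconst x
      rw [← map_smul, ← map_sub, ← hu]
      exact hf0 u
    have h2 : q.coeff 0 • (y i - f x) ∈ LinearMap.range π := by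
      refine Submodule.smul_mem _ _ ?_
      rw [← neg_sub]
      exact Submodule.neg_mem _ (hyf i)
    have := Submodule.sub_mem _ (Submodule.add_mem _ (hconst (y i)) h2) hfr
    convert this using 1
    rw [smul_sub]
    abel

end Cfsg.Agent.Lib.CyclicBlocks.Strings
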