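import Mathlib
import Cfsg.Agent.Lib.BrauerPairs.Trunc

/-!
# Frames

A frame is a system of units of a summand `b` of `k C`, seen in `k G`, whose corner is spanned by
the powers of a central nilpotent element `X`, with `X ^ N * f ≠ 0 = X ^ (N + 1)`.
-/

set_option autoImplicit false
set_option linter.style.haveILetI false
set_option linter.unusedSectionVars false

namespace Cfsg.Agent.Lib.CyclicBlocks.Frame

open MonoidAlgebra Cfsg.Agent.Lib.BrauerMap.Basic Cfsg.Agent.Lib.BrauerPairs.Trunc

universe u v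

variable (k : Type v) [Field k] {G : Type u} [Group G] [Finite G] (C : Subgroup G)

/-- The elements of `k G` supported in `C`. -/
noncomputable def sub : Subalgebra k (MonoidAlgebra k G) := (ext (k := k) C).range

/-- The data. -/
structure Data where
  b : MonoidAlgebra k G
  X : MonoidAlgebra k G
  f : MonoidAlgebra k G
  d : ℕ
  N : ℕ
  l : Fin d → MonoidAlgebra k G
  r : Fin d → MonoidAlgebra k G
  mem_b : b ∈ sub k C
  mem_X : X ∈ sub k C
  mem_f : f ∈ sub k C
  mem_l : ∀ i, l i ∈ sub k C
  mem_r : ∀ i, r i ∈ sub k C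
  b_idem : b * b = b
  b_comm : ∀ x ∈ sub k C, Commute b x
  X_comm : ∀ x ∈ sub k C, Commute X x
  b_X : b * X = X
  b_f : b * f = f
  b_l : ∀ i, b * l i = l i
  f_idem : f * f = f
  l_f : ∀ i, l i * f = l i
  f_r : ∀ i, f * r i = r i
  sum_eq : ∑ i, l i * r i = b
  one_le : 1 ≤ N
  nil : X ^ (N + 1) = 0
  ne : X ^ N * f ≠ 0
  span : ∀ x ∈ sub k C, f * x * f ∈
    Submodule.span k (Set.range fun j : Fin (N + 1) => X ^ (j : ℕ) * f)

variable {k C}

theorem single_mem_sub {g : G} (hg : g ∈ C) (r : k) : single g r ∈ sub k C :=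
  ⟨single ⟨g, hg⟩ r, ext_single C _ r⟩

theorem conjA_eq (x : G) (a : MonoidAlgebra k G) :
    conjA x a = single x 1 * a * single x⁻¹ 1 := by
  induction a using MonoidAlgebra.induction_linear with
  | zero => simp
  | add f g hf hg => rw [map_add, hf, hg, mul_add, add_mul]
  | single m r =>
    rw [single_mul_single, single_mul_single, one_mul, mul_one]
    classical
    ext h
    rw [coeff_conjA, coeff_single, coeff_single, Finsupp.single_apply, Finsupp.single_apply]
    refine if_congr ⟨fun e => ?_, fun e => ?_⟩ rfl rfl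
    · rw [e]; group
    · rw [← e]; group

/-- Sliding a group element past an element of the algebra. -/
theorem single_mul_eq (x : G) (a : MonoidAlgebra k G) :
    single x 1 * a = conjA x a * single x 1 := by
  rw [conjA_eq, mul_assoc, single_mul_single, inv_mul_cancel, one_mul, ← MonoidAlgebra.one_def,
    mul_one]

theorem mul_single_eq (x : G) (a : MonoidAlgebra k G) :
    a * single x 1 = single x 1 * conjA x⁻¹ a := by
  rw [conjA_eq, inv_inv, ← mul_assoc, ← mul_assoc, single_mul_single, mul_inv_cancel, one_mul,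
    ← MonoidAlgebra.one_def, one_mul]

theorem conjA_mem {x : G} (hx : ∀ g ∈ C, x * g * x⁻¹ ∈ C) {a : MonoidAlgebra k G}
    (ha : a ∈ sub k C) : conjA x a ∈ sub k C := by
  obtain ⟨w, rfl⟩ := ha
  induction w using MonoidAlgebra.induction_linear with
  | zero => simp [(sub k C).zero_mem]
  | add f g hf hg =>
    show conjA x (ext C (f + g)) ∈ _
    rw [map_add, map_add]
    exact (sub k C).add_mem hf hg
  | single m r =>
    show conjA x (ext C (single m r)) ∈ _
    rw [ext_single, conjA_eq, single_mul_single, single_mul_single, one_mul, mul_one]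
    exact single_mem_sub (hx _ m.2) r

variable (F : Data k C)

theorem Data.X_pow_comm (j : ℕ) {x : MonoidAlgebra k G} (hx : x ∈ sub k C) :
    Commute (F.X ^ j) x := (F.X_comm x hx).pow_left j

theorem Data.mul_b {x : MonoidAlgebra k G} (hx : x ∈ sub k C) (hb : F.b * x = x) : x * F.b = x :=
  (F.b_comm x hx).eq.symm.trans hb

theorem Data.r_b (i : Fin F.d) : F.r i * F.b = F.r i :=
  F.mul_b (F.mem_r i) (by rw [← F.f_r, ← mul_assoc, F.b_f])

theorem Data.pow_eq_zero {j : ℕ} (hj : F.N < j) : F.X ^ j = 0 := by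
  rw [← Nat.add_sub_cancel' (show F.N + 1 ≤ j by omega), pow_add, F.nil, zero_mul]

theorem Data.decomp {x : MonoidAlgebra k G} (hx : x ∈ sub k C) :
    F.b * x = ∑ i, ∑ j, F.l i * (F.f * (F.r i * x * F.l j) * F.f) * F.r j := by
  calc F.b * x = F.b * x * F.b := by rw [mul_assoc, ← (F.b_comm x hx).eq, ← mul_assoc, F.b_idem]
    _ = (∑ i, F.l i * F.r i) * x * ∑ j, F.l j * F.r j := by rw [F.sum_eq]
    _ = ∑ i, ∑ j, (F.l i * F.r i) * x * (F.l j * F.r j) := by
        rw [Finset.sum_mul, Finset.sum_mul_sum]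
    _ = _ := by
        refine Finset.sum_congr rfl fun i _ => Finset.sum_congr rfl fun j _ => ?_
        rw [show F.l i * (F.f * (F.r i * x * F.l j) * F.f) * F.r j =
          (F.l i * F.f) * F.r i * x * (F.l j * (F.f * F.r j)) by simp only [mul_assoc], F.l_f, F.f_r]

/-- The linear map giving the combination of the powers of `X` in the corner. -/
noncomputable def Data.comb : (Fin (F.N + 1) → k) →ₗ[k] MonoidAlgebra k G :=
  Fintype.linearCombination k fun j : Fin (F.N + 1) => F.X ^ (j : ℕ) * F.f

theorem Data.comb_apply (c : Fin (F.N + 1) → k) :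
    F.comb c = ∑ j, c j • (F.X ^ (j : ℕ) * F.f) :=
  Fintype.linearCombination_apply k _ c

theorem Data.comb_injective : Function.Injective F.comb := by
  classical
  rw [injective_iff_map_eq_zero]
  intro c hsum
  rw [F.comb_apply] at hsum
  by_contra hne
  obtain ⟨j₁, hj₁⟩ := Function.ne_iff.mp hne
  set S := Finset.univ.filter fun j => c j ≠ 0 with hS
  have hSne : S.Nonempty := ⟨j₁, Finset.mem_filter.mpr ⟨Finset.mem_univ _, hj₁⟩⟩
  set j := S.min' hSne with hj
  have h1 := congrArg (F.X ^ (F.N - (j : ℕ)) * ·) hsum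
  simp only [Finset.mul_sum, mul_smul_comm, mul_zero, ← mul_assoc, ← pow_add] at h1
  rw [Finset.sum_eq_single j] at h1
  · rw [Nat.sub_add_cancel (by omega : (j : ℕ) ≤ F.N)] at h1
    exact F.ne ((smul_eq_zero.mp h1).resolve_left (Finset.mem_filter.mp (S.min'_mem hSne)).2)
  · intro i _ hi
    by_cases hci : c i = 0
    · rw [hci, zero_smul]
    · have hle : j ≤ i := S.min'_le i (Finset.mem_filter.mpr ⟨Finset.mem_univ _, hci⟩)
      have hlt : (j : ℕ) < i := lt_of_le_of_ne (Fin.le_def.mp hle) fun h => hi (Fin.ext h.symm)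
      rw [F.pow_eq_zero (by omega), zero_mul, smul_zero]
  · simp

/-- Coordinates on the corner. -/
theorem Data.exists_coord : ∃ L : MonoidAlgebra k G →ₗ[k] (Fin (F.N + 1) → k),
    ∀ x ∈ sub k C, F.f * x * F.f = F.comb (L x) := by
  obtain ⟨R, hR⟩ := LinearMap.exists_leftInverse_of_injective F.comb
    (LinearMap.ker_eq_bot.mpr F.comb_injective)
  refine ⟨R ∘ₗ LinearMap.mulRight k F.f ∘ₗ LinearMap.mulLeft k F.f, fun x hx => ?_⟩
  obtain ⟨c, hc⟩ := (Submodule.mem_span_range_iff_exists_fun k).mp (F.span x hx)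
  show F.f * x * F.f = F.comb (R (F.f * x * F.f))
  rw [← hc, ← F.comb_apply, show R (F.comb c) = c from LinearMap.congr_fun hR c]

/-- An element of the corner is a multiple of `f` modulo `X`. -/
theorem Data.corner_eq {x : MonoidAlgebra k G} (hx : x ∈ sub k C) :
    ∃ (c : k), ∃ y ∈ sub k C, F.f * x * F.f = c • F.f + F.X * y := by
  obtain ⟨L, hL⟩ := F.exists_coord
  refine ⟨L x 0, ∑ j : Fin F.N, L x j.succ • (F.X ^ (j : ℕ) * F.f),
    Subalgebra.sum_mem _ fun j _ => Subalgebra.smul_mem _
      (Subalgebra.mul_mem _ (Subalgebra.pow_mem _ F.mem_X _) F.mem_f) _, ?_⟩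
  rw [hL x hx, F.comb_apply, Fin.sum_univ_succ, Finset.mul_sum]
  congr 1
  · rw [Fin.val_zero, pow_zero, one_mul]
  · refine Finset.sum_congr rfl fun j _ => ?_
    rw [mul_smul_comm, ← mul_assoc, ← pow_succ', Fin.val_succ]

/-- What `X ^ N` kills is divisible by `X`. -/
theorem Data.kill {x : MonoidAlgebra k G} (hx : x ∈ sub k C) (h : x * F.X ^ F.N = 0) :
    ∃ y ∈ sub k C, F.b * x = F.X * y := by
  classical
  have hmem : ∀ i j, F.r i * x * F.l j ∈ sub k C := fun i j =>
    Subalgebra.mul_mem _ (Subalgebra.mul_mem _ (F.mem_r i) hx) (F.mem_l j)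
  choose c y hy hcy using fun i j => F.corner_eq (hmem i j)
  have hc0 : ∀ i j, c i j = 0 := by
    intro i j
    have h1 : F.X ^ F.N * (F.f * (F.r i * x * F.l j) * F.f) = 0 := by
      have h2 : x * F.X ^ F.N = F.X ^ F.N * x := ((F.X_pow_comm F.N hx).eq).symm
      calc F.X ^ F.N * (F.f * (F.r i * x * F.l j) * F.f)
          = (F.f * F.r i) * (F.X ^ F.N * x) * (F.l j * F.f) := by
            rw [show F.f * (F.r i * x * F.l j) * F.f = (F.f * F.r i) * x * (F.l j * F.f) by
              simp only [mul_assoc], ← mul_assoc (F.X ^ F.N), ← mul_assoc (F.X ^ F.N),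
              (F.X_pow_comm F.N (Subalgebra.mul_mem _ F.mem_f (F.mem_r i))).eq,
              mul_assoc (F.f * F.r i) (F.X ^ F.N) x]
        _ = 0 := by rw [← h2, h, mul_zero, zero_mul]
    rw [hcy, mul_add, mul_smul_comm, ← mul_assoc, ← pow_succ, F.nil, zero_mul, add_zero] at h1
    exact (smul_eq_zero.mp h1).resolve_right F.ne
  refine ⟨∑ i, ∑ j, F.l i * y i j * F.r j, Subalgebra.sum_mem _ fun i _ => Subalgebra.sum_mem _
    fun j _ => Subalgebra.mul_mem _ (Subalgebra.mul_mem _ (F.mem_l i) (hy i j)) (F.mem_r j), ?_⟩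
  rw [F.decomp hx, Finset.mul_sum]
  refine Finset.sum_congr rfl fun i _ => ?_
  rw [Finset.mul_sum]
  refine Finset.sum_congr rfl fun j _ => ?_
  rw [hcy, hc0, zero_smul, zero_add, ← mul_assoc, ← mul_assoc, ← mul_assoc,
    (F.X_comm _ (F.mem_l i)).eq]

/-- An element normalising the frame moves `X` into its multiples. -/
theorem Data.conjA_X {x : G} (hx : ∀ g ∈ C, x * g * x⁻¹ ∈ C) (hb : conjA x F.b = F.b) :
    ∃ y ∈ sub k C, conjA x F.X = F.X * y := by
  have hmem := conjA_mem (k := k) hx F.mem_X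
  have hbX : F.b * conjA x F.X = conjA x F.X := by rw [← hb, ← map_mul, F.b_X]
  obtain ⟨c, y, hy, hcy⟩ := F.corner_eq hmem
  have hf : ∀ a ∈ sub k C, conjA x F.X * a = a * conjA x F.X := by
    intro a ha
    obtain ⟨w, rfl⟩ := ha
    induction w using MonoidAlgebra.induction_linear with
    | zero => simp
    | add f g hf hg =>
      show _ * ext C (f + g) = ext C (f + g) * _
      rw [map_add, mul_add, add_mul]
      exact congrArg₂ (· + ·) hf hg
    | single m r =>
      show _ * ext C (single m r) = ext C (single m r) * _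
      rw [ext_single]
      have h1 : x⁻¹ * (m : G) * x ∈ C := by
        haveI : Finite C := inferInstance
        let e : C → C := fun g => ⟨x * g * x⁻¹, hx g g.2⟩
        have he : Function.Surjective e := Finite.surjective_of_injective fun a a' h =>
          Subtype.ext (by simpa [e] using congrArg Subtype.val h)
        obtain ⟨g, hg⟩ := he m
        rw [← show x * g * x⁻¹ = (m : G) from congrArg Subtype.val hg]
        simp [mul_assoc]
      have h2 := congrArg (conjA x) (F.X_comm _ (single_mem_sub h1 r)).eq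
      rw [map_mul, map_mul, conjA_eq x (single _ r), single_mul_single, single_mul_single, one_mul,
        mul_one, show x * (x⁻¹ * (m : G) * x) * x⁻¹ = (m : G) by group] at h2
      exact h2
  have hstep : conjA x F.X * (F.X ^ F.N * F.f) = c • (F.X ^ F.N * F.f) := by
    calc conjA x F.X * (F.X ^ F.N * F.f)
        = F.X ^ F.N * (F.f * conjA x F.X * F.f) := by
          rw [← hf _ F.mem_f, mul_assoc (conjA x F.X), F.f_idem, ← mul_assoc, ← mul_assoc,
            ← (F.X_pow_comm F.N hmem).eq]
      _ = c • (F.X ^ F.N * F.f) := by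
          rw [hcy, mul_add, mul_smul_comm, ← mul_assoc, ← pow_succ, F.nil, zero_mul, add_zero]
  have hpow : ∀ t : ℕ, conjA x F.X ^ t * (F.X ^ F.N * F.f) = c ^ t • (F.X ^ F.N * F.f) := by
    intro t
    induction t with
    | zero => simp
    | succ t ih => rw [pow_succ, mul_assoc, hstep, mul_smul_comm, ih, smul_smul, pow_succ']
  have hc : c = 0 := by
    have h1 := hpow (F.N + 1)
    rw [← map_pow, F.nil, map_zero, zero_mul] at h1
    exact eq_zero_of_pow_eq_zero ((smul_eq_zero.mp h1.symm).resolve_right F.ne)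
  rw [hc, zero_smul] at hstep
  obtain ⟨y, hy, hy'⟩ := F.kill hmem (by
    set W := conjA x F.X * F.X ^ F.N with hW
    have hWc : ∀ a ∈ sub k C, Commute W a := fun a ha =>
      (show Commute (conjA x F.X) a from hf a ha).mul_left (F.X_pow_comm F.N ha)
    have hWf : W * F.f = 0 := by rw [hW, mul_assoc, hstep]
    calc W = F.b * W := by rw [hW, ← mul_assoc, hbX]
      _ = ∑ i, F.l i * (W * F.f) * F.r i := by
          rw [← F.sum_eq, Finset.sum_mul]
          refine Finset.sum_congr rfl fun i _ => ?_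
          rw [mul_assoc (F.l i), mul_assoc (F.l i), mul_assoc W, F.f_r,
            ← (hWc _ (F.mem_r i)).eq]
      _ = 0 := by simp [hWf])
  exact ⟨y, hy, hbX ▸ hy'⟩

end Cfsg.Agent.Lib.CyclicBlocks.Frame
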