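import Mathlib
import Cfsg.Agent.Lib.CyclicBlocks.Frame

/-!
# The twisted generator of the corner

For an element `h` normalising a frame with `h ^ e ∈ C` there is `w` in the coset of `h` with
`f * w * f = w` and `w ^ e ≡ f` modulo the multiples of `X`.

`casimir`: a sum over the conjugates by `C` maps what `X ^ N` kills into the multiples of `X`.
-/

set_option autoImplicit false
set_option linter.style.haveILetI false
set_option linter.unusedSectionVars false

namespace Cfsg.Agent.Lib.CyclicBlocks.Twist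

open MonoidAlgebra Cfsg.Agent.Lib.BrauerMap.Basic Cfsg.Agent.Lib.BrauerPairs.Trunc
open Cfsg.Agent.Lib.CyclicBlocks.Frame

universe u v w

variable {k : Type v} [Field k] {G : Type u} [Group G] [Finite G] {C : Subgroup G}
  (F : Data k C)

/-- The congruence modulo the multiples of `X`. -/
def Cong (a b : MonoidAlgebra k G) : Prop := ∃ z, a - b = F.X * z

variable {F}

theorem Cong.refl (a : MonoidAlgebra k G) : Cong F a a := ⟨0, by simp⟩

theorem Cong.symm {a b : MonoidAlgebra k G} (h : Cong F a b) : Cong F b a := by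
  obtain ⟨z, hz⟩ := h
  exact ⟨-z, by rw [mul_neg, ← hz, neg_sub]⟩

theorem Cong.trans {a b c : MonoidAlgebra k G} (h : Cong F a b) (h' : Cong F b c) : Cong F a c := by
  obtain ⟨z, hz⟩ := h
  obtain ⟨z', hz'⟩ := h'
  exact ⟨z + z', by rw [mul_add, ← hz, ← hz', sub_add_sub_cancel]⟩

theorem Cong.mul_right {a b : MonoidAlgebra k G} (h : Cong F a b) (c : MonoidAlgebra k G) :
    Cong F (a * c) (b * c) := by
  obtain ⟨z, hz⟩ := h
  exact ⟨z * c, by rw [← sub_mul, hz, mul_assoc]⟩

variable (F) in
/-- The elements sliding past `X`. -/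
def Slides (u : MonoidAlgebra k G) : Prop := ∃ y, u * F.X = F.X * y

theorem Slides.mul {u u' : MonoidAlgebra k G} (h : Slides F u) (h' : Slides F u') :
    Slides F (u * u') := by
  obtain ⟨y, hy⟩ := h
  obtain ⟨y', hy'⟩ := h'
  exact ⟨y * y', by rw [mul_assoc, hy', ← mul_assoc, hy, mul_assoc]⟩

theorem slides_of_mem {u : MonoidAlgebra k G} (hu : u ∈ sub k C) : Slides F u :=
  ⟨u, (F.X_comm u hu).eq.symm⟩

theorem Slides.smul {u : MonoidAlgebra k G} (h : Slides F u) (r : k) : Slides F (r • u) := by
  obtain ⟨y, hy⟩ := h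
  exact ⟨r • y, by rw [smul_mul_assoc, hy, mul_smul_comm]⟩

theorem Slides.pow {u : MonoidAlgebra k G} (h : Slides F u) : ∀ t : ℕ, Slides F (u ^ t)
  | 0 => by rw [pow_zero]; exact slides_of_mem (Subalgebra.one_mem _)
  | t + 1 => by rw [pow_succ]; exact (h.pow t).mul h

theorem Cong.mul_left {a b u : MonoidAlgebra k G} (hu : Slides F u) (h : Cong F a b) :
    Cong F (u * a) (u * b) := by
  obtain ⟨z, hz⟩ := h
  obtain ⟨y, hy⟩ := hu
  exact ⟨y * z, by rw [← mul_sub, hz, ← mul_assoc, hy, mul_assoc]⟩

theorem slides_single {h : G} (hC : ∀ g ∈ C, h * g * h⁻¹ ∈ C) (hb : conjA h F.b = F.b) :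
    Slides F (single h 1) := by
  obtain ⟨y, -, hy⟩ := F.conjA_X hC hb
  exact ⟨y * single h 1, by rw [single_mul_eq, hy, mul_assoc]⟩

theorem not_cong_f_zero : ¬ Cong F F.f 0 := by
  rintro ⟨z, hz⟩
  rw [sub_zero] at hz
  refine F.ne ?_
  rw [hz, ← mul_assoc, ← pow_succ, F.nil, zero_mul]

variable (F) in
/-- The twisted generator. -/
structure Gen (h : G) (e : ℕ) where
  w : MonoidAlgebra k G
  A : MonoidAlgebra k G
  mem_A : A ∈ sub k C
  eq : w = A * single h 1
  f_w : F.f * w = w
  w_f : w * F.f = w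
  slides : Slides F w
  pow_e : Cong F (w ^ e) F.f

theorem exists_gen [IsAlgClosed k] {h : G} (hC : ∀ g ∈ C, h * g * h⁻¹ ∈ C)
    (hb : conjA h F.b = F.b) {e : ℕ} (he : 0 < e)
    (hpow : h ^ e ∈ C) : Nonempty (Gen F h e) := by
  classical
  set f' := conjA h F.f with hf'
  have hf'mem : f' ∈ sub k C := conjA_mem hC F.mem_f
  have hf'idem : f' * f' = f' := by rw [hf', ← map_mul, F.f_idem]
  have hbf' : F.b * f' = f' := by rw [hf', ← hb, ← map_mul, F.b_f]
  have hb' : conjA h⁻¹ F.b = F.b := by
    conv_lhs => rw [← hb, ← conjA_mul, inv_mul_cancel, conjA_one]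
  have hmem : ∀ i j, F.r i * f' * F.l j ∈ sub k C := fun i j =>
    Subalgebra.mul_mem _ (Subalgebra.mul_mem _ (F.mem_r i) hf'mem) (F.mem_l j)
  choose c y hy hcy using fun i j => F.corner_eq (hmem i j)
  obtain ⟨i, j, hij⟩ : ∃ i j, c i j ≠ 0 := by
    by_contra hall
    push Not at hall
    have h1 : Cong F f' 0 := by
      refine ⟨∑ i, ∑ j, F.l i * y i j * F.r j, ?_⟩
      rw [sub_zero, ← hbf', F.decomp hf'mem, Finset.mul_sum]
      refine Finset.sum_congr rfl fun i _ => ?_
      rw [Finset.mul_sum]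
      refine Finset.sum_congr rfl fun j _ => ?_
      rw [hcy, hall, zero_smul, zero_add, ← mul_assoc, ← mul_assoc, ← mul_assoc,
        (F.X_comm _ (F.mem_l i)).eq]
    obtain ⟨z, hz⟩ := h1
    rw [sub_zero] at hz
    have h2 : ∀ t, ∃ z, f' = F.X ^ t * z := by
      intro t
      induction t with
      | zero => exact ⟨f', by simp⟩
      | succ t ih =>
        obtain ⟨z', hz'⟩ := ih
        refine ⟨z * z', ?_⟩
        calc f' = f' * f' := hf'idem.symm
          _ = f' * (F.X ^ t * z') := congrArg _ hz'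
          _ = F.X ^ t * (f' * z') := by
              rw [← mul_assoc, ← (F.X_pow_comm t hf'mem).eq, mul_assoc]
          _ = _ := by rw [hz, pow_succ, mul_assoc (F.X ^ t), mul_assoc F.X]
    obtain ⟨z', hz'⟩ := h2 (F.N + 1)
    rw [F.nil, zero_mul, hf'] at hz'
    have h4 : conjA h F.f = conjA h 0 := by rw [hz', map_zero]
    exact F.ne (by rw [(conjA h).injective h4, mul_zero])
  -- the element and its partner
  set A := F.f * F.r i * f' with hA
  have hAmem : A ∈ sub k C :=
    Subalgebra.mul_mem _ (Subalgebra.mul_mem _ F.mem_f (F.mem_r i)) hf'mem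
  set w := A * single h (1 : k) with hw
  set w' := (c i j)⁻¹ • (single h⁻¹ (1 : k) * (f' * F.l j * F.f)) with hw'
  have hfw : F.f * w = w := by rw [hw, hA]; simp only [← mul_assoc, F.f_idem]
  have hwf : w * F.f = w := by
    rw [hw, mul_assoc, single_mul_eq, ← hf', ← mul_assoc, hA, mul_assoc _ f' f', hf'idem]
  have hsl : Slides F w := (slides_of_mem hAmem).mul (slides_single hC hb)
  have hww' : Cong F (w * w') F.f := by
    refine ⟨(c i j)⁻¹ • y i j, ?_⟩
    have h1 : w * (single h⁻¹ (1 : k) * (f' * F.l j * F.f)) = F.f * (F.r i * f' * F.l j) * F.f := by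
      rw [hw, mul_assoc, ← mul_assoc (single h (1 : k)), single_mul_single, mul_inv_cancel, one_mul,
        ← MonoidAlgebra.one_def, one_mul, hA]
      simp only [← mul_assoc]
      rw [mul_assoc _ f' f', hf'idem]
    rw [hw', mul_smul_comm, h1, hcy, smul_add, smul_smul, inv_mul_cancel₀ hij, one_smul,
      add_sub_cancel_left, mul_smul_comm]
  have hpw : ∀ t : ℕ, Cong F (w ^ (t + 1) * w' ^ (t + 1)) F.f := by
    intro t
    induction t with
    | zero => simpa using hww'
    | succ t ih =>
      have h1 := (hww'.mul_left (hsl.pow (t + 1))).mul_right (w' ^ (t + 1))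
      have h2 : w ^ (t + 1) * F.f = w ^ (t + 1) := by rw [pow_succ, mul_assoc, hwf]
      rw [h2] at h1
      refine Cong.trans ?_ ih
      have h3 : w ^ (t + 1 + 1) * w' ^ (t + 1 + 1) = w ^ (t + 1) * (w * w') * w' ^ (t + 1) := by
        rw [pow_succ, pow_succ' w' (t + 1)]
        simp only [mul_assoc]
      rwa [h3]
  -- the powers
  have hcoset : ∀ t : ℕ, ∃ B ∈ sub k C, w ^ t = B * single (h ^ t) 1 := by
    intro t
    induction t with
    | zero => exact ⟨1, Subalgebra.one_mem _, by simp [MonoidAlgebra.one_def]⟩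
    | succ t ih =>
      obtain ⟨B, hB, hBe⟩ := ih
      refine ⟨B * conjA (h ^ t) A, Subalgebra.mul_mem _ hB (conjA_mem ?_ hAmem), ?_⟩
      · clear hBe
        induction t with
        | zero => simp
        | succ t ih' =>
          intro g hg
          have := hC _ (ih' g hg)
          rw [pow_succ']
          simpa [mul_assoc] using this
      · rw [pow_succ, hBe, hw, mul_assoc B, ← mul_assoc (single (h ^ t) (1 : k)), single_mul_eq,
          mul_assoc (conjA _ _), single_mul_single, one_mul, ← mul_assoc, pow_succ]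
  obtain ⟨B, hB, hBe⟩ := hcoset e
  have hwe : w ^ e ∈ sub k C := hBe ▸ Subalgebra.mul_mem _ hB (single_mem_sub hpow 1)
  obtain ⟨s, z, hz, hsz⟩ := F.corner_eq hwe
  obtain ⟨t, rfl⟩ : ∃ t, e = t + 1 := ⟨e - 1, by omega⟩
  have hfwf : F.f * w ^ (t + 1) * F.f = w ^ (t + 1) := by
    conv_lhs => rw [pow_succ', ← mul_assoc, hfw]
    conv_lhs => rw [← pow_succ', pow_succ, mul_assoc, hwf]
    rw [pow_succ]
  rw [hfwf] at hsz
  have hs : s ≠ 0 := by
    intro hs
    refine not_cong_f_zero (Cong.trans (hpw t).symm ⟨z * w' ^ (t + 1), ?_⟩)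
    rw [sub_zero, hsz, hs, zero_smul, zero_add, mul_assoc]
  obtain ⟨μ, hμ⟩ := IsAlgClosed.exists_pow_nat_eq s⁻¹ he
  refine ⟨⟨μ • w, μ • A, Subalgebra.smul_mem _ hAmem μ, by rw [hw, smul_mul_assoc],
    by rw [mul_smul_comm, hfw], by rw [smul_mul_assoc, hwf], hsl.smul μ,
    ⟨s⁻¹ • z, ?_⟩⟩⟩
  rw [smul_pow, hμ, hsz, smul_add, smul_smul, inv_mul_cancel₀ hs, one_smul, add_sub_cancel_left,
    mul_smul_comm]

theorem Gen.pow_eq {h : G} {e : ℕ} (hC : ∀ g ∈ C, h * g * h⁻¹ ∈ C) (W : Gen F h e) (t : ℕ) :
    ∃ B ∈ sub k C, W.w ^ t = B * single (h ^ t) 1 := by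
  induction t with
  | zero => exact ⟨1, Subalgebra.one_mem _, by simp [MonoidAlgebra.one_def]⟩
  | succ t ih =>
    obtain ⟨B, hB, hBe⟩ := ih
    refine ⟨B * conjA (h ^ t) W.A, Subalgebra.mul_mem _ hB (conjA_mem ?_ W.mem_A), ?_⟩
    · clear hBe
      induction t with
      | zero => simp
      | succ t ih' =>
        intro g hg
        have := hC _ (ih' g hg)
        rw [pow_succ']
        simpa [mul_assoc] using this
    · rw [pow_succ, hBe, W.eq, mul_assoc B, ← mul_assoc (single (h ^ t) (1 : k)), single_mul_eq,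
        mul_assoc (conjA _ _), single_mul_single, one_mul, ← mul_assoc, pow_succ]

theorem ext_eq_sum [Fintype C] (u : MonoidAlgebra k C) :
    ext C u = ∑ c : C, u.coeff c • single (c : G) (1 : k) := by
  induction u using MonoidAlgebra.induction_linear with
  | zero => simp
  | add f g hf hg => simp [map_add, hf, hg, add_smul, Finset.sum_add_distrib]
  | single m r =>
    rw [ext_single, Finset.sum_eq_single m]
    · simp
    · intro c _ hc
      simp [Ne.symm hc]
    · simp

variable {V : Type w} [AddCommGroup V] [Module (MonoidAlgebra k G) V] [Module k V]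
  [IsScalarTower k (MonoidAlgebra k G) V]

/-- The conjugates by `C` send what `X ^ N` kills into the multiples of `X`. -/
theorem casimir [Fintype C] (θ : Module.End k V) {v : V} (hv : F.b • v = v)
    (hX : F.X ^ F.N • v = 0) :
    ∃ y : V, F.b • ∑ c : C, single (c : G) (1 : k) • θ (single (c : G)⁻¹ (1 : k) • v) = F.X • y := by
  classical
  obtain ⟨L₀, hL₀⟩ := F.exists_coord
  let L : Fin F.d → Fin F.d → Fin (F.N + 1) → MonoidAlgebra k G →ₗ[k] k := fun i j m =>
    LinearMap.proj m ∘ₗ L₀ ∘ₗ LinearMap.mulRight k (F.l j) ∘ₗ LinearMap.mulLeft k (F.r i)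
  let u : Fin F.d → Fin F.d → Fin (F.N + 1) → MonoidAlgebra k G := fun i j m =>
    ∑ c : C, L i j m (single (c : G)⁻¹ 1) • single (c : G) 1
  let q : Fin F.d → Fin F.d → Fin (F.N + 1) → V := fun i j m =>
    (F.l i * (F.X ^ (m : ℕ) * F.f) * F.r j) • v
  -- the top terms vanish
  have htop : ∀ i j, q i j (Fin.last F.N) = 0 := fun i j => by
    show (F.l i * (F.X ^ F.N * F.f) * F.r j) • v = 0
    rw [mul_assoc (F.l i), mul_assoc (F.X ^ F.N), F.f_r,
      (F.X_pow_comm F.N (F.mem_r j)).eq, ← mul_assoc, mul_smul, hX, smul_zero]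
  -- the others
  have hdiv : ∀ i j, ∀ m : Fin F.N, ∃ y, F.b * u i j m.castSucc = F.X * y := by
    intro i j m
    have humem : u i j m.castSucc ∈ sub k C := Subalgebra.sum_mem _ fun c _ =>
      Subalgebra.smul_mem _ (single_mem_sub c.2 1) _
    obtain ⟨y, -, hy⟩ := F.kill humem (by
      obtain ⟨W, hW⟩ := Subalgebra.pow_mem _ F.mem_X F.N
      have hW' : ext C W = F.X ^ F.N := hW
      have hL0 : ∀ g : C, L i j m.castSucc (ext C W * single (g : G)⁻¹ 1) = 0 := by
        intro g
        set a := F.r i * (single (g : G)⁻¹ 1) * F.l j with ha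
        have hamem : a ∈ sub k C := Subalgebra.mul_mem _
          (Subalgebra.mul_mem _ (F.mem_r i) (single_mem_sub (inv_mem g.2) 1)) (F.mem_l j)
        have hb' : F.r i * (ext C W * single (g : G)⁻¹ 1) * F.l j = F.X ^ F.N * a := by
          rw [hW', ha, ← mul_assoc (F.r i), ← (F.X_pow_comm F.N (F.mem_r i)).eq]
          simp only [mul_assoc]
        obtain ⟨s, z, hz, hsz⟩ := F.corner_eq hamem
        have h1 : F.f * (F.X ^ F.N * a) * F.f = F.comb (Pi.single (Fin.last F.N) s) := by
          rw [← mul_assoc F.f, ← (F.X_pow_comm F.N F.mem_f).eq, mul_assoc, mul_assoc,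
            ← mul_assoc F.f a, hsz, mul_add, mul_smul_comm, ← mul_assoc, ← pow_succ, F.nil,
            zero_mul, add_zero, F.comb_apply, Finset.sum_eq_single (Fin.last F.N)]
          · rw [Pi.single_eq_same]; rfl
          · intro c _ hc
            rw [Pi.single_eq_of_ne hc, zero_smul]
          · simp
        rw [hL₀ _ (Subalgebra.mul_mem _ (Subalgebra.pow_mem _ F.mem_X _) hamem)] at h1
        show L₀ (F.r i * (ext C W * single (g : G)⁻¹ 1) * F.l j) m.castSucc = 0
        rw [hb', F.comb_injective h1, Pi.single_eq_of_ne (Fin.castSucc_lt_last m).ne]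
      rw [← hW']
      calc u i j m.castSucc * ext C W
          = ∑ c : C, ∑ d : C, (L i j m.castSucc (single (c : G)⁻¹ 1) * W.coeff d) •
              single ((c * d : C) : G) (1 : k) := by
            rw [ext_eq_sum, Finset.sum_mul]
            refine Finset.sum_congr rfl fun c _ => ?_
            rw [Finset.mul_sum]
            refine Finset.sum_congr rfl fun d _ => ?_
            rw [smul_mul_smul_comm, single_mul_single, one_mul, Subgroup.coe_mul]
        _ = ∑ d : C, ∑ g : C, (L i j m.castSucc (single ((g * d⁻¹ : C) : G)⁻¹ 1) * W.coeff d) •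
              single (g : G) (1 : k) := by
            rw [Finset.sum_comm]
            refine Finset.sum_congr rfl fun d _ => Fintype.sum_equiv (Equiv.mulRight d) _ _
              fun c => ?_
            simp
        _ = ∑ g : C, L i j m.castSucc (ext C W * single (g : G)⁻¹ 1) • single (g : G) (1 : k) := by
            rw [Finset.sum_comm]
            refine Finset.sum_congr rfl fun g _ => ?_
            rw [← Finset.sum_smul, ext_eq_sum W, Finset.sum_mul, map_sum]
            congr 1
            refine Finset.sum_congr rfl fun d _ => ?_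
            rw [smul_mul_assoc, map_smul, single_mul_single, one_mul, smul_eq_mul, mul_comm,
              Subgroup.coe_mul, Subgroup.coe_inv, mul_inv_rev, inv_inv]
        _ = 0 := Finset.sum_eq_zero fun g _ => by rw [hL0, zero_smul])
    exact ⟨y, hy⟩
  choose y hy using hdiv
  refine ⟨∑ i, ∑ j, ∑ m, y i j m • θ (q i j m.castSucc), ?_⟩
  have hexp : ∀ c : C, single (c : G)⁻¹ (1 : k) • v =
      ∑ i, ∑ j, ∑ m, L i j m (single (c : G)⁻¹ 1) • q i j m := by
    intro c
    have hmem := single_mem_sub (k := k) (inv_mem c.2) 1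
    calc single (c : G)⁻¹ (1 : k) • v = (F.b * single (c : G)⁻¹ (1 : k)) • v := by
          rw [(F.b_comm _ hmem).eq, mul_smul, hv]
      _ = _ := by
          rw [F.decomp hmem, Finset.sum_smul]
          refine Finset.sum_congr rfl fun i _ => ?_
          rw [Finset.sum_smul]
          refine Finset.sum_congr rfl fun j _ => ?_
          rw [hL₀ _ (Subalgebra.mul_mem _ (Subalgebra.mul_mem _ (F.mem_r i) hmem) (F.mem_l j)),
            F.comb_apply, Finset.mul_sum, Finset.sum_mul, Finset.sum_smul]
          refine Finset.sum_congr rfl fun m _ => ?_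
          rw [mul_smul_comm, smul_mul_assoc, smul_assoc]
          rfl
  calc F.b • ∑ c : C, single (c : G) (1 : k) • θ (single (c : G)⁻¹ (1 : k) • v)
      = ∑ i, ∑ j, ∑ m, (F.b * u i j m) • θ (q i j m) := by
        simp only [hexp, map_sum, map_smul, Finset.smul_sum]
        rw [Finset.sum_comm]
        refine Finset.sum_congr rfl fun i _ => ?_
        rw [Finset.sum_comm]
        refine Finset.sum_congr rfl fun j _ => ?_
        rw [Finset.sum_comm]
        refine Finset.sum_congr rfl fun m _ => ?_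
        simp only [u, mul_smul, Finset.sum_smul, Finset.smul_sum]
        refine Finset.sum_congr rfl fun c _ => ?_
        rw [smul_comm (single (c : G) (1 : k)), smul_assoc]
    _ = _ := by
        simp only [Finset.smul_sum]
        refine Finset.sum_congr rfl fun i _ => Finset.sum_congr rfl fun j _ => ?_
        rw [Fin.sum_univ_castSucc, htop, map_zero, smul_zero, add_zero]
        exact Finset.sum_congr rfl fun m _ => by rw [hy, mul_smul]

end Cfsg.Agent.Lib.CyclicBlocks.Twist
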