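import Mathlib.GroupTheory.GroupAction.Quotient
import Mathlib.Algebra.BigOperators.Group.Finset.Basic
import Mathlib.Algebra.Module.BigOperators
import Mathlib.Algebra.BigOperators.GroupWithZero.Action
import Mathlib.GroupTheory.Perm.Basic

/-!
# Weights for sums over orbits

A weight for a free action is a function with sum one over every orbit. It replaces the choice of
representatives in sums over cosets.
-/

set_option autoImplicit false
set_option linter.unusedSectionVars false

namespace Cfsg.Agent.Lib.CyclicBlocks.Weights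

open Finset

variable {R Γ α β : Type*} [Semiring R] [Group Γ] [Fintype Γ] [AddCommMonoid β] [Module R β]
  (φ : Γ →* Equiv.Perm α)

/-- A weight for `φ` on `O`. -/
def IsWeight (O : Set α) (χ : α → R) : Prop := ∀ x ∈ O, ∑ γ : Γ, χ (φ γ x) = 1

theorem exists_weight (O : Set α) (free : ∀ x ∈ O, ∀ γ : Γ, φ γ x = x → γ = 1) :
    ∃ χ : α → R, IsWeight φ O χ := by
  classical
  letI : MulAction Γ α := MulAction.compHom α φ
  have hsm : ∀ (γ : Γ) (x : α), γ • x = φ γ x := fun _ _ => rfl
  let q : α → MulAction.orbitRel.Quotient Γ α := fun x => Quotient.mk'' x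
  refine ⟨fun x => if (q x).out = x then 1 else 0, fun x hx => ?_⟩
  obtain ⟨δ, hδ⟩ : (q x).out ∈ MulAction.orbit Γ x :=
    MulAction.orbitRel_apply.mp (Quotient.exact (Quotient.out_eq (q x)))
  replace hδ : φ δ x = (q x).out := hδ
  have hq : ∀ γ, q (φ γ x) = q x := fun γ =>
    Quotient.sound' (MulAction.orbitRel_apply.mpr (MulAction.mem_orbit x γ))
  rw [Finset.sum_eq_single δ]
  · show (if (q (φ δ x)).out = φ δ x then 1 else 0) = (1 : R)
    rw [if_pos (by rw [hq, hδ])]
  · intro γ _ hγ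
    show (if (q (φ γ x)).out = φ γ x then 1 else 0) = (0 : R)
    rw [if_neg]
    intro h
    rw [hq, ← hδ] at h
    refine hγ (inv_mul_eq_one.mp (free x hx (δ⁻¹ * γ) ?_)).symm
    rw [map_mul, Equiv.Perm.mul_apply, ← h, ← Equiv.Perm.mul_apply, ← map_mul, inv_mul_cancel,
      map_one, Equiv.Perm.one_apply]
  · exact fun h => absurd (Finset.mem_univ _) h

variable {φ} [Fintype α]

/-- Sums of invariant functions do not depend on the weight. -/
theorem sum_weight_eq {O : Set α} [DecidablePred (· ∈ O)] {χ χ' : α → R} (hχ : IsWeight φ O χ)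
    (hχ' : IsWeight φ O χ') (hO : ∀ γ, ∀ x ∈ O, φ γ x ∈ O) {F : α → β}
    (hF : ∀ γ, ∀ x ∈ O, F (φ γ x) = F x) :
    ∑ x with x ∈ O, χ x • F x = ∑ x with x ∈ O, χ' x • F x := by
  classical
  calc ∑ x with x ∈ O, χ x • F x
      = ∑ x with x ∈ O, ∑ γ : Γ, (χ x * χ' (φ γ x)) • F x := by
        refine Finset.sum_congr rfl fun x hx => ?_
        rw [← Finset.sum_smul, ← Finset.mul_sum, hχ' x (Finset.mem_filter.mp hx).2, mul_one]
    _ = ∑ γ : Γ, ∑ x with x ∈ O, (χ x * χ' (φ γ x)) • F x := Finset.sum_comm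
    _ = ∑ γ : Γ, ∑ x with x ∈ O, (χ (φ γ⁻¹ x) * χ' x) • F x := by
        refine Finset.sum_congr rfl fun γ _ => ?_
        have hinv : ∀ x, φ γ⁻¹ (φ γ x) = x := fun x => by
          rw [← Equiv.Perm.mul_apply, ← map_mul, inv_mul_cancel, map_one, Equiv.Perm.one_apply]
        refine Finset.sum_equiv (φ γ) (fun x => ?_) fun x hx => ?_
        · simp only [Finset.mem_filter, Finset.mem_univ, true_and]
          exact ⟨hO γ x, fun h => hinv x ▸ hO γ⁻¹ _ h⟩
        · rw [hinv, hF γ x (Finset.mem_filter.mp hx).2]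
    _ = ∑ x with x ∈ O, ∑ γ : Γ, (χ (φ γ⁻¹ x) * χ' x) • F x := Finset.sum_comm
    _ = ∑ x with x ∈ O, χ' x • F x := by
        refine Finset.sum_congr rfl fun x hx => ?_
        rw [← Finset.sum_smul, ← Finset.sum_mul]
        congr 1
        rw [show ∑ γ : Γ, χ (φ γ⁻¹ x) = 1 from (Fintype.sum_equiv (Equiv.inv Γ) _
          (fun γ => χ (φ γ x)) (fun γ => rfl)).trans (hχ x (Finset.mem_filter.mp hx).2), one_mul]

end Cfsg.Agent.Lib.CyclicBlocks.Weights
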