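import Mathlib
import Cfsg.Agent.Lib.CyclicBlocks.Twist
import Cfsg.Agent.Lib.CyclicBlocks.Weights
import Cfsg.Agent.Lib.CyclicBlocks.Strings

/-!
# An endomorphism inducing the twisted generator

On a module the twisted generator `w` of a frame acts on what `X ^ N` kills modulo the multiples of
`X`. `exists_endo`: `e` times this action is induced by an endomorphism of the module.
-/

set_option autoImplicit false
set_option linter.style.haveILetI false
set_option linter.unusedSectionVars false

namespace Cfsg.Agent.Lib.CyclicBlocks.Endo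

open MonoidAlgebra Cfsg.Agent.Lib.BrauerMap.Basic Cfsg.Agent.Lib.BrauerPairs.Trunc
open Cfsg.Agent.Lib.CyclicBlocks.Frame Cfsg.Agent.Lib.CyclicBlocks.Twist
open Cfsg.Agent.Lib.CyclicBlocks.Weights

universe u v w

variable {k : Type v} [Field k] {G : Type u} [Group G] [Finite G] {C : Subgroup G}

/-- The right translations by a subgroup. -/
def right (H : Subgroup G) : H →* Equiv.Perm G where
  toFun u := Equiv.mulRight (u : G)⁻¹
  map_one' := Equiv.ext fun x => by simp
  map_mul' u v := Equiv.ext fun x => by simp [mul_assoc]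

/-- The two sided translations by a subgroup. -/
def double (H : Subgroup G) : H × H →* Equiv.Perm G where
  toFun u := (Equiv.mulLeft (u.1 : G)).trans (Equiv.mulRight (u.2 : G)⁻¹)
  map_one' := Equiv.ext fun x => by simp
  map_mul' u v := Equiv.ext fun x => by simp [mul_assoc]

/-- The conjugations by a subgroup. -/
def conj (H : Subgroup G) : H →* Equiv.Perm G where
  toFun u := (Equiv.mulLeft (u : G)).trans (Equiv.mulRight (u : G)⁻¹)
  map_one' := Equiv.ext fun x => by simp
  map_mul' u v := Equiv.ext fun x => by simp [mul_assoc]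

theorem right_apply (H : Subgroup G) (u : H) (x : G) : right H u x = x * (u : G)⁻¹ := rfl

theorem double_apply (H : Subgroup G) (u v : H) (x : G) :
    double H (u, v) x = (u : G) * x * (v : G)⁻¹ := rfl

theorem conj_apply (H : Subgroup G) (u : H) (x : G) : conj H u x = (u : G) * x * (u : G)⁻¹ := rfl

/-- The assumptions on the frame and on the element `h`. -/
structure Setup (F : Data k C) (P : Subgroup G) (a : MonoidAlgebra k G) (h : G) (e : ℕ) : Prop where
  le : P ≤ C
  mem_a : a ∈ sub k C
  a_fix : ∀ u ∈ P, conjA u a = a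
  trace : ∃ χ : G → k, (∀ [Fintype P], IsWeight (right P) (C : Set G) χ) ∧
    ∀ [Fintype C], F.b = ∑ c : C, χ c • conjA (c : G) a
  norm : ∀ g ∈ C, h * g * h⁻¹ ∈ C
  fix_b : conjA h F.b = F.b
  pos : 0 < e
  pow_mem : ∀ i, h ^ i ∈ C ↔ e ∣ i
  dich : ∀ g, (∃ i < e, (h ^ i)⁻¹ * g ∈ C) ∨ F.b * conjA g F.b = 0 ∨
    ∀ u ∈ P, g⁻¹ * u * g ∈ P → u = 1
  cent : ∀ u ∈ P, u ≠ 1 → ∀ g, u * g = g * u → g ∈ C

variable {F : Data k C} {P : Subgroup G} {a : MonoidAlgebra k G} {h : G} {e : ℕ}

theorem Setup.norm_inv (S : Setup F P a h e) : ∀ g ∈ C, h⁻¹ * g * h ∈ C := by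
  intro g hg
  let φ : C → C := fun g => ⟨h * g * h⁻¹, S.norm g g.2⟩
  have hφ : Function.Surjective φ := Finite.surjective_of_injective fun a a' h =>
    Subtype.ext (by simpa [φ] using congrArg Subtype.val h)
  obtain ⟨d, hd⟩ := hφ ⟨g, hg⟩
  rw [← show h * (d : G) * h⁻¹ = g from congrArg Subtype.val hd,
    show h⁻¹ * (h * (d : G) * h⁻¹) * h = (d : G) by group]
  exact d.2

theorem Setup.norm_pow (S : Setup F P a h e) (i : ℕ) :
    ∀ g ∈ C, h ^ i * g * (h ^ i)⁻¹ ∈ C ∧ (h ^ i)⁻¹ * g * h ^ i ∈ C := by
  induction i with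
  | zero => simp
  | succ i ih =>
    intro g hg
    constructor
    · have := S.norm _ (ih g hg).1
      rw [pow_succ']
      simpa [mul_assoc] using this
    · have := (ih _ (S.norm_inv g hg)).2
      rw [pow_succ']
      simpa [mul_assoc] using this

theorem Setup.conjA_b (S : Setup F P a h e) {c : G} (hc : c ∈ C) : conjA c F.b = F.b := by
  rw [conjA_eq, ← (F.b_comm _ (single_mem_sub hc 1)).eq, mul_assoc, single_mul_single,
    mul_inv_cancel, one_mul, ← MonoidAlgebra.one_def, mul_one]

theorem Setup.pull (S : Setup F P a h e) (j : ℕ) (W : Gen F h e) :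
    ∃ y, F.X ^ j * W.w = y * F.X ^ j := by
  have hb' : conjA h⁻¹ F.b = F.b := by
    conv_lhs => rw [← S.fix_b, ← conjA_mul, inv_mul_cancel, conjA_one]
  obtain ⟨z, hz, hzX⟩ := F.conjA_X (x := h⁻¹) (fun g hg => by simpa using S.norm_inv g hg) hb'
  refine ⟨W.A * single h 1 * z ^ j, ?_⟩
  have h1 : conjA h⁻¹ (F.X ^ j) = z ^ j * F.X ^ j := by
    rw [map_pow, hzX, (F.X_comm z hz).eq, ((F.X_comm z hz).symm).mul_pow]
  rw [W.eq, ← mul_assoc, (F.X_pow_comm j W.mem_A).eq, mul_assoc W.A, mul_single_eq, h1]
  simp only [mul_assoc]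

variable {V : Type w} [AddCommGroup V] [Module (MonoidAlgebra k G) V] [Module k V]
  [IsScalarTower k (MonoidAlgebra k G) V]

/-- Left multiplication as an endomorphism. -/
noncomputable def act (x : MonoidAlgebra k G) : Module.End k V := Algebra.lsmul k k V x

theorem act_apply (x : MonoidAlgebra k G) (v : V) : act x v = x • v := rfl

/-- Conjugation of an endomorphism. -/
noncomputable def cj (g : G) : Module.End k V →ₗ[k] Module.End k V :=
  LinearMap.mulLeft k (act (single g 1)) ∘ₗ LinearMap.mulRight k (act (single g⁻¹ 1))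

theorem cj_apply (g : G) (θ : Module.End k V) (v : V) :
    cj g θ v = single g (1 : k) • θ (single g⁻¹ (1 : k) • v) := rfl

theorem cj_mul (g g' : G) (θ : Module.End k V) : cj (g * g') θ = cj g (cj g' θ) := by
  refine LinearMap.ext fun v => ?_
  simp only [cj_apply, ← mul_smul, single_mul_single, one_mul, mul_inv_rev]

theorem cj_act (g : G) (x : MonoidAlgebra k G) : cj g (act x : Module.End k V) = act (conjA g x) := by
  refine LinearMap.ext fun v => ?_
  rw [cj_apply, act_apply, act_apply, conjA_eq, mul_smul, mul_smul]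

theorem cj_act_mul (g : G) (x : MonoidAlgebra k G) (θ : Module.End k V) :
    cj g (act x * θ) = act (conjA g x) * cj g θ := by
  refine LinearMap.ext fun v => ?_
  simp only [cj_apply, Module.End.mul_apply, act_apply, ← mul_smul]
  rw [single_mul_eq g x]

variable (F) in
/-- What the statements are about. -/
def Ker (v : V) : Prop := F.b • v = v ∧ F.X ^ F.N • v = 0

/-- The conjugates of an element by a free action give multiples of `X`. -/
theorem trace_mem (S : Setup F P a h e) [Fintype P] (T θ : Module.End k V)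
    (hT : T = ∑ u : P, cj (u : G) θ) (hTC : ∀ c ∈ C, cj c T = T) {v : V} (hv : Ker F v) :
    ∃ y : V, F.b • T v = F.X • y := by
  classical
  haveI := Fintype.ofFinite C
  haveI := Fintype.ofFinite G
  obtain ⟨χ, hχ, hb⟩ := S.trace
  have h1 : act F.b * T = ∑ c : C, cj (c : G) (act a * θ) := by
    have ha : act a * T = ∑ u : P, cj (u : G) (act a * θ) := by
      rw [hT, Finset.mul_sum]
      exact Finset.sum_congr rfl fun u _ => by rw [cj_act_mul, S.a_fix _ u.2]
    calc act F.b * T = ∑ c : C, χ c • cj (c : G) (act a * T) := by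
          refine LinearMap.ext fun v => ?_
          rw [Module.End.mul_apply, act_apply, hb, Finset.sum_smul, LinearMap.coe_sum,
            Finset.sum_apply]
          refine Finset.sum_congr rfl fun c _ => ?_
          rw [LinearMap.smul_apply, cj_act_mul, hTC _ c.2, smul_assoc]
          rfl
      _ = ∑ c : C, ∑ u : P, χ c • cj ((c : G) * u) (act a * θ) := by
          refine Finset.sum_congr rfl fun c _ => ?_
          rw [ha, map_sum, Finset.smul_sum]
          exact Finset.sum_congr rfl fun u _ => by rw [cj_mul]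
      _ = ∑ u : P, ∑ c : C, χ ((c : G) * (u : G)⁻¹) • cj (c : G) (act a * θ) := by
          rw [Finset.sum_comm]
          refine Finset.sum_congr rfl fun u _ =>
            Fintype.sum_equiv (Equiv.mulRight (⟨u, S.le u.2⟩ : C)) _ _ fun c => ?_
          simp [mul_assoc]
      _ = _ := by
          rw [Finset.sum_comm]
          refine Finset.sum_congr rfl fun c _ => ?_
          rw [← Finset.sum_smul]
          have := hχ (c : G) c.2
          simp only [right_apply] at this
          rw [this, one_smul]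
  obtain ⟨y, hy⟩ := casimir (act a * θ) hv.1 hv.2
  refine ⟨y, ?_⟩
  have h2 : F.b • T v =
      ∑ c : C, single (c : G) (1 : k) • ((act a : Module.End k V) * θ) (single (c : G)⁻¹ (1 : k) • v) :=
    (LinearMap.congr_fun h1 v).trans ((LinearMap.sum_apply _ _ v).trans
      (Finset.sum_congr rfl fun c _ => cj_apply _ _ _))
  rw [← hy, ← h2, ← mul_smul, F.b_idem]

/-- The complement of the block kills what `X ^ N` kills, modulo the multiples of `X`. -/
theorem block_mem (S : Setup F P a h e) [Fintype G] {s : G → k}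
    (hs : ∀ g, s g ≠ 0 → g ∉ C) (hsC : ∀ c ∈ C, ∀ g, s (c * g * c⁻¹) = s g) {v : V}
    (hv : Ker F v) : ∃ y : V, F.b • (∑ g, s g • single g (1 : k)) • v = F.X • y := by
  classical
  haveI := Fintype.ofFinite P
  set O : Set G := {g | g ∉ C} with hO
  obtain ⟨ω, hω⟩ := exists_weight (R := k) (conj P) O (fun g hg u hu => by
    by_contra hne
    refine hg (S.cent u u.2 (fun hh => hne (Subtype.ext hh)) g ?_)
    rw [conj_apply] at hu
    exact mul_inv_eq_iff_eq_mul.mp hu)
  refine trace_mem S (act (∑ g, s g • single g (1 : k))) (act (∑ g, (ω g * s g) • single g (1 : k)))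
    ?_ (fun c hc => ?_) hv
  · rw [Finset.sum_congr rfl fun (u : P) _ => cj_act (u : G) _]
    refine LinearMap.ext fun v => ?_
    simp only [act_apply, LinearMap.coe_sum, Finset.sum_apply, ← Finset.sum_smul]
    congr 1
    simp only [map_sum, map_smul]
    rw [Finset.sum_comm]
    refine Finset.sum_congr rfl (fun g _ => rfl) |>.trans ?_
    calc ∑ g, s g • single g (1 : k)
        = ∑ u : P, ∑ g, (ω g * s g) • single ((u : G) * g * (u : G)⁻¹) (1 : k) := by
          rw [Finset.sum_congr rfl fun (u : P) _ => (Fintype.sum_equiv (conj P u)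
            (fun g => (ω g * s g) • single ((u : G) * g * (u : G)⁻¹) (1 : k))
            (fun g => (ω ((u : G)⁻¹ * g * u) * s g) • single g (1 : k)) fun g => by
              rw [conj_apply, hsC _ (S.le u.2)]
              congr 2
              congr 1
              group), Finset.sum_comm]
          refine Finset.sum_congr rfl fun g _ => ?_
          rw [← Finset.sum_smul, ← Finset.sum_mul]
          by_cases hg : s g = 0
          · simp [hg]
          · congr 1
            rw [show ∑ u : P, ω ((u : G)⁻¹ * g * u) = 1 from ?_, one_mul]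
            refine Eq.trans (Fintype.sum_equiv (Equiv.inv P) _ _ fun u => ?_) (hω g (hs g hg))
            show ω _ = ω (conj P u⁻¹ g)
            rw [conj_apply]
            simp
      _ = _ := by
          rw [Finset.sum_comm]
          refine Finset.sum_congr rfl fun g _ => Finset.sum_congr rfl fun u _ => ?_
          rw [conjA_eq, single_mul_single, single_mul_single, one_mul, mul_one]
  · rw [cj_act]
    congr 1
    simp only [map_sum, map_smul]
    refine Fintype.sum_equiv ((Equiv.mulLeft c).trans (Equiv.mulRight c⁻¹)) _ _ fun g => ?_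
    rw [conjA_eq, single_mul_single, single_mul_single, one_mul, mul_one]
    simp [hsC c hc]

/-- The part of the sum over the cosets of `C` lying in a set. -/
noncomputable def part [Fintype G] (χ : G → k) (O : Set G) (θ : Module.End k V) :
    Module.End k V := by
  classical exact ∑ g with g ∈ O, χ g • cj g θ

theorem cj_part [Fintype G] [Fintype C] {χ : G → k} (hχ : IsWeight (right C) Set.univ χ) {O : Set G}
    (hR : ∀ g ∈ O, ∀ c ∈ C, g * c ∈ O) {θ : Module.End k V} (hθ : ∀ c ∈ C, cj c θ = θ) {x : G}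
    (hx : ∀ g, x * g ∈ O ↔ g ∈ O) : cj x (part χ O θ) = part χ O θ := by
  classical
  simp only [part, map_sum, map_smul, ← cj_mul]
  refine Eq.trans (Finset.sum_equiv (Equiv.mulLeft x) (t := {g | g ∈ O})
    (g := fun g => χ (x⁻¹ * g) • cj g θ) (fun g => by simp [hx]) fun g _ => by simp) ?_
  refine sum_weight_eq (φ := right C) ?_ (fun g _ => hχ g trivial) (fun c g hg => ?_) fun c g _ => ?_
  · intro g _
    have := hχ (x⁻¹ * g) trivial
    simp only [right_apply, mul_assoc] at this ⊢
    exact this
  · exact hR g hg _ (inv_mem c.2)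
  · rw [right_apply, cj_mul, hθ _ (inv_mem c.2)]

/-- **The endomorphism.** -/
theorem exists_endo (S : Setup F P a h e) [FiniteDimensional k V] (W : Gen F h e) :
    ∃ Φ : Module.End k V, (∀ (x : MonoidAlgebra k G) (v : V), Φ (x • v) = x • Φ v) ∧
      ∀ v : V, F.f • v = v → Ker F v → ∃ y : V, Φ v - (e : k) • (W.w • v) = F.X • y := by
  classical
  haveI := Fintype.ofFinite G
  haveI := Fintype.ofFinite C
  haveI := Fintype.ofFinite P
  -- the corner of the module
  set Vf : Submodule k V := LinearMap.range (act F.f) with hVf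
  have hmemf : ∀ {v : V}, v ∈ Vf ↔ F.f • v = v := fun {v} => by
    refine ⟨?_, fun hv => ⟨v, hv⟩⟩
    rintro ⟨u, rfl⟩
    rw [act_apply, ← mul_smul, F.f_idem]
  have hfr : ∀ (x : MonoidAlgebra k G) (v : V), F.f * x = x → x • v ∈ Vf := fun x v hx =>
    hmemf.mpr (by rw [← mul_smul, hx])
  have hXf : ∀ v ∈ Vf, act F.X v ∈ Vf := fun v hv => hmemf.mpr (by
    rw [act_apply, ← mul_smul, ← (F.X_comm _ F.mem_f).eq, mul_smul, hmemf.mp hv])
  set π : Module.End k Vf := (act F.X).restrict hXf with hπ
  have hπj : ∀ (j : ℕ) (v : Vf), ((π ^ j) v : V) = F.X ^ j • (v : V) := by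
    intro j
    induction j with
    | zero => intro v; simp
    | succ j ih => intro v; rw [pow_succ', Module.End.mul_apply, pow_succ', mul_smul, ← ih]; rfl
  have hπn : π ^ (F.N + 1) = 0 := LinearMap.ext fun v => Subtype.ext (by
    rw [hπj, F.nil, zero_smul]; rfl)
  set wf : Module.End k Vf :=
    (act W.w).restrict (fun v _ => hfr W.w v W.f_w : ∀ v ∈ Vf, act W.w v ∈ Vf) with hwf
  obtain ⟨ψ, hψπ, hψw⟩ := Strings.exists_lift π hπn wf (fun v => by
    obtain ⟨y, hy⟩ := W.slides
    refine ⟨⟨F.f • y • (v : V), hfr _ _ F.f_idem⟩, Subtype.ext ?_⟩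
    show F.X • F.f • y • (v : V) = W.w • F.X • (v : V)
    rw [← mul_smul W.w, hy, mul_smul, ← mul_smul F.X, (F.X_comm _ F.mem_f).eq, mul_smul,
      ← mul_smul F.X, ← hy, mul_smul, ← mul_smul F.f, W.f_w]) (fun j v hv => by
    refine ⟨wf v, Subtype.ext ?_, by rw [sub_self]; exact Submodule.zero_mem _⟩
    obtain ⟨y, hy⟩ := S.pull j W
    have hv' : F.X ^ j • (v : V) = 0 := by rw [← hπj, hv]; rfl
    rw [hπj]
    show F.X ^ j • W.w • (v : V) = 0
    rw [← mul_smul, hy, mul_smul, hv', smul_zero])
  have hψX : ∀ v : Vf, ψ (π v) = π (ψ v) := fun v => (LinearMap.congr_fun hψπ.eq v).symm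
  -- commutation with the corner
  have hcorner : ∀ x ∈ sub k C, ∀ v : Vf, ((ψ ⟨(F.f * x * F.f) • (v : V),
      hfr _ _ (by simp only [← mul_assoc, F.f_idem])⟩ : Vf) : V) =
      (F.f * x * F.f) • ((ψ v : Vf) : V) := by
    intro x hx v
    have key : ∀ z ∈ Submodule.span k
        (Set.range fun j : Fin (F.N + 1) => F.X ^ (j : ℕ) * F.f),
        ∀ hz : z • (v : V) ∈ Vf, ((ψ ⟨z • (v : V), hz⟩ : Vf) : V) = z • ((ψ v : Vf) : V) := by
      intro z hz
      obtain ⟨c, rfl⟩ := (Submodule.mem_span_range_iff_exists_fun k).mp hz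
      intro hz'
      have e1 : (⟨(∑ j, c j • (F.X ^ (j : ℕ) * F.f)) • (v : V), hz'⟩ : Vf) =
          ∑ j, c j • (π ^ (j : ℕ)) v := by
        apply Subtype.ext
        simp only [Submodule.coe_sum, Submodule.coe_smul, Finset.sum_smul, smul_assoc, hπj,
          mul_smul, hmemf.mp v.2]
      rw [e1, map_sum, Submodule.coe_sum, Finset.sum_smul]
      refine Finset.sum_congr rfl fun j _ => ?_
      have e2 : ψ ((π ^ (j : ℕ)) v) = (π ^ (j : ℕ)) (ψ v) :=
        (LinearMap.congr_fun (hψπ.pow_left (j : ℕ)).eq v).symm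
      rw [map_smul, e2, Submodule.coe_smul, hπj, smul_assoc, mul_smul, hmemf.mp (ψ v).2]
    exact key _ (F.span x hx) _
  -- the extension
  let ψ' : Module.End k V := ∑ i, act (F.l i) ∘ₗ Vf.subtype ∘ₗ ψ ∘ₗ
    LinearMap.codRestrict Vf (act (F.r i)) (fun v => hfr _ v (F.f_r i))
  have hψ' : ∀ v, ψ' v = ∑ i, F.l i • ((ψ ⟨F.r i • v, hfr _ v (F.f_r i)⟩ : Vf) : V) := fun v => by
    simp only [ψ', LinearMap.coe_sum, Finset.sum_apply]
    rfl
  clear_value ψ'
  have hbψ : ∀ v, F.b • ψ' v = ψ' v := fun v => by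
    rw [hψ', Finset.smul_sum]
    exact Finset.sum_congr rfl fun i _ => by rw [← mul_smul, F.b_l]
  have hψsub : ∀ x ∈ sub k C, ∀ v, ψ' (x • v) = x • ψ' v := by
    intro x hx v
    have e1 : ∀ i, (⟨F.r i • x • v, hfr _ _ (F.f_r i)⟩ : Vf) =
        ∑ j, (⟨(F.f * (F.r i * x * F.l j) * F.f) • F.r j • v,
          hfr _ _ (by simp only [← mul_assoc, F.f_idem])⟩ : Vf) := fun i => by
      apply Subtype.ext
      simp only [Submodule.coe_sum, ← mul_smul, ← Finset.sum_smul]
      congr 1
      calc F.r i * x = F.r i * x * F.b := by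
            rw [mul_assoc, ← (F.b_comm x hx).eq, ← mul_assoc, F.r_b]
        _ = _ := by
            rw [← F.sum_eq, Finset.mul_sum]
            refine Finset.sum_congr rfl fun j _ => ?_
            rw [show F.f * (F.r i * x * F.l j) * F.f * F.r j =
              (F.f * F.r i) * x * (F.l j * (F.f * F.r j)) by simp only [mul_assoc], F.f_r, F.f_r]
    calc ψ' (x • v) = ∑ i, ∑ j, F.l i • (F.f * (F.r i * x * F.l j) * F.f) •
          ((ψ ⟨F.r j • v, hfr _ v (F.f_r j)⟩ : Vf) : V) := by
          rw [hψ']
          refine Finset.sum_congr rfl fun i _ => ?_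
          rw [e1, map_sum, Submodule.coe_sum, Finset.smul_sum]
          refine Finset.sum_congr rfl fun j _ => ?_
          congr 1
          exact hcorner _ (Subalgebra.mul_mem _ (Subalgebra.mul_mem _ (F.mem_r i) hx) (F.mem_l j))
            ⟨F.r j • v, hfr _ v (F.f_r j)⟩
      _ = ∑ j, (x * F.l j) • ((ψ ⟨F.r j • v, hfr _ v (F.f_r j)⟩ : Vf) : V) := by
          rw [Finset.sum_comm]
          refine Finset.sum_congr rfl fun j _ => ?_
          simp only [← mul_smul, ← Finset.sum_smul]
          congr 1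
          calc ∑ i, F.l i * (F.f * (F.r i * x * F.l j) * F.f)
              = ∑ i, F.l i * F.r i * x * F.l j := by
                refine Finset.sum_congr rfl fun i _ => ?_
                rw [show F.l i * (F.f * (F.r i * x * F.l j) * F.f) =
                  (F.l i * F.f) * F.r i * x * (F.l j * F.f) by simp only [mul_assoc], F.l_f, F.l_f]
            _ = x * F.l j := by
                rw [← Finset.sum_mul, ← Finset.sum_mul, F.sum_eq, (F.b_comm x hx).eq, mul_assoc,
                  F.b_l]
      _ = x • ψ' v := by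
          rw [hψ', Finset.smul_sum]
          exact Finset.sum_congr rfl fun j _ => mul_smul _ _ _
  have hψf : ∀ v (hv : F.f • v = v), ψ' v = ((ψ ⟨v, hmemf.mpr hv⟩ : Vf) : V) := by
    intro v hv
    rw [hψ']
    calc ∑ i, F.l i • ((ψ ⟨F.r i • v, hfr _ v (F.f_r i)⟩ : Vf) : V)
        = ∑ i, (F.l i * (F.r i * F.f)) • ((ψ ⟨v, hmemf.mpr hv⟩ : Vf) : V) := by
          refine Finset.sum_congr rfl fun i _ => ?_
          rw [mul_smul]
          congr 1
          have e1 : F.f * (F.r i) * F.f = F.r i * F.f := by rw [F.f_r]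
          have e2 : (⟨F.r i • v, hfr _ v (F.f_r i)⟩ : Vf) =
              ⟨(F.f * F.r i * F.f) • v, hfr _ _ (by simp only [← mul_assoc, F.f_idem])⟩ :=
            Subtype.ext (by show F.r i • v = (F.f * F.r i * F.f) • v; rw [e1, mul_smul, hv])
          rw [e2, ← e1]
          exact hcorner _ (F.mem_r i) ⟨v, hmemf.mpr hv⟩
      _ = _ := by
          rw [← Finset.sum_smul]
          simp only [← mul_assoc]
          rw [← Finset.sum_mul, F.sum_eq, F.b_f, hmemf.mp (ψ _).2]
  have hψC : ∀ c ∈ C, cj c ψ' = ψ' := fun c hc => LinearMap.ext fun v => by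
    rw [cj_apply, hψsub _ (single_mem_sub (inv_mem hc) 1), ← mul_smul, single_mul_single,
      mul_inv_cancel, one_mul, ← MonoidAlgebra.one_def, one_smul]
  -- the three parts
  obtain ⟨χ, hχ⟩ := exists_weight (R := k) (right C) (Set.univ : Set G) (fun g _ c hc => by
    rw [right_apply, mul_eq_left, inv_eq_one] at hc
    exact Subtype.ext hc)
  set In : Set G := {g | ∃ i < e, (h ^ i)⁻¹ * g ∈ C} with hIn
  set Orth : Set G := {g | g ∉ In ∧ F.b * conjA g F.b = 0} with hOrth
  set Out : Set G := {g | g ∉ In ∧ ¬ F.b * conjA g F.b = 0} with hOut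
  have hInR : ∀ g ∈ In, ∀ c ∈ C, g * c ∈ In := by
    rintro g ⟨i, hi, hg⟩ c hc
    exact ⟨i, hi, by rw [← mul_assoc]; exact mul_mem hg hc⟩
  have hInR' : ∀ g, ∀ c ∈ C, g * c ∈ In ↔ g ∈ In := fun g c hc =>
    ⟨fun hh => by simpa [mul_assoc] using hInR _ hh _ (inv_mem hc), fun hh => hInR g hh c hc⟩
  have hInL : ∀ g, ∀ c ∈ C, c * g ∈ In ↔ g ∈ In := by
    have key : ∀ g ∈ In, ∀ c ∈ C, c * g ∈ In := by
      rintro g ⟨i, hi, hg⟩ c hc
      refine ⟨i, hi, ?_⟩
      rw [show (h ^ i)⁻¹ * (c * g) = ((h ^ i)⁻¹ * c * h ^ i) * ((h ^ i)⁻¹ * g) by group]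
      exact mul_mem (S.norm_pow i c hc).2 hg
    exact fun g c hc =>
      ⟨fun hh => by simpa [← mul_assoc] using key _ hh _ (inv_mem hc), fun hh => key g hh c hc⟩
  have hOR : ∀ g, ∀ c ∈ C, conjA (g * c) F.b = conjA g F.b := fun g c hc => by
    rw [conjA_mul, S.conjA_b hc]
  have hOL : ∀ g, ∀ c ∈ C, F.b * conjA (c * g) F.b = conjA c (F.b * conjA g F.b) :=
    fun g c hc => by rw [conjA_mul, map_mul, S.conjA_b hc]
  have hOutR : ∀ g ∈ Out, ∀ c ∈ C, g * c ∈ Out := fun g hg c hc =>
    ⟨fun hh => hg.1 ((hInR' g c hc).mp hh), by rw [hOR g c hc]; exact hg.2⟩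
  have hOutL : ∀ g, ∀ c ∈ C, c * g ∈ Out ↔ g ∈ Out := fun g c hc =>
    and_congr (not_congr (hInL g c hc))
      (not_congr (by rw [hOL g c hc, EmbeddingLike.map_eq_zero_iff]))
  let Φ : Module.End k V := part χ Set.univ ψ'
  have hΦG : ∀ (x : MonoidAlgebra k G) (v : V), Φ (x • v) = x • Φ v := by
    intro x v
    induction x using MonoidAlgebra.induction_linear with
    | zero => simp
    | add f g hf hg => rw [add_smul, add_smul, map_add, hf, hg]
    | single m r =>
      have h1 := LinearMap.congr_fun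
        (cj_part hχ (O := Set.univ) (by simp) hψC (x := m) (by simp)) (single m (r : k) • v)
      rw [cj_apply] at h1
      show Φ _ = _
      rw [← h1, ← mul_smul (single m⁻¹ (1 : k)), single_mul_single, inv_mul_cancel, one_mul,
        show (single (1 : G) r : MonoidAlgebra k G) = r • 1 by
          rw [MonoidAlgebra.one_def, MonoidAlgebra.smul_single, smul_eq_mul, mul_one],
        smul_assoc, one_smul, map_smul,
        show (single m r : MonoidAlgebra k G) = r • single m 1 by
          rw [MonoidAlgebra.smul_single, smul_eq_mul, mul_one], smul_assoc, smul_comm]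
  have hsplit : Φ = part χ In ψ' + part χ Orth ψ' + part χ Out ψ' := by
    simp only [Φ, part]
    refine Eq.trans (Finset.sum_congr (s₂ := Finset.univ) (by ext; simp) fun _ _ => rfl) ?_
    rw [← Finset.sum_filter_add_sum_filter_not (Finset.univ : Finset G) (fun g => g ∈ In), add_assoc]
    congr 1
    · refine Finset.sum_congr ?_ fun _ _ => rfl
      ext g
      simp
    · refine (Finset.sum_filter_add_sum_filter_not _
        (fun g => F.b * conjA g F.b = 0) _).symm.trans ?_
      rw [Finset.filter_filter, Finset.filter_filter]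
      congr 1 <;> (refine Finset.sum_congr ?_ fun _ _ => rfl; ext g; simp [hOrth, hOut])
  refine ⟨Φ, hΦG, fun v hfv hv => ?_⟩
  -- the part off the inertial group
  have hout : ∃ y, F.b • part χ Out ψ' v = F.X • y := by
    obtain ⟨χP, hχP, hb⟩ := S.trace
    set Θ : Module.End k V := ψ' * act a with hΘ
    have hΘP : ∀ u ∈ P, cj u Θ = Θ := fun u hu => LinearMap.ext fun z => by
      simp only [cj_apply, hΘ, Module.End.mul_apply, act_apply]
      have h2 := S.a_fix u hu
      rw [conjA_eq] at h2
      rw [← hψsub _ (single_mem_sub (S.le hu) 1), ← mul_smul a, ← mul_smul, ← mul_assoc, h2]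
    let w₂ : G → k := fun y => ∑ x : C, χ (y * (x : G)⁻¹) * χP x
    have hS : part χ Out ψ' = ∑ y with y ∈ Out, w₂ y • cj y Θ := by
      have hψb : ψ' = ∑ x : C, χP x • cj (x : G) Θ := LinearMap.ext fun z => by
        calc ψ' z = ψ' (F.b • z) := by
              rw [hψsub _ F.mem_b, hbψ]
          _ = ψ' ((∑ x : C, χP x • conjA (x : G) a) • z) := by rw [← hb]
          _ = _ := by
              rw [Finset.sum_smul, map_sum]
              refine Eq.trans (Finset.sum_congr rfl fun x _ => ?_) (LinearMap.sum_apply _ _ z).symm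
              simp only [smul_assoc, map_smul, LinearMap.smul_apply, cj_apply, hΘ,
                Module.End.mul_apply, act_apply, conjA_eq, mul_smul,
                hψsub _ (single_mem_sub x.2 1)]
      calc part χ Out ψ' = ∑ g with g ∈ Out, ∑ x : C, (χ g * χP x) • cj (g * x) Θ := by
            simp only [part]
            refine Finset.sum_congr (by ext; simp) fun g _ => ?_
            conv_lhs => rw [hψb]
            simp only [map_sum, map_smul, Finset.smul_sum, smul_smul, cj_mul]
        _ = ∑ x : C, ∑ y with y ∈ Out, (χ (y * (x : G)⁻¹) * χP x) • cj y Θ := by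
            rw [Finset.sum_comm]
            refine Finset.sum_congr rfl fun x _ =>
              Finset.sum_equiv (Equiv.mulRight (x : G)) (fun g => ?_) fun g _ => by simp
            simp only [Finset.mem_filter, Finset.mem_univ, true_and, Equiv.coe_mulRight]
            exact ⟨fun hh => hOutR g hh _ x.2, fun hh => by
              simpa [mul_assoc] using hOutR _ hh _ (inv_mem x.2)⟩
        _ = _ := by
            rw [Finset.sum_comm]
            simp only [w₂, Finset.sum_smul]
    obtain ⟨ω, hω⟩ := exists_weight (R := k) (double P) Out (fun g hg u hu => by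
      obtain ⟨u, u'⟩ := u
      rw [double_apply] at hu
      have h1 : g⁻¹ * (u : G) * g = (u' : G) := by
        rw [mul_inv_eq_iff_eq_mul] at hu
        rw [mul_assoc, hu, inv_mul_cancel_left]
      have hu1 : (u : G) = 1 := by
        rcases S.dich g with h2 | h2 | h2
        · exact absurd h2 hg.1
        · exact absurd h2 hg.2
        · exact h2 u u.2 (h1 ▸ u'.2)
      rw [hu1, mul_one, inv_mul_cancel] at h1
      exact Prod.ext (Subtype.ext hu1) (Subtype.ext h1.symm))
    have hdR : ∀ (u : P), ∀ g ∈ Out, right P u g ∈ Out := fun u g hg =>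
      hOutR g hg _ (inv_mem (S.le u.2))
    have hw₂ : IsWeight (right P) Out w₂ := by
      intro y _
      calc ∑ u : P, w₂ (right P u y)
          = ∑ u : P, ∑ x : C, χ (y * (x : G)⁻¹) * χP ((x : G) * (u : G)⁻¹) := by
            refine Finset.sum_congr rfl fun u _ =>
              Fintype.sum_equiv (Equiv.mulRight (⟨u, S.le u.2⟩ : C)) _ _ fun x => ?_
            simp [right_apply, mul_assoc]
        _ = 1 := by
            rw [Finset.sum_comm]
            have h1 : ∀ x : C, ∑ u : P, χ (y * (x : G)⁻¹) * χP ((x : G) * (u : G)⁻¹) =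
                χ (y * (x : G)⁻¹) := fun x => by
              rw [← Finset.mul_sum]
              have := hχP (x : G) x.2
              simp only [right_apply] at this
              rw [this, mul_one]
            simp only [h1]
            exact hχ y trivial
    have hW : IsWeight (right P) Out fun y => ∑ u : P, ω ((u : G)⁻¹ * y) := by
      intro y hy
      refine Eq.trans ?_ (hω y hy)
      rw [Fintype.sum_prod_type, Finset.sum_comm]
      refine Fintype.sum_equiv (Equiv.inv P) _ _ fun u => Finset.sum_congr rfl fun v _ => ?_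
      simp [right_apply, double_apply, mul_assoc]
    obtain ⟨y, hy⟩ := trace_mem S (part χ Out ψ') (∑ z with z ∈ Out, ω z • cj z Θ) (by
      rw [hS, sum_weight_eq hw₂ hW hdR (fun u g _ => by
        rw [right_apply, cj_mul, hΘP _ (inv_mem u.2)])]
      simp only [Finset.sum_smul, map_sum, map_smul, ← cj_mul]
      rw [Finset.sum_comm]
      refine Finset.sum_congr rfl fun u _ =>
        Finset.sum_equiv (Equiv.mulLeft (u : G)⁻¹) (fun g => ?_) fun g _ => by simp
      simp only [Finset.mem_filter, Finset.mem_univ, true_and, Equiv.coe_mulLeft]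
      exact (hOutL g _ (inv_mem (S.le u.2))).symm)
      (fun c hc => cj_part hχ hOutR hψC fun g => hOutL g c hc) hv
    exact ⟨y, hy⟩
  have horth : F.b • part χ Orth ψ' v = 0 := by
    simp only [part, LinearMap.coe_sum, Finset.sum_apply, Finset.smul_sum]
    refine Finset.sum_eq_zero fun g hg => ?_
    rw [LinearMap.smul_apply, cj_apply, smul_comm, ← hbψ, ← mul_smul, ← mul_smul,
      mul_assoc F.b, single_mul_eq, ← mul_assoc, (show g ∈ Orth by simpa using hg).2, zero_mul,
      zero_smul, smul_zero]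
  have hin : part χ In ψ' = ∑ i ∈ Finset.range e, cj (h ^ i) ψ' := by
    have hinj : ∀ i j, i < e → j < e → (h ^ i)⁻¹ * h ^ j ∈ C → i = j := by
      have aux : ∀ i j, i ≤ j → j < e → (h ^ i)⁻¹ * h ^ j ∈ C → i = j := by
        intro i j hij hj hh
        obtain ⟨d, rfl⟩ := Nat.exists_eq_add_of_le hij
        rw [pow_add, inv_mul_cancel_left, S.pow_mem] at hh
        rcases Nat.eq_zero_or_pos d with rfl | hd
        · rfl
        · exact absurd (Nat.le_of_dvd hd hh) (by omega)
      intro i j hi hj hh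
      rcases le_total i j with hij | hij
      · exact aux i j hij hj hh
      · refine (aux j i hij hi ?_).symm
        simpa using inv_mem hh
    set I := (Finset.range e).image fun i => h ^ i with hI
    have hweight : IsWeight (right C) In fun g => if g ∈ I then (1 : k) else 0 := by
      intro g hg
      obtain ⟨i, hi, hgi⟩ := hg
      rw [Finset.sum_eq_single ⟨_, hgi⟩]
      · dsimp only
        rw [right_apply, if_pos]
        refine Finset.mem_image.mpr ⟨i, Finset.mem_range.mpr hi, ?_⟩
        group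
      · intro c _ hc
        dsimp only
        rw [if_neg]
        intro hh
        obtain ⟨j, hj, hjc⟩ := Finset.mem_image.mp hh
        rw [right_apply, eq_mul_inv_iff_mul_eq] at hjc
        have := hinj i j hi (Finset.mem_range.mp hj) (by
          rw [show (h ^ i)⁻¹ * h ^ j = ((h ^ i)⁻¹ * g) * (c : G)⁻¹ by rw [← hjc]; group]
          exact mul_mem hgi (inv_mem c.2))
        subst this
        exact hc (Subtype.ext (show (c : G) = (h ^ i)⁻¹ * g by rw [← hjc]; group))
      · exact fun hh => absurd (Finset.mem_univ _) hh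
    simp only [part]
    refine Eq.trans (Eq.trans (Finset.sum_congr (by ext; simp) fun _ _ => rfl)
      (sum_weight_eq (φ := right C) (O := In) (F := fun g => cj g ψ') (fun g _ => hχ g trivial)
        hweight (fun c g hg => hInR g hg _ (inv_mem c.2))
        (fun c g _ => by rw [right_apply, cj_mul, hψC _ (inv_mem c.2)]))) ?_
    simp only [ite_smul, one_smul, zero_smul, ← Finset.sum_filter, Finset.filter_filter]
    rw [show ({g | g ∈ In ∧ g ∈ I} : Finset G) = I from ?_]
    · rw [hI, Finset.sum_image]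
      intro i hi j hj hh
      exact hinj i j (Finset.mem_range.mp hi) (Finset.mem_range.mp hj) (by
        rw [show h ^ i = h ^ j from hh, inv_mul_cancel]; exact one_mem C)
    · ext g
      simp only [Finset.mem_filter, Finset.mem_univ, true_and, and_iff_right_iff_imp, hI,
        Finset.mem_image, Finset.mem_range]
      rintro ⟨i, hi, rfl⟩
      exact ⟨i, hi, by rw [inv_mul_cancel]; exact one_mem C⟩
  obtain ⟨z₀, hz₀⟩ := hψw ⟨v, hmemf.mpr hfv⟩
  have hψv : ∀ u, F.f • u = u → ∃ y, ψ' u - W.w • u = F.X • y := by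
    intro u hu
    obtain ⟨z, hz⟩ := hψw ⟨u, hmemf.mpr hu⟩
    refine ⟨z, ?_⟩
    rw [hψf u hu]
    exact (congrArg Subtype.val hz).symm
  have hone : ∀ i < e, ∃ y, cj (h ^ i) ψ' v - W.w • v = F.X • y := by
    intro i hi
    obtain ⟨z, hz⟩ := W.pow_e
    have hwe : W.w ^ e • v - v = F.X • z • v := by
      conv_lhs => arg 2; rw [← hfv]
      rw [← sub_smul, hz, mul_smul]
    set v' := W.w ^ (e - i) • v with hv'
    have hfv' : F.f • v' = v' := by
      rw [hv', ← mul_smul, show e - i = e - i - 1 + 1 by omega, pow_succ', ← mul_assoc, W.f_w]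
    obtain ⟨y₁, hy₁⟩ := hψv v' hfv'
    have hvv : W.w ^ i • v' = W.w ^ e • v := by
      rw [hv', ← mul_smul, ← pow_add, Nat.add_sub_cancel' hi.le]
    obtain ⟨B, hB, hBe⟩ := W.pow_eq S.norm i
    have hmove : cj (h ^ i) ψ' (W.w ^ i • v') = W.w ^ i • ψ' v' := by
      rw [hBe, cj_apply, ← mul_smul, ← mul_assoc, single_mul_eq _ B, mul_assoc, single_mul_single,
        inv_mul_cancel, one_mul, ← MonoidAlgebra.one_def, mul_one, hψsub _ (conjA_mem (fun g hg => by
          simpa using (S.norm_pow i g hg).2) hB), ← mul_smul, single_mul_eq, ← conjA_mul,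
        mul_inv_cancel, conjA_one]
    have hXmove : cj (h ^ i) ψ' (F.X • z • v) = F.X • cj (h ^ i) ψ' (z • v) := by
      obtain ⟨q, hq, hqe⟩ : ∃ q ∈ sub k C, conjA (h ^ i)⁻¹ F.X = q :=
        ⟨_, conjA_mem (fun g hg => by simpa using (S.norm_pow i g hg).2) F.mem_X, rfl⟩
      simp only [cj_apply]
      rw [← mul_smul (single (h ^ i)⁻¹ (1 : k)), single_mul_eq, hqe, mul_smul, hψsub q hq,
        ← mul_smul (single (h ^ i) (1 : k)), single_mul_eq (h ^ i) q, ← hqe, ← conjA_mul,
        mul_inv_cancel, conjA_one, mul_smul]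
    obtain ⟨y₂, hy₂⟩ : ∃ y, W.w ^ i • F.X • y₁ = F.X • y := by
      obtain ⟨q, hq⟩ := W.slides.pow i
      exact ⟨q • y₁, by rw [← mul_smul, hq, mul_smul]⟩
    obtain ⟨y₃, hy₃⟩ : ∃ y, W.w • F.X • z • v = F.X • y := by
      obtain ⟨q, hq⟩ := W.slides
      exact ⟨q • z • v, by rw [← mul_smul W.w, hq, mul_smul]⟩
    refine ⟨y₂ + y₃ - cj (h ^ i) ψ' (z • v), ?_⟩
    rw [smul_sub, smul_add, ← hy₂, ← hy₃, ← hXmove, ← hy₁, ← hwe, smul_sub, smul_sub, map_sub,
      ← hvv, hmove, ← mul_smul (W.w ^ i), ← mul_smul W.w, ← pow_succ, ← pow_succ']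
    abel
  choose y hy using hone
  obtain ⟨y₀, hy₀⟩ := hout
  have hbΦ : F.b • Φ v = Φ v := by rw [← hΦG, hv.1]
  refine ⟨(∑ i : Fin e, F.b • y i i.2) + y₀, ?_⟩
  rw [smul_add, ← hy₀, ← hbΦ, hsplit, LinearMap.add_apply, LinearMap.add_apply, smul_add, smul_add,
    horth, add_zero, hin, LinearMap.coe_sum, Finset.sum_apply, Finset.smul_sum, Finset.smul_sum,
    ← Fin.sum_univ_eq_sum_range (fun i => F.b • cj (h ^ i) ψ' v), add_sub_right_comm]
  congr 1
  have hbw : F.b • W.w • v = W.w • v := by
    rw [← mul_smul, ← W.f_w, ← mul_assoc, F.b_f]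
  rw [show (e : k) • (W.w • v) = ∑ _i : Fin e, W.w • v by
    rw [Finset.sum_const, Finset.card_univ, Fintype.card_fin, Nat.cast_smul_eq_nsmul],
    ← Finset.sum_sub_distrib]
  refine Finset.sum_congr rfl fun i _ => ?_
  rw [← mul_smul F.X, (F.X_comm _ F.mem_b).eq, mul_smul, ← hy i i.2, smul_sub, hbw]

end Cfsg.Agent.Lib.CyclicBlocks.Endo
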