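import Mathlib
import Cfsg.Agent.Lib.CyclicBlocks.Endo
import Cfsg.Agent.Lib.BrauerPairs.SimpleRep

/-!
# Simple modules with an eigenvector of the twisted generator

`exists_simple`: for each `e`-th root of unity `μ` a simple module of the block has an eigenvector
of `w` for `μ` in what `X ^ N` kills modulo the multiples of `X`.  The root is determined by the
module.
-/

set_option autoImplicit false
set_option linter.style.haveILetI false
set_option linter.unusedSectionVars false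

namespace Cfsg.Agent.Lib.CyclicBlocks.Simples

open MonoidAlgebra Cfsg.Agent.Lib.BrauerMap.Basic Cfsg.Agent.Lib.BrauerPairs.Trunc
open Cfsg.Agent.Lib.CyclicBlocks.Frame Cfsg.Agent.Lib.CyclicBlocks.Twist
open Cfsg.Agent.Lib.CyclicBlocks.Endo

universe u v w

variable {k : Type v} [Field k] {G : Type u} [Group G] [Finite G] {C : Subgroup G}
  {F : Data k C}

theorem Cong.add {a b c d : MonoidAlgebra k G} (h : Cong F a b) (h' : Cong F c d) :
    Cong F (a + c) (b + d) := by
  obtain ⟨z, hz⟩ := h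
  obtain ⟨z', hz'⟩ := h'
  exact ⟨z + z', by rw [mul_add, ← hz, ← hz', add_sub_add_comm]⟩

theorem Cong.smul {a b : MonoidAlgebra k G} (h : Cong F a b) (r : k) :
    Cong F (r • a) (r • b) := by
  obtain ⟨z, hz⟩ := h
  exact ⟨r • z, by rw [← smul_sub, hz, mul_smul_comm]⟩

theorem Cong.sum {ι : Type*} (s : Finset ι) {a b : ι → MonoidAlgebra k G}
    (h : ∀ i ∈ s, Cong F (a i) (b i)) : Cong F (∑ i ∈ s, a i) (∑ i ∈ s, b i) := by
  classical
  induction s using Finset.induction_on with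
  | empty => simpa using Twist.Cong.refl (F := F) 0
  | insert i s hi ih =>
    rw [Finset.sum_insert hi, Finset.sum_insert hi]
    exact Cong.add (h i (Finset.mem_insert_self i s)) (ih fun j hj => h j (Finset.mem_insert_of_mem hj))

theorem slides_sum {ι : Type*} (s : Finset ι) {a : ι → MonoidAlgebra k G}
    (h : ∀ i ∈ s, Slides F (a i)) : Slides F (∑ i ∈ s, a i) := by
  classical
  choose y hy using h
  refine ⟨∑ i ∈ s.attach, y i.1 i.2, ?_⟩
  rw [Finset.sum_mul, Finset.mul_sum, ← Finset.sum_attach]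
  exact Finset.sum_congr rfl fun i _ => hy i.1 i.2

variable {P : Subgroup G} {a : MonoidAlgebra k G} {h : G} {e : ℕ} (W : Gen F h e)

/-- The projector on an eigenvalue. -/
noncomputable def eta (μ : k) : MonoidAlgebra k G :=
  (e : k)⁻¹ • ∑ t ∈ Finset.range e, (μ ^ t)⁻¹ • (W.w ^ t * F.f)

variable {W}

theorem eta_f (μ : k) : eta W μ * F.f = eta W μ := by
  rw [eta, smul_mul_assoc, Finset.sum_mul]
  simp only [smul_mul_assoc, mul_assoc, F.f_idem]

theorem f_eta (μ : k) : F.f * eta W μ = eta W μ := by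
  rw [eta, mul_smul_comm, Finset.mul_sum]
  congr 1
  refine Finset.sum_congr rfl fun t _ => ?_
  rw [mul_smul_comm, ← mul_assoc]
  congr 1
  rcases t with _ | t
  · rw [pow_zero, mul_one, one_mul, F.f_idem]
  · rw [pow_succ', ← mul_assoc F.f W.w, W.f_w]

theorem b_eta (μ : k) : F.b * eta W μ = eta W μ := by
  conv_lhs => rw [← f_eta μ, ← mul_assoc, F.b_f]
  rw [f_eta]

theorem slides_eta (μ : k) : Slides F (eta W μ) := by
  rw [eta, Finset.smul_sum]
  exact slides_sum _ fun t _ =>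
    (((W.slides.pow t).mul (slides_of_mem F.mem_f)).smul _).smul _

theorem pull_eta (S : Setup F P a h e) (μ : k) :
    ∃ y, F.X ^ F.N * eta W μ = y * F.X ^ F.N := by
  have hw : ∀ t : ℕ, ∃ y, F.X ^ F.N * W.w ^ t = y * F.X ^ F.N := by
    intro t
    induction t with
    | zero => exact ⟨1, by simp⟩
    | succ t ih =>
      obtain ⟨y, hy⟩ := ih
      obtain ⟨y', hy'⟩ := S.pull F.N W
      exact ⟨y * y', by rw [pow_succ, ← mul_assoc, hy, mul_assoc, hy', mul_assoc]⟩
  choose y hy using hw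
  refine ⟨(e : k)⁻¹ • ∑ t ∈ Finset.range e, (μ ^ t)⁻¹ • (y t * F.f), ?_⟩
  rw [eta, mul_smul_comm, smul_mul_assoc, Finset.mul_sum, Finset.sum_mul]
  congr 1
  refine Finset.sum_congr rfl fun t _ => ?_
  rw [mul_smul_comm, smul_mul_assoc, ← mul_assoc, hy, mul_assoc, (F.X_pow_comm F.N F.mem_f).eq,
    ← mul_assoc]

theorem w_eta {μ : k} (hμ : μ ^ e = 1) : Cong F (W.w * eta W μ) (μ • eta W μ) := by
  have hμ0 : μ ≠ 0 ∨ e = 0 := by
    by_cases he : e = 0
    · exact Or.inr he
    · exact Or.inl fun h0 => by simp [h0, he] at hμ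
  rcases hμ0 with hμ0 | he
  swap
  · subst he
    simpa [eta] using Twist.Cong.refl (F := F) 0
  obtain ⟨z, hz⟩ := W.pow_e
  let g : ℕ → MonoidAlgebra k G := fun t => (μ ^ t)⁻¹ • (W.w ^ t * F.f)
  have key : W.w * eta W μ - μ • eta W μ = ((e : k)⁻¹ * μ) • (g e - g 0) := by
    rw [← Finset.sum_range_sub g e, Finset.smul_sum, eta]
    simp only [mul_smul_comm, Finset.mul_sum, Finset.smul_sum, ← Finset.sum_sub_distrib, g]
    refine Finset.sum_congr rfl fun t _ => ?_
    rw [← mul_assoc, ← pow_succ', smul_sub]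
    simp only [smul_smul]
    congr 2 <;> field_simp <;> ring
  refine ⟨((e : k)⁻¹ * μ) • (z * F.f), ?_⟩
  rw [key, mul_smul_comm, ← mul_assoc, ← hz, sub_mul]
  simp only [g, pow_zero, hμ, inv_one, one_smul, one_mul, F.f_idem]

theorem eta_eta (he : (e : k) ≠ 0) {μ : k} (hμ : μ ^ e = 1) :
    Cong F (eta W μ * eta W μ) (eta W μ) := by
  have hμ0 : μ ≠ 0 := fun h0 => by
    rcases Nat.eq_zero_or_pos e with rfl | hp
    · simp at he
    · simp [h0, hp.ne'] at hμ
  have hpow : ∀ t : ℕ, Cong F (W.w ^ t * eta W μ) (μ ^ t • eta W μ) := by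
    intro t
    induction t with
    | zero => simpa using Twist.Cong.refl (F := F) _
    | succ t ih =>
      have h1 := Twist.Cong.mul_left (W.slides.pow t) (w_eta (W := W) hμ)
      rw [← mul_assoc, ← pow_succ, mul_smul_comm] at h1
      refine h1.trans ?_
      have h2 := Cong.smul ih μ
      rwa [smul_smul, ← pow_succ'] at h2
  have h1 : Cong F (eta W μ * eta W μ)
      ((e : k)⁻¹ • ∑ _t ∈ Finset.range e, eta W μ) := by
    rw [show eta W μ * eta W μ =
      (e : k)⁻¹ • ∑ t ∈ Finset.range e, (μ ^ t)⁻¹ • (W.w ^ t * eta W μ) by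
        conv_lhs => arg 1; rw [eta]
        rw [smul_mul_assoc, Finset.sum_mul]
        simp only [smul_mul_assoc, mul_assoc, f_eta]]
    refine Cong.smul (Cong.sum _ fun t _ => ?_) _
    have := Cong.smul (hpow t) (μ ^ t)⁻¹
    rwa [smul_smul, inv_mul_cancel₀ (pow_ne_zero t hμ0), one_smul] at this
  rwa [Finset.sum_const, Finset.card_range, ← Nat.cast_smul_eq_nsmul k, smul_smul,
    inv_mul_cancel₀ he, one_smul] at h1

variable {V : Type w} [AddCommGroup V] [Module (MonoidAlgebra k G) V] [Module k V]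
  [IsScalarTower k (MonoidAlgebra k G) V]

variable (W) in
/-- An eigenvector for `μ`. -/
def Has (μ : k) (V : Type w) [AddCommGroup V] [Module (MonoidAlgebra k G) V] : Prop :=
  ∃ v : V, Ker F v ∧ ¬ ∃ y : V, eta W μ • v = F.X • y

theorem Has.map {μ : k} {V' : Type w} [AddCommGroup V'] [Module (MonoidAlgebra k G) V']
    (L : V ≃ₗ[MonoidAlgebra k G] V') (hV : Has W μ V) : Has W μ V' := by
  obtain ⟨v, ⟨h1, h2⟩, h3⟩ := hV
  refine ⟨L v, ⟨by rw [← map_smul, h1], by rw [← map_smul, h2, map_zero]⟩, ?_⟩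
  rintro ⟨y, hy⟩
  refine h3 ⟨L.symm y, L.injective ?_⟩
  rw [map_smul, hy, map_smul, L.apply_symm_apply]

theorem ker_eta (S : Setup F P a h e) {μ : k} {v : V} (hv : Ker F v) :
    Ker F (eta W μ • v) := by
  refine ⟨by rw [← mul_smul, b_eta], ?_⟩
  obtain ⟨y, hy⟩ := pull_eta (W := W) S μ
  rw [← mul_smul, hy, mul_smul, hv.2, smul_zero]

/-- The root is determined by a simple module. -/
theorem has_unique [IsAlgClosed k] (S : Setup F P a h e) (he : (e : k) ≠ 0) [FiniteDimensional k V]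
    [IsSimpleModule (MonoidAlgebra k G) V] {μ ν : k} (hμ : μ ^ e = 1) (hν : ν ^ e = 1)
    (h1 : Has W μ V) (h2 : Has W ν V) : μ = ν := by
  obtain ⟨Φ, hΦ, hΦw⟩ := exists_endo (V := V) S W
  let Φ' : Module.End (MonoidAlgebra k G) V := { toFun := Φ, map_add' := map_add Φ, map_smul' := hΦ }
  obtain ⟨c, hc⟩ :=
    (IsSimpleModule.algebraMap_end_bijective_of_isAlgClosed (A := MonoidAlgebra k G) (V := V) k).2 Φ'
  have hcv : ∀ v, Φ v = c • v := fun v => by
    show Φ' v = _
    rw [← hc, Module.algebraMap_end_apply]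
  have key : ∀ ρ : k, ρ ^ e = 1 → Has W ρ V → c = (e : k) * ρ := by
    rintro ρ hρ ⟨v, hv, hne⟩
    obtain ⟨y, hy⟩ := hΦw (eta W ρ • v) (by rw [← mul_smul, f_eta]) (ker_eta S hv)
    obtain ⟨z, hz⟩ := w_eta (W := W) hρ
    by_contra hcne
    refine hne ⟨(c - (e : k) * ρ)⁻¹ • (y + (e : k) • z • v), ?_⟩
    have hz' : W.w • eta W ρ • v - ρ • eta W ρ • v = F.X • z • v := by
      rw [← mul_smul, ← mul_smul, ← smul_assoc, ← sub_smul, hz]
    rw [smul_comm, smul_add, ← hy, hcv, smul_comm F.X (e : k), ← hz', smul_sub, smul_smul (e : k) ρ,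
      sub_add_sub_cancel, ← sub_smul, inv_smul_smul₀ (sub_ne_zero.mpr hcne)]
  exact mul_left_cancel₀ he ((key μ hμ h1).symm.trans (key ν hν h2))

/-- Such a simple module lies in the block. -/
theorem smul_eq_self [Fintype G] (S : Setup F P a h e) [IsSimpleModule (MonoidAlgebra k G) V]
    {ε : MonoidAlgebra k G} (hεc : ∀ x, ε * x = x * ε) (hεε : ε * ε = ε) {s : G → k}
    (hs : ∀ g, s g ≠ 0 → g ∉ C) (hsC : ∀ c ∈ C, ∀ g, s (c * g * c⁻¹) = s g)
    (hεb : F.b * (1 - ε) = F.b * ∑ g, s g • single g (1 : k)) {μ : k} (hμ : Has W μ V) (v : V) :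
    ε • v = v := by
  let E : V →ₗ[MonoidAlgebra k G] V :=
    { toFun := fun w => ε • w
      map_add' := smul_add ε
      map_smul' := fun x w => by simp [smul_smul, hεc x] }
  rcases LinearMap.bijective_or_eq_zero E with hbij | hzero
  · refine hbij.1 ?_
    show ε • ε • v = ε • v
    rw [smul_smul, hεε]
  · exfalso
    obtain ⟨v₀, hv, hne⟩ := hμ
    have hk := ker_eta (W := W) (μ := μ) S hv
    have h0 : ε • eta W μ • v₀ = 0 := LinearMap.congr_fun hzero _
    obtain ⟨y, hy⟩ := block_mem S hs hsC hk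
    refine hne ⟨y, ?_⟩
    rw [← hy, ← mul_smul F.b, ← hεb, mul_smul, sub_smul, one_smul, h0, sub_zero, hk.1]

theorem has_of_minimal (S : Setup F P a h e) (he : (e : k) ≠ 0) {μ : k} (hμ : μ ^ e = 1)
    [FiniteDimensional k V] (hV : Has W μ V) :
    ∃ N N' : Submodule (MonoidAlgebra k G) V,
      IsSimpleModule (MonoidAlgebra k G) (N ⧸ N'.comap N.subtype) ∧
      Has W μ (N ⧸ N'.comap N.subtype) := by
  classical
  haveI : IsNoetherian k V := inferInstance
  haveI : IsArtinian (MonoidAlgebra k G) V := isArtinian_of_tower k inferInstance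
  haveI : IsNoetherian (MonoidAlgebra k G) V := isNoetherian_of_tower k inferInstance
  let HI : Submodule (MonoidAlgebra k G) V → Prop := fun N =>
    ∃ v ∈ N, Ker F v ∧ ¬ ∃ y ∈ N, eta W μ • v = F.X • y
  have htop : HI ⊤ := by
    obtain ⟨v, hv, hne⟩ := hV
    exact ⟨v, trivial, hv, fun ⟨y, _, hy⟩ => hne ⟨y, hy⟩⟩
  obtain ⟨N, hN, hmin⟩ := IsArtinian.set_has_minimal {N | HI N} ⟨⊤, htop⟩
  obtain ⟨v, hvN, hv, hne⟩ := hN
  have hNbot : N ≠ ⊥ := by
    rintro rfl
    rw [Submodule.mem_bot] at hvN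
    exact hne ⟨0, Submodule.zero_mem _, by rw [hvN, smul_zero, smul_zero]⟩
  obtain ⟨N', hN', hmax⟩ := set_has_maximal_iff_noetherian.mpr inferInstance {N' | N' < N}
    ⟨⊥, bot_lt_iff_ne_bot.mpr hNbot⟩
  have hcov : N' ⋖ N := ⟨hN', fun c hc hcN => hmax c hcN hc⟩
  refine ⟨N, N', (covBy_iff_quot_is_simple (le_of_lt (show N' < N from hN'))).mp hcov, ?_⟩
  refine ⟨Submodule.Quotient.mk ⟨v, hvN⟩, ⟨?_, ?_⟩, ?_⟩
  · rw [← Submodule.Quotient.mk_smul]
    congr 1
    exact Subtype.ext hv.1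
  · rw [← Submodule.Quotient.mk_smul, Submodule.Quotient.mk_eq_zero]
    show F.X ^ F.N • v ∈ N'
    rw [hv.2]
    exact N'.zero_mem
  rintro ⟨y, hy⟩
  obtain ⟨⟨q, hq⟩, rfl⟩ := Submodule.Quotient.mk_surjective _ y
  rw [← Submodule.Quotient.mk_smul, ← Submodule.Quotient.mk_smul, Submodule.Quotient.eq] at hy
  have hm : eta W μ • v - F.X • q ∈ N' := hy
  refine hmin N' ?_ hN'
  refine ⟨_, hm, ⟨?_, ?_⟩, ?_⟩
  · rw [smul_sub, (ker_eta S hv).1, ← mul_smul F.b, F.b_X]
  · rw [smul_sub, (ker_eta S hv).2, ← mul_smul (F.X ^ F.N), ← pow_succ, F.nil, zero_smul, sub_zero]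
  rintro ⟨y, hyN', hy'⟩
  obtain ⟨z, hz⟩ := eta_eta (W := W) he hμ
  obtain ⟨q', hq'⟩ := slides_eta (W := W) μ
  refine hne ⟨y + q' • q - z • v, N.sub_mem (N.add_mem ((le_of_lt (show N' < N from hN')) hyN') (N.smul_mem _ hq))
    (N.smul_mem _ hvN), ?_⟩
  rw [smul_sub, smul_add, ← hy', ← mul_smul F.X q', ← hq', ← mul_smul F.X z, ← hz, smul_sub,
    ← mul_smul, ← mul_smul, sub_smul]
  abel

/-- The projection to the elements supported in `C`. -/
noncomputable def pr [Fintype C] : MonoidAlgebra k G →ₗ[k] MonoidAlgebra k G where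
  toFun x := ∑ c : C, x.coeff (c : G) • single (c : G) (1 : k)
  map_add' x y := by simp [add_smul, Finset.sum_add_distrib]
  map_smul' r x := by simp [Finset.smul_sum, smul_smul]

theorem pr_single [Fintype C] (g : G) (r : k) [Decidable (g ∈ C)] :
    pr (C := C) (single g r : MonoidAlgebra k G) = if g ∈ C then single g r else 0 := by
  classical
  show ∑ c : C, (single g r : MonoidAlgebra k G).coeff (c : G) • single (c : G) (1 : k) = _
  split_ifs with hg
  · rw [Finset.sum_eq_single ⟨g, hg⟩]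
    · simp
    · intro c _ hc
      have : g ≠ (c : G) := fun hh => hc (Subtype.ext hh.symm)
      simp [this]
    · simp
  · refine Finset.sum_eq_zero fun c _ => ?_
    have : g ≠ (c : G) := fun hh => hg (hh ▸ c.2)
    simp [this]

theorem pr_mem [Fintype C] (x : MonoidAlgebra k G) : pr (C := C) x ∈ sub k C :=
  Subalgebra.sum_mem _ fun c _ => Subalgebra.smul_mem _ (single_mem_sub c.2 1) _

theorem pr_mul [Fintype C] {u v : MonoidAlgebra k G} (hu : u ∈ sub k C) (hv : v ∈ sub k C)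
    (x : MonoidAlgebra k G) : pr (C := C) (u * x * v) = u * pr (C := C) x * v := by
  classical
  obtain ⟨u, rfl⟩ := hu
  obtain ⟨v, rfl⟩ := hv
  show pr (ext C u * x * ext C v) = ext C u * pr x * ext C v
  induction u using MonoidAlgebra.induction_linear with
  | zero => simp
  | add f g hf hg => simp only [map_add, add_mul, hf, hg]
  | single m r =>
    induction v using MonoidAlgebra.induction_linear with
    | zero => simp
    | add f g hf hg => simp only [map_add, mul_add, hf, hg]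
    | single n s =>
      induction x using MonoidAlgebra.induction_linear with
      | zero => simp
      | add f g hf hg => simp only [map_add, mul_add, add_mul, hf, hg]
      | single g t =>
        rw [ext_single, ext_single, single_mul_single, single_mul_single, pr_single, pr_single]
        have hiff : (m : G) * g * (n : G) ∈ C ↔ g ∈ C := by
          refine ⟨fun hh => ?_, fun hh => mul_mem (mul_mem m.2 hh) n.2⟩
          simpa [mul_assoc] using mul_mem (mul_mem (inv_mem m.2) hh) (inv_mem n.2)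
        by_cases hg : g ∈ C
        · rw [if_pos hg, if_pos (hiff.mpr hg), single_mul_single, single_mul_single]
        · rw [if_neg hg, if_neg (mt hiff.mp hg), mul_zero, zero_mul]

variable (F) in
/-- The left ideal of the module below. -/
noncomputable def ideal : Submodule (MonoidAlgebra k G) (MonoidAlgebra k G) :=
  Submodule.span (MonoidAlgebra k G) {F.X, 1 - F.f}

theorem has_quotient (S : Setup F P a h e) (he : (e : k) ≠ 0) (μ : k) :
    Has W μ (MonoidAlgebra k G ⧸ ideal F) := by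
  classical
  haveI := Fintype.ofFinite C
  refine ⟨Submodule.Quotient.mk 1, ⟨?_, ?_⟩, ?_⟩
  · rw [← Submodule.Quotient.mk_smul, Submodule.Quotient.eq, smul_eq_mul, mul_one]
    rw [show F.b - 1 = (F.b - 1) • (1 - F.f) by
      rw [smul_eq_mul, mul_sub, mul_one, sub_mul, F.b_f, one_mul, sub_self, sub_zero]]
    exact Submodule.smul_mem _ _ (Submodule.subset_span (by simp))
  · rw [← Submodule.Quotient.mk_smul, Submodule.Quotient.mk_eq_zero, smul_eq_mul, mul_one,
      show F.X ^ F.N = F.X ^ (F.N - 1) • F.X by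
        rw [smul_eq_mul, ← pow_succ, Nat.sub_add_cancel F.one_le]]
    exact Submodule.smul_mem _ _ (Submodule.subset_span (by simp))
  rintro ⟨y, hy⟩
  obtain ⟨y, rfl⟩ := Submodule.Quotient.mk_surjective _ y
  rw [← Submodule.Quotient.mk_smul, ← Submodule.Quotient.mk_smul, Submodule.Quotient.eq,
    smul_eq_mul, smul_eq_mul, mul_one, ideal, Submodule.mem_span_pair] at hy
  obtain ⟨x, x', hx⟩ := hy
  -- the component in `C`
  have hpr : pr (C := C) (eta W μ) = (e : k)⁻¹ • F.f := by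
    rw [eta, map_smul, map_sum]
    congr 1
    rw [Finset.sum_eq_single 0]
    · rw [pow_zero, inv_one, one_smul, pow_zero, one_mul]
      have := pr_mul F.mem_f F.mem_f (1 : MonoidAlgebra k G)
      rwa [mul_one, F.f_idem, show pr (C := C) (1 : MonoidAlgebra k G) = 1 by
        rw [MonoidAlgebra.one_def, pr_single, if_pos (one_mem C)], mul_one, F.f_idem] at this
    · intro t ht ht0
      obtain ⟨B, hB, hBe⟩ := W.pow_eq S.norm t
      rw [map_smul, hBe, pr_mul hB F.mem_f, pr_single, if_neg, mul_zero, zero_mul, smul_zero]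
      rw [S.pow_mem]
      exact fun hd => absurd (Nat.le_of_dvd (Nat.pos_of_ne_zero ht0) hd)
        (not_le.mpr (Finset.mem_range.mp ht))
    · intro h0
      exact absurd (Finset.mem_range.mpr S.pos) h0
  have h1 : eta W μ = F.X * (F.f * y * F.f) + F.f * x * F.f * F.X := by
    have h2 := congrArg (fun z => F.f * z * F.f) hx
    simp only [smul_eq_mul, mul_add, add_mul, mul_sub, sub_mul, f_eta, eta_f] at h2
    rw [show F.f * (x' * 1) * F.f - F.f * (x' * F.f) * F.f = 0 by
      rw [mul_one]; simp only [mul_assoc, F.f_idem, sub_self], add_zero,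
      ← mul_assoc F.f F.X, ← (F.X_comm _ F.mem_f).eq] at h2
    rw [show F.f * x * F.f * F.X = F.f * (x * F.X) * F.f by
      rw [mul_assoc _ F.f F.X, ← (F.X_comm _ F.mem_f).eq]; simp only [mul_assoc],
      show F.X * (F.f * y * F.f) = F.X * F.f * y * F.f by simp only [mul_assoc], h2]
    abel
  have h3 := congrArg (pr (C := C)) h1
  rw [hpr, map_add, show F.X * (F.f * y * F.f) = (F.X * F.f) * y * F.f by simp only [mul_assoc],
    show F.f * x * F.f * F.X = F.f * x * (F.f * F.X) by simp only [mul_assoc],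
    pr_mul (Subalgebra.mul_mem _ F.mem_X F.mem_f) F.mem_f,
    pr_mul F.mem_f (Subalgebra.mul_mem _ F.mem_f F.mem_X)] at h3
  have h4 := congrArg (F.X ^ F.N * ·) h3
  have hX : ∀ z ∈ sub k C, F.X ^ F.N * (z * F.X) = 0 := fun z hz => by
    rw [← mul_assoc, (F.X_pow_comm F.N hz).eq, mul_assoc, ← pow_succ, F.nil, mul_zero]
  simp only [mul_add, mul_smul_comm] at h4
  rw [show F.X * F.f * pr (C := C) y * F.f = F.f * pr (C := C) y * F.f * F.X by
      rw [mul_assoc F.X, mul_assoc F.X,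
        (F.X_comm _ (Subalgebra.mul_mem _ (Subalgebra.mul_mem _ F.mem_f (pr_mem y)) F.mem_f)).eq],
    hX _ (Subalgebra.mul_mem _ (Subalgebra.mul_mem _ F.mem_f (pr_mem y)) F.mem_f),
    show F.f * pr (C := C) x * (F.f * F.X) = F.f * pr (C := C) x * F.f * F.X by
      simp only [mul_assoc],
    hX _ (Subalgebra.mul_mem _ (Subalgebra.mul_mem _ F.mem_f (pr_mem x)) F.mem_f), add_zero] at h4
  exact F.ne ((smul_eq_zero.mp h4).resolve_left (inv_ne_zero he))

/-- Simple modules with the same annihilator are isomorphic. -/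
theorem exists_equiv {A : Type*} [Ring A] [Algebra k A] [FiniteDimensional k A] [IsAlgClosed k]
    {Q Q' : Type*} [AddCommGroup Q] [Module A Q] [Module k Q] [IsScalarTower k A Q]
    [IsSimpleModule A Q] [FiniteDimensional k Q] [AddCommGroup Q'] [Module A Q'] [Module k Q']
    [IsScalarTower k A Q'] [IsSimpleModule A Q']
    (hann : ∀ x : A, (∀ q : Q, x • q = 0) ↔ ∀ q : Q', x • q = 0) : Nonempty (Q ≃ₗ[A] Q') := by
  classical
  obtain ⟨n, hn, π, hπ, h0, -⟩ := Cfsg.Agent.Lib.BrauerPairs.SimpleRep.exists_rep_of_simple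
    (k := k) (A := A) Q
  obtain ⟨Y, hY⟩ := hπ (Matrix.single ⟨0, hn⟩ ⟨0, hn⟩ 1)
  have hYne : ¬ ∀ q : Q, Y • q = 0 := fun hh => by
    have h2 := (h0 Y).mpr hh
    rw [hY] at h2
    simpa using congrFun (congrFun h2 ⟨0, hn⟩) ⟨0, hn⟩
  have hYne' : ¬ ∀ q : Q', Y • q = 0 := fun hh => hYne ((hann Y).mpr hh)
  push Not at hYne hYne'
  obtain ⟨q₁, hq₁⟩ := hYne
  obtain ⟨u, hu⟩ := hYne'
  have hker : ∀ x : A, x • Y • q₁ = 0 → ∀ q : Q', (x * Y) • q = 0 := by
    intro x hx
    refine (hann _).mp fun q => ?_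
    obtain ⟨z, hz⟩ := IsSimpleModule.toSpanSingleton_surjective A hq₁ q
    obtain ⟨s, hs⟩ : ∃ s : k, π (Y * z * Y) = π (s • Y) := by
      refine ⟨π z ⟨0, hn⟩ ⟨0, hn⟩, ?_⟩
      rw [map_mul, map_mul, map_smul, hY]
      ext i j
      simp [Matrix.mul_apply, Matrix.single_apply, ite_and]
      split_ifs <;> simp_all
    have h2 : ∀ w : Q, (Y * z * Y - s • Y) • w = 0 := (h0 _).mp (by rw [map_sub, hs, sub_self])
    have h3 := h2 q₁
    rw [sub_smul, sub_eq_zero, mul_smul, mul_smul, smul_assoc] at h3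
    rw [← hz]
    show (x * Y) • z • Y • q₁ = 0
    rw [mul_smul, h3, smul_comm, hx, smul_zero]
  let g : A →ₗ[A] Q' := LinearMap.toSpanSingleton A Q' (Y • u)
  let f : A →ₗ[A] Q := LinearMap.toSpanSingleton A Q (Y • q₁)
  have hle : LinearMap.ker f ≤ LinearMap.ker g := fun x hx => by
    have := hker x hx u
    rwa [mul_smul] at this
  let E := LinearMap.quotKerEquivOfSurjective f (IsSimpleModule.toSpanSingleton_surjective A hq₁)
  let L : Q →ₗ[A] Q' := ((LinearMap.ker f).liftQ g hle).comp E.symm.toLinearMap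
  have hL : L (Y • q₁) = Y • u := by
    have h1 : E (Submodule.Quotient.mk 1) = Y • q₁ := by
      show f 1 = _
      simp [f]
    show (LinearMap.ker f).liftQ g hle (E.symm (Y • q₁)) = _
    rw [← h1, E.symm_apply_apply, Submodule.liftQ_apply]
    simp [g]
  refine ⟨LinearEquiv.ofBijective L ((LinearMap.bijective_or_eq_zero L).resolve_right fun h0' => ?_)⟩
  rw [h0', LinearMap.zero_apply] at hL
  exact hu hL.symm

/-- The representation on a simple module with an eigenvector. -/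
theorem exists_rep_of_has [IsAlgClosed k] [Fintype G] (S : Setup F P a h e)
    {ε : MonoidAlgebra k G} (hεc : ∀ x, ε * x = x * ε) (hεε : ε * ε = ε)
    {s : G → k} (hs : ∀ g, s g ≠ 0 → g ∉ C) (hsC : ∀ c ∈ C, ∀ g, s (c * g * c⁻¹) = s g)
    (hεb : F.b * (1 - ε) = F.b * ∑ g, s g • single g (1 : k)) [FiniteDimensional k V]
    [IsSimpleModule (MonoidAlgebra k G) V] {μ : k} (hV : Has W μ V) :
    ∃ n : ℕ, 0 < n ∧ ∃ π : MonoidAlgebra k G →ₐ[k] Matrix (Fin n) (Fin n) k,
      Function.Surjective π ∧ π ε = 1 ∧ ∀ x, π x = 0 ↔ ∀ v : V, x • v = 0 := by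
  obtain ⟨n, hn, π, hπ, h0, h1⟩ := Cfsg.Agent.Lib.BrauerPairs.SimpleRep.exists_rep_of_simple
    (k := k) (A := MonoidAlgebra k G) V
  exact ⟨n, hn, π, hπ, (h1 ε).mpr (smul_eq_self S hεc hεε hs hsC hεb hV), h0⟩

theorem eq_of_ann [IsAlgClosed k] (S : Setup F P a h e) (he : (e : k) ≠ 0)
    [FiniteDimensional k V] [IsSimpleModule (MonoidAlgebra k G) V]
    {V' : Type w} [AddCommGroup V'] [Module (MonoidAlgebra k G) V'] [Module k V']
    [IsScalarTower k (MonoidAlgebra k G) V'] [FiniteDimensional k V']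
    [IsSimpleModule (MonoidAlgebra k G) V'] {μ ν : k} (hμ : μ ^ e = 1) (hν : ν ^ e = 1)
    (h1 : Has W μ V) (h2 : Has W ν V')
    (hann : ∀ x : MonoidAlgebra k G, (∀ v : V, x • v = 0) ↔ ∀ v : V', x • v = 0) : μ = ν := by
  obtain ⟨L⟩ := exists_equiv (k := k) hann
  exact has_unique S he hμ hν (h1.map L) h2

theorem finiteDimensional_quot [FiniteDimensional k V]
    (N : Submodule (MonoidAlgebra k G) V) (N' : Submodule (MonoidAlgebra k G) N) :
    FiniteDimensional k (N ⧸ N') := by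
  haveI : IsNoetherian (MonoidAlgebra k G) V := isNoetherian_of_tower k inferInstance
  exact Module.Finite.trans (MonoidAlgebra k G) (N ⧸ N')

/-- **The representations.** -/
theorem exists_reps [IsAlgClosed k] [Fintype G] (S : Setup F P a h e) (W : Gen F h e)
    (he : (e : k) ≠ 0) {ε : MonoidAlgebra k G} (hεc : ∀ x, ε * x = x * ε) (hεε : ε * ε = ε)
    {s : G → k} (hs : ∀ g, s g ≠ 0 → g ∉ C) (hsC : ∀ c ∈ C, ∀ g, s (c * g * c⁻¹) = s g)
    (hεb : F.b * (1 - ε) = F.b * ∑ g, s g • single g (1 : k)) {ι : Type*} {μ : ι → k}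
    (hμ : ∀ i, μ i ^ e = 1) (hinj : Function.Injective μ) :
    ∃ (n : ι → ℕ) (π : ∀ i, MonoidAlgebra k G →ₐ[k] Matrix (Fin (n i)) (Fin (n i)) k),
      (∀ i, 0 < n i ∧ Function.Surjective (π i) ∧ π i ε = 1) ∧
      ∀ i j, (∀ x, π i x = 0 ↔ π j x = 0) → i = j := by
  have h1 := fun i => has_of_minimal (W := W) S he (hμ i) (has_quotient (W := W) S he (μ i))
  choose N N' hsimple hhas using h1
  have hrep := fun i =>
    @exists_rep_of_has k _ G _ _ C F P a h e W _ _ _ _ _ _ _ S ε hεc hεε s hs hsC hεb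
      (finiteDimensional_quot (N i) _) (hsimple i) (μ i) (hhas i)
  choose n hn π hπ hπε h0 using hrep
  refine ⟨n, π, fun i => ⟨hn i, hπ i, hπε i⟩, fun i j hij => hinj ?_⟩
  haveI := hsimple i
  haveI := hsimple j
  haveI := finiteDimensional_quot (N i) ((N' i).comap (N i).subtype)
  haveI := finiteDimensional_quot (N j) ((N' j).comap (N j).subtype)
  exact eq_of_ann S he (hμ i) (hμ j) (hhas i) (hhas j) fun x => by rw [← h0, ← h0, hij]

/-- Separating elements. -/
theorem exists_separating {A : Type*} [Ring A] [Algebra k A] {ι : Type*} [Fintype ι] {n : ι → ℕ}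
    {π : ∀ i, A →ₐ[k] Matrix (Fin (n i)) (Fin (n i)) k}
    (h : ∀ i, 0 < n i ∧ Function.Surjective (π i))
    (hker : ∀ i j, (∀ x, π i x = 0 ↔ π j x = 0) → i = j) (i : ι) :
    ∃ Y : A, (π i Y).trace = 1 ∧ ∀ j, j ≠ i → π j Y = 0 := by
  classical
  have key : ∀ a b : ι, (∃ x, π b x = 0 ∧ π a x ≠ 0) → ∃ y, π a y = 1 ∧ π b y = 0 := by
    rintro a b ⟨x, hxb, hxa⟩
    obtain ⟨r, hr⟩ : ∃ r, ∃ c, π a x r c ≠ 0 := by
      by_contra hh
      push Not at hh
      exact hxa (Matrix.ext hh)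
    obtain ⟨c, hc⟩ := hr
    choose E hE using fun p q : Fin (n a) => (h a).2 (Matrix.single p q 1)
    refine ⟨∑ p, (π a x r c)⁻¹ • (E p r * x * E c p), ?_, ?_⟩
    · simp only [map_sum, map_smul, map_mul, hE]
      ext p q
      simp [Matrix.sum_apply, Matrix.mul_apply, Matrix.single_apply, Matrix.one_apply, ite_and,
        Finset.sum_ite_eq, hc]
    · simp [hxb]
  have hsep : ∀ j, j ≠ i → ∃ y, π i y = 1 ∧ π j y = 0 := by
    intro j hj
    by_cases h1 : ∃ x, π j x = 0 ∧ π i x ≠ 0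
    · exact key i j h1
    · by_cases h2 : ∃ x, π i x = 0 ∧ π j x ≠ 0
      · obtain ⟨y, hy1, hy2⟩ := key j i h2
        exact ⟨1 - y, by rw [map_sub, map_one, hy2, sub_zero],
          by rw [map_sub, map_one, hy1, sub_self]⟩
      · push Not at h1 h2
        exact absurd (hker j i fun x => ⟨h1 x, h2 x⟩) hj
  choose y hy1 hy2 using hsep
  have hprod : ∀ l : List ι, (∀ j ∈ l, j ≠ i) →
      ∃ Y, π i Y = 1 ∧ ∀ j ∈ l, π j Y = 0 := by
    intro l
    induction l with
    | nil => exact fun _ => ⟨1, map_one _, by simp⟩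
    | cons j l ih =>
      intro hl
      obtain ⟨Y, hY1, hY2⟩ := ih fun j' hj' => hl j' (List.mem_cons_of_mem _ hj')
      refine ⟨y j (hl j (List.mem_cons_self ..)) * Y, by rw [map_mul, hy1, hY1, one_mul], ?_⟩
      intro j' hj'
      rcases List.mem_cons.mp hj' with rfl | hj'
      · rw [map_mul, hy2, zero_mul]
      · rw [map_mul, hY2 j' hj', mul_zero]
  obtain ⟨Y, hY1, hY2⟩ := hprod (Finset.univ.erase i).toList (by simp)
  obtain ⟨T, hT⟩ := (h i).2 (Matrix.single ⟨0, (h i).1⟩ ⟨0, (h i).1⟩ 1)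
  refine ⟨Y * T, by rw [map_mul, hY1, one_mul, hT, Matrix.trace_single_eq_same], fun j hj => ?_⟩
  rw [map_mul, hY2 j (by simp [hj]), zero_mul]

end Cfsg.Agent.Lib.CyclicBlocks.Simples
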