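import Mathlib
import Cfsg.Agent.Lib.CyclicBlocks.Local
import Cfsg.Agent.Lib.CyclicBlocks.Pi
import Cfsg.Agent.Lib.CyclicBlocks.LocalBlock
import Cfsg.Agent.Lib.CyclicBlocks.Simples
import Cfsg.Agent.Lib.BrauerPairs.LiftRank

/-!
# The inertial index is at most the regular rank

`le_blockRank`: a block with cyclic defect group has at least as many modular characters as its
inertial index.
-/

set_option autoImplicit false
set_option linter.style.haveILetI false
set_option linter.unusedSectionVars false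
set_option synthInstance.maxHeartbeats 400000

namespace Cfsg.Agent.Lib.CyclicBlocks.Rank

open MonoidAlgebra Cfsg.Agent.Lib.BrauerMap.Basic
open Cfsg.Agent.Lib.BrauerPairs
open Cfsg.Agent.Lib.BrauerPairs.Center Cfsg.Agent.Lib.BrauerPairs.Trunc
open Cfsg.Agent.Lib.BrauerPairs.Conj Cfsg.Agent.Lib.BrauerPairs.Pairs
open Cfsg.Agent.Lib.BrauerPairs.Transport Cfsg.Agent.Lib.BrauerPairs.Maximal
open Cfsg.Agent.Lib.BrauerPairs.Bridge Cfsg.Agent.Lib.BrauerPairs.Embed
open Cfsg.Agent.Lib.BrauerPairs.Local Cfsg.Agent.Lib.BrauerPairs.Abelian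
open Cfsg.Agent.Lib.BrauerPairs.LocalAbelian Cfsg.Agent.Lib.BrauerPairs.SubsectionCount
open Cfsg.Agent.Lib.BrauerPairs.BlockAlgebra Cfsg.Agent.Lib.CyclicBlocks.Local
open Cfsg.Agent.Lib.CyclicBlocks

universe u

attribute [local instance] Ideal.Quotient.field

variable {M : Ideal Cfsg.AlgInt} [M.IsMaximal] {G : Type u} [Group G] [Finite G]
  {p : ℕ} [Fact p.Prime] [CharP (Res M) p]

local notation "C[" P "]" => Subgroup.centralizer ((P : Subgroup G) : Set G)
local notation "k" => Res M

theorem conjA_ext {H : Subgroup G} (x : H) (w : MonoidAlgebra k H) :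
    conjA (x : G) (ext H w) = ext H (conjA x w) := by
  rw [Frame.conjA_eq, Frame.conjA_eq, map_mul, map_mul, ext_single, ext_single]
  simp

/-- Representatives of the left cosets of `R` in `H`, as a weight. -/
theorem exists_transversal {H R : Subgroup G} (hR : R ≤ H) [Fintype (H ⧸ R.subgroupOf H)]
    [Fintype H] : ∃ χ : G → k, (∀ [Fintype R], Weights.IsWeight (Endo.right R) (H : Set G) χ) ∧
      ∀ F : G → MonoidAlgebra k G,
        ∑ c : H, χ c • F c = ∑ q : H ⧸ R.subgroupOf H, F (q.out : H) := by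
  classical
  refine ⟨fun g => if ∃ q : H ⧸ R.subgroupOf H, ((q.out : H) : G) = g then 1 else 0,
    fun {_} x hx => ?_, fun F => ?_⟩
  · set q : H ⧸ R.subgroupOf H := QuotientGroup.mk ⟨x, hx⟩ with hq
    obtain ⟨d, hd⟩ := QuotientGroup.mk_out_eq_mul (R.subgroupOf H) (⟨x, hx⟩ : H)
    rw [Finset.sum_eq_single (⟨((d : H) : G)⁻¹, inv_mem (Subgroup.mem_subgroupOf.mp d.2)⟩ : R)]
    · refine if_pos ⟨q, ?_⟩
      rw [hq, hd, Endo.right_apply]
      simp
    · intro u _ hu
      refine if_neg ?_
      rintro ⟨q', hq'⟩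
      rw [Endo.right_apply] at hq'
      have hqq : q' = q := by
        rw [← QuotientGroup.out_eq' q', hq]
        refine QuotientGroup.eq.mpr (Subgroup.mem_subgroupOf.mpr ?_)
        rw [Subgroup.coe_mul, Subgroup.coe_inv, hq']
        simp [u.2]
      rw [hqq, hq, hd, Subgroup.coe_mul] at hq'
      refine hu (Subtype.ext ?_)
      have := mul_left_cancel hq'
      simpa using (congrArg (·⁻¹) this).symm
    · exact fun h => absurd (Finset.mem_univ _) h
  · rw [Finset.sum_congr rfl fun (c : H) _ => show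
      (if ∃ q : H ⧸ R.subgroupOf H, ((q.out : H) : G) = c then (1 : k) else 0) • F c =
        if ∃ q : H ⧸ R.subgroupOf H, ((q.out : H) : G) = c then F c else 0 by
        split_ifs
        · exact one_smul _ _
        · ext g
          simp, ← Finset.sum_filter]
    rw [show (Finset.univ.filter fun c : H => ∃ q : H ⧸ R.subgroupOf H, ((q.out : H) : G) = c) =
      Finset.univ.image (fun q : H ⧸ R.subgroupOf H => q.out) by
        ext c
        simp only [Finset.mem_filter, Finset.mem_univ, true_and, Finset.mem_image]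
        exact exists_congr fun q => ⟨fun h => Subtype.ext h, congrArg Subtype.val⟩]
    exact Finset.sum_image fun q _ q' _ h => by
      rw [← QuotientGroup.out_eq' q, ← QuotientGroup.out_eq' q']
      exact congrArg _ h

variable {ψ : Blk (Res M) G} {P : Subgroup G}
  {c : Blk (Res M) (Subgroup.centralizer (P : Set G))} {z : G}

theorem dich (hc : Cyc p ψ P c z) (hM : Cfsg.IsPModular p M) {h : G}
    (hgen : ∀ x ∈ stab (az hc), ∃ i < eIdx hc, (h ^ i)⁻¹ * x ∈ C[Subgroup.zpowers z]) (g : G) :
    (∃ i < eIdx hc, (h ^ i)⁻¹ * g ∈ C[Subgroup.zpowers z]) ∨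
      bext C[Subgroup.zpowers z] (bz hc) * conjA g (bext C[Subgroup.zpowers z] (bz hc)) = 0 ∨
      ∀ u ∈ P, g⁻¹ * u * g ∈ P → u = 1 := by
  by_cases hfree : ∀ u ∈ P, g⁻¹ * u * g ∈ P → u = 1
  · exact Or.inr (Or.inr hfree)
  push Not at hfree
  obtain ⟨u, hu, hgu, hu1⟩ := hfree
  have h1 : g⁻¹ * z * g ∈ P := by
    obtain ⟨i, hi⟩ := Subgroup.mem_zpowers_iff.mp (hc.mem_zpowers hu hu1)
    have h2 : (g⁻¹ * u * g) ^ i = g⁻¹ * u ^ i * g := by
      have h3 := conj_zpow (i := i) (a := g⁻¹) (b := u)
      rwa [inv_inv] at h3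
    rw [← hi, ← h2]
    exact zpow_mem hgu i
  have hN : g⁻¹ ∈ Subgroup.normalizer (Subgroup.zpowers z : Set G) := by
    rw [Subgroup.mem_normalizer_iff_map_conj_eq]
    refine Cfsg.Agent.S4645.eq_of_card_eq_of_cyclic hc.cyclic ?_
      (Subgroup.zpowers_le.mpr hc.mem) (card_map_conj _ _)
    show (Subgroup.zpowers z).map (MulAut.conj g⁻¹).toMonoidHom ≤ P
    rw [MonoidHom.map_zpowers, Subgroup.zpowers_le]
    simpa using h1
  have hN' : g ∈ Subgroup.normalizer (Subgroup.zpowers z : Set G) := inv_inv g ▸ inv_mem hN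
  by_cases hst : g ∈ stab (az hc)
  · exact Or.inl (hgen g hst)
  refine Or.inr (Or.inl ?_)
  show bext C[(az hc).1] (az hc).2 * conjA g (bext C[(az hc).1] (az hc).2) = 0
  rw [← bext_act (az hc).1 hN' (az hc).2]
  exact bext_mul_bext _ fun h => hst (mem_stab_iff.mpr ⟨hN', (act_eq_iff hN' _).mp h.symm⟩)

set_option maxHeartbeats 1000000 in
/-- The frame of the block at `z`. -/
theorem exists_frame (hM : Cfsg.IsPModular p M) (hc : Cyc p ψ P c z) :
    ∃ F : Frame.Data k C[Subgroup.zpowers z], F.b = bext C[Subgroup.zpowers z] (bz hc) := by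
  classical
  obtain ⟨hfree, -⟩ := hc.inertial hM
  obtain ⟨htop, hpair⟩ := hc.top_local
  obtain ⟨u, hu⟩ : ∃ u : C[Subgroup.zpowers z],
      P.subgroupOf C[Subgroup.zpowers z] = Subgroup.zpowers u := by
    haveI := hc.cyclic
    obtain ⟨v, hv⟩ := IsCyclic.exists_generator (α := P)
    refine ⟨⟨v, hc.le_centralizer v.2⟩, le_antisymm (fun x hx => ?_) ?_⟩
    · obtain ⟨i, hi⟩ := Subgroup.mem_zpowers_iff.mp (hv ⟨x, Subgroup.mem_subgroupOf.mp hx⟩)
      refine Subgroup.mem_zpowers_iff.mpr ⟨i, Subtype.ext ?_⟩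
      simpa using congrArg Subtype.val hi
    · rw [Subgroup.zpowers_le, Subgroup.mem_subgroupOf]
      exact v.2
  obtain ⟨X, hX, hbX, hnil, hXn⟩ := Pi.exists_pi (G := C[Subgroup.zpowers z]) (ψ := bz hc)
    (P := (localPair c hc.comm hc.mem).1) (c := (localPair c hc.comm hc.mem).2) hM htop hpair hu
    fun x hx => (mem_centralizer_subgroupOf_iff hc.le_centralizer x).mpr
      (hfree _ ((mem_stab_down_iff hc.le_centralizer hc.centralizer_le' c x).mp hx) z hc.mem
        hc.ne_one (Subgroup.mem_centralizer_iff.mp x.2 z (Subgroup.mem_zpowers z)).symm)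
  have hn : Nat.card (localPair c hc.comm hc.mem).1 = Nat.card P :=
    Nat.card_congr (Subgroup.subgroupOfEquivOfLe hc.le_centralizer).toEquiv
  have h2 : 2 ≤ Nat.card P := by
    haveI : Nontrivial P := (Subgroup.nontrivial_iff_ne_bot P).mpr hc.ne_bot
    exact Finite.one_lt_card
  obtain ⟨hl, hk⟩ := hc.rank_card hM
  obtain ⟨N, d, f, a, b, hmN, hN1, hNf, hff, hbf, hba, haf, hfb, hsum, hspan⟩ :=
    LocalBlock.exists_corner hM hl hX hbX hnil hXn (by rw [hn, hk]; omega)
  have hmem : ∀ w, ext C[Subgroup.zpowers z] w ∈ Frame.sub k C[Subgroup.zpowers z] := fun w => ⟨w, rfl⟩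
  refine ⟨⟨bext C[Subgroup.zpowers z] (bz hc), ext C[Subgroup.zpowers z] X, ext C[Subgroup.zpowers z] f, d, N, fun i => ext C[Subgroup.zpowers z] (a i), fun i => ext C[Subgroup.zpowers z] (b i),
    hmem _, hmem _, hmem _, fun i => hmem _, fun i => hmem _, (bext_isIdem C[Subgroup.zpowers z] _).eq, ?_, ?_,
    ?_, ?_, fun i => ?_, ?_, fun i => ?_, fun i => ?_, ?_, by omega, ?_, ?_, ?_⟩, rfl⟩
  · rintro _ ⟨w, rfl⟩
    show _ * ext C[Subgroup.zpowers z] w = ext C[Subgroup.zpowers z] w * _
    rw [bext, ← map_mul, ← map_mul, (Subalgebra.mem_center_iff.mp (bidem_mem _) w)]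
  · rintro _ ⟨w, rfl⟩
    show _ * ext C[Subgroup.zpowers z] w = ext C[Subgroup.zpowers z] w * _
    rw [← map_mul, ← map_mul, (Subalgebra.mem_center_iff.mp hX w)]
  · rw [bext, ← map_mul, hbX]
  · rw [bext, ← map_mul, hbf]
  · rw [bext, ← map_mul, hba]
  · rw [← map_mul, hff]
  · rw [← map_mul, haf]
  · rw [← map_mul, hfb]
  · simp only [← map_mul, ← map_sum, hsum]
    rfl
  · rw [← map_pow, hN1, map_zero]
  · rw [← map_pow, ← map_mul]
    exact fun h => hNf (ext_injective C[Subgroup.zpowers z] (h.trans (map_zero _).symm))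
  · rintro _ ⟨w, rfl⟩
    obtain ⟨co, hco⟩ := (Submodule.mem_span_range_iff_exists_fun k).mp (hspan w)
    show ext C[Subgroup.zpowers z] f * ext C[Subgroup.zpowers z] w * ext C[Subgroup.zpowers z] f ∈ _
    rw [← map_mul, ← map_mul, ← hco, map_sum]
    refine Submodule.sum_mem _ fun j _ => ?_
    rw [map_smul, map_mul, map_pow]
    exact Submodule.smul_mem _ _ (Submodule.subset_span ⟨j, rfl⟩)

set_option maxHeartbeats 1000000 in
/-- The representations of the block. -/
theorem exists_reps (hM : Cfsg.IsPModular p M) (hc : Cyc p ψ P c z) :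
    ∃ (n : Fin (eIdx hc) → ℕ)
      (π : ∀ i, MonoidAlgebra k G →ₐ[k] Matrix (Fin (n i)) (Fin (n i)) k),
      (∀ i, 0 < n i ∧ Function.Surjective (π i) ∧ π i (bidem ψ) = 1) ∧
      ∀ i j, (∀ x, π i x = 0 ↔ π j x = 0) → i = j := by
  classical
  haveI := Fintype.ofFinite G
  obtain ⟨F, hF⟩ := exists_frame hM hc
  obtain ⟨h, hh, -, hgen, hiff⟩ := hc.exists_gen hM
  set e := eIdx hc with he
  haveI := Fintype.ofFinite C[Subgroup.zpowers z]
  haveI := Fintype.ofFinite (C[Subgroup.zpowers z] ⧸ P.subgroupOf C[Subgroup.zpowers z])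
  obtain ⟨a₀, hafix, ha₀⟩ := LocalBlock.exists_trace_preimage (bz hc) (D := P.subgroupOf C[Subgroup.zpowers z])
    (isDef_of_top hc.top_local.1 hc.top_local.2)
  obtain ⟨χ, hχ, hχsum⟩ := exists_transversal (M := M) (H := C[Subgroup.zpowers z]) (R := P) hc.le_centralizer
  have hnorm : ∀ g ∈ C[Subgroup.zpowers z], h * g * h⁻¹ ∈ C[Subgroup.zpowers z] := fun g hg =>
    (Subgroup.mem_normalizer_iff.mp
      (le_normalizer_centralizer (stab_le_normalizer (az hc)) hh) g).mp hg
  have S : Endo.Setup F P (ext C[Subgroup.zpowers z] a₀) h e :=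
    { le := hc.le_centralizer
      mem_a := ⟨a₀, rfl⟩
      a_fix := fun u hu => by
        rw [show u = ((⟨u, hc.le_centralizer hu⟩ : C[Subgroup.zpowers z]) : G) from rfl, conjA_ext,
          hafix _ (Subgroup.mem_subgroupOf.mpr hu)]
      trace := ⟨χ, fun {_} => hχ, fun {i} => by
        have h2 := hχsum fun g => conjA g (ext C[Subgroup.zpowers z] a₀)
        refine Eq.trans (Eq.trans ?_ h2.symm) (Finset.sum_congr (by ext; simp) fun _ _ => rfl)
        rw [hF, bext, ha₀, map_sum]
        exact Finset.sum_congr rfl fun q _ => (conjA_ext _ _).symm⟩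
      norm := hnorm
      fix_b := by
        rw [hF]
        exact (mem_stab_iff.mp hh).2
      pos := hc.eIdx_pos hM
      pow_mem := hiff
      dich := fun g => by
        rw [hF]
        exact dich hc hM hgen g
      cent := fun u hu hu1 g hg => by
        refine hc.centralizer_le hu hu1 ?_
        rw [Cfsg.Agent.Lib.BrauerMap.SecondMain.mem_centralizer_zpowers_iff]
        exact hg.symm }
  have hek : (e : k) ≠ 0 := by
    rw [Ne, CharP.cast_eq_zero_iff k p]
    exact hc.not_dvd_eIdx hM
  obtain ⟨W⟩ := Twist.exists_gen (F := F) hnorm S.fix_b S.pos ((hiff e).mpr dvd_rfl)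
  haveI : NeZero (e : k) := ⟨hek⟩
  obtain ⟨ζ, hζ⟩ := HasEnoughRootsOfUnity.exists_primitiveRoot k e
  -- the part of the complement outside `C`
  let s : G → k := fun g => if g ∈ C[Subgroup.zpowers z] then 0 else (1 - bidem ψ).coeff g
  have hcen : (1 - bidem ψ) ∈ Subalgebra.center k (MonoidAlgebra k G) :=
    Subalgebra.sub_mem _ (Subalgebra.one_mem _) (bidem_mem ψ)
  refine Simples.exists_reps S W hek (ε := bidem ψ)
    (fun x => (Subalgebra.mem_center_iff.mp (bidem_mem ψ) x).symm) (bidem_isIdem ψ).eq (s := s)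
    (fun g hg hgC => hg (if_pos hgC)) (fun x hx g => ?_) ?_ (μ := fun i : Fin e => ζ ^ (i : ℕ))
    (fun i => by rw [← pow_mul, mul_comm, pow_mul, hζ.pow_eq_one, one_pow])
    fun i j hij => Fin.ext (hζ.pow_inj i.2 j.2 hij)
  · show (if x * g * x⁻¹ ∈ C[Subgroup.zpowers z] then (0 : k) else _) = if g ∈ C[Subgroup.zpowers z] then 0 else _
    refine if_congr ⟨fun hh' => ?_, fun hh' => mul_mem (mul_mem hx hh') (inv_mem hx)⟩ rfl ?_
    · simpa [mul_assoc] using mul_mem (mul_mem (inv_mem hx) hh') hx
    · have := (mem_center_iff_coeff _).1 hcen x g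
      simpa using this
  · -- the part inside `C` is killed
    have hbr : br (Subgroup.zpowers z) (bidem ψ) * bidem (bz hc) = bidem (bz hc) := by
      have hZp : IsPGroup p (Subgroup.zpowers z) := hc.pair_az.1
      let θ : ZAlg k G →ₐ[k] ZAlg k C[Subgroup.zpowers z] :=
        brauerHom hZp le_rfl (Subgroup.centralizer_le_normalizer _)
      have hθ : ∀ w : ZAlg k G, ((θ w : ZAlg k C[Subgroup.zpowers z]) : MonoidAlgebra k C[Subgroup.zpowers z]) =
          br (Subgroup.zpowers z) (w : MonoidAlgebra k G) := fun w =>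
        brauerHom_apply hZp le_rfl (Subgroup.centralizer_le_normalizer _) w
      have hone : θ (idem ψ) * idem (bz hc) = idem (bz hc) := by
        refine mul_idem_eq (bz hc) ((idem_isIdem ψ).map θ) ?_
        have := hc.pair_az.apply_eq (idem ψ)
        rw [apply_idem_self] at this
        erw [val_eq (bz hc) (isFixedBy_of_mem_center _ (idem ψ).2)] at this
        exact Eq.trans (congrArg (bz hc) (Subtype.ext (hθ (idem ψ)))) this
      have h2 := congrArg Subtype.val hone
      rw [Subalgebra.coe_mul, hθ] at h2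
      exact h2
    have hdec : bidem ψ = ext C[Subgroup.zpowers z] (br (Subgroup.zpowers z) (bidem ψ)) -
        ∑ g, s g • single g (1 : k) := by
      ext g
      rw [MonoidAlgebra.coeff_sub, Finsupp.sub_apply, MonoidAlgebra.coeff_sum,
        Finsupp.finsetSum_apply, Finset.sum_eq_single g]
      · by_cases hg : g ∈ C[Subgroup.zpowers z]
        · rw [show g = ((⟨g, hg⟩ : C[Subgroup.zpowers z]) : G) from rfl, coeff_ext]
          simp [s, hg, coeff_br]
        · rw [coeff_ext_of_notMem _ _ hg]
          simp only [s, if_neg hg, MonoidAlgebra.coeff_smul, Finsupp.smul_apply, coeff_single,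
            Finsupp.single_eq_same, smul_eq_mul, mul_one, MonoidAlgebra.coeff_sub,
            Finsupp.sub_apply, MonoidAlgebra.one_def, coeff_single]
          rw [Finsupp.single_eq_of_ne (fun e' : g = 1 => hg (e' ▸ one_mem C[Subgroup.zpowers z]))]
          ring
      · intro g' _ hg'
        simp [hg']
      · simp
    rw [mul_sub, mul_one]
    conv_lhs => rw [hdec]
    rw [mul_sub, hF, bext, ← map_mul, (Subalgebra.mem_center_iff.mp (bidem_mem _) _).symm, hbr,
      sub_sub_cancel]

set_option maxHeartbeats 1000000 in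
/-- **The inertial index is at most the regular rank.** -/
theorem le_blockRank (hM : Cfsg.IsPModular p M) (hc : Cyc p ψ P c z) :
    eIdx hc ≤ Cfsg.blockRank p (toSet ψ) := by
  classical
  haveI := Fintype.ofFinite G
  obtain ⟨n, π, hπ, hker⟩ := exists_reps hM hc
  choose Y hY1 hY0 using Simples.exists_separating (fun i => ⟨(hπ i).1, (hπ i).2.1⟩) hker
  set hB := isPBlock_toSet (M := M) ψ
  let Xr := {g : G // ¬ p ∣ orderOf g}
  let res : (G → ℂ) →ₗ[ℂ] (Xr → ℂ) := LinearMap.funLeft ℂ ℂ Subtype.val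
  let t : Fin (eIdx hc) → Xr → k := fun i g => trFun (π i) g.1
  have hli : LinearIndependent k t := Fintype.linearIndependent_iff.mpr fun co hco j => by
    have hall : ∀ g : G, ∑ i, co i * trFun (π i) g = 0 := fun g => by
      obtain ⟨y, hy, -, hy'⟩ := exists_regular_trFun (p := p) (π j) (hπ j).1 g
      have h1 := congrFun hco ⟨y, hy⟩
      simp only [Finset.sum_apply, Pi.smul_apply, smul_eq_mul, Pi.zero_apply, t] at h1
      rw [← h1]
      exact Finset.sum_congr rfl fun i _ => by rw [hy' (n i) (π i) (hπ i).1]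
    have hall' : ∀ x, ∑ i, co i * (π i x).trace = 0 := fun x => by
      induction x using MonoidAlgebra.induction_on with
      | add a b ha hb =>
        simp only [map_add, Matrix.trace_add, mul_add, Finset.sum_add_distrib, ha, hb, add_zero]
      | smul r a ha =>
        simp only [map_smul, Matrix.trace_smul, smul_eq_mul, mul_left_comm _ r, ← Finset.mul_sum,
          ha, mul_zero]
      | of g => exact hall g
    have h2 := hall' (Y j)
    rwa [Finset.sum_eq_single j (fun i _ hi => by simp [hY0 j i hi]) (by simp), hY1, mul_one] at h2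
  have h1 := LiftRank.finrank_le_of_lift (M := M) (X := Xr) (Submodule.span k (Set.range t))
    ((Submodule.span ℂ ((fun χ : Cfsg.IrrCharacter G => Cfsg.pRegularPart p (χ : G → ℂ)) ''
      toSet ψ)).map res) (fun w hw => by
    obtain ⟨co, rfl⟩ := (Submodule.mem_span_range_iff_exists_fun k).mp hw
    set v : G → k := fun g => ∑ i, co i * trFun (π i) g with hv
    have hvc : v ∈ classFns k G := fun g y => by
      refine Finset.sum_congr rfl fun i _ => ?_
      congr 1
      show (π i _).trace = (π i _).trace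
      rw [show (single (y * g * y⁻¹) (1 : k)) = single (y * g) 1 * single y⁻¹ 1 by
        simp [single_mul_single], map_mul, Matrix.trace_mul_comm, ← map_mul, single_mul_single,
        inv_mul_cancel_left, one_mul]
    refine ⟨fun g => liftOp hB v g.1, ?_, fun g => ?_⟩
    · have h2 : (fun g => (liftOp hB v g : ℂ)) ∈ Submodule.span ℂ
          ((fun χ : Cfsg.IrrCharacter G => (χ : G → ℂ)) '' toSet ψ) := by
        rw [coe_liftOp, opR_idem_eq _ (sec_classFun hvc)]
        exact blockPart_mem_span _ _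
      let reg : (G → ℂ) →ₗ[ℂ] (G → ℂ) :=
        { toFun := Cfsg.pRegularPart p
          map_add' := fun a b => by
            funext g
            simp only [Cfsg.pRegularPart, Pi.add_apply]
            split_ifs <;> simp
          map_smul' := fun r a => by
            funext g
            simp only [Cfsg.pRegularPart, Pi.smul_apply, RingHom.id_apply, smul_eq_mul]
            split_ifs <;> simp }
      refine ⟨reg (fun g => (liftOp hB v g : ℂ)), ?_, ?_⟩
      · have h3 := Submodule.mem_map_of_mem (f := reg) h2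
        rwa [Submodule.map_span, Set.image_image] at h3
      · funext g
        show Cfsg.pRegularPart p (fun g => (liftOp hB v g : ℂ)) g.1 = (liftOp hB v g.1 : ℂ)
        simp only [Cfsg.pRegularPart]
        rw [if_pos]
        exact g.2
    · rw [residue_liftOp, LocalBlock.eBar_eq_bidem, ← one_mul (opR _ v g.1), ← ev_single, ev_opR]
      have hev : ∀ x, ev v x = ∑ i, co i * (π i x).trace := fun x => by
        induction x using MonoidAlgebra.induction_on with
        | add a b ha hb =>
          simp only [map_add, Matrix.trace_add, mul_add, Finset.sum_add_distrib, ha, hb]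
        | smul r a ha =>
          simp only [map_smul, Matrix.trace_smul, smul_eq_mul, mul_left_comm _ r, ← Finset.mul_sum,
            ha]
        | of a =>
          rw [MonoidAlgebra.of_apply, ev_single, one_mul]
          rfl
      rw [hev]
      simp only [map_mul, (hπ _).2.2, mul_one, one_mul, Finset.sum_apply, Pi.smul_apply, smul_eq_mul]
      rfl)
  rw [finrank_span_eq_card hli, Fintype.card_fin] at h1
  exact h1.trans (Submodule.finrank_map_le res _)

end Cfsg.Agent.Lib.CyclicBlocks.Rank
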