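import Mathlib
import Cfsg.Agent.Lib.CyclicBlocks.Local
import Cfsg.Agent.Lib.BrauerPairs.RankOne
import Cfsg.Agent.Lib.Blocks.Vanishing
import Cfsg.Agent.Lib.Blocks.Orthogonality

/-!
# The characters of the block of `C(z)`

They agree on regular elements, and an element of the stabilizer outside `C(z)` fixes exactly one.
-/

set_option autoImplicit false
set_option linter.style.haveILetI false
set_option linter.unusedSectionVars false

namespace Cfsg.Agent.Lib.CyclicBlocks.Chars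

open MonoidAlgebra Cfsg.Agent.Lib.BrauerMap.Basic
open Cfsg.Agent.Lib.BrauerPairs
open Cfsg.Agent.Lib.BrauerPairs.Center Cfsg.Agent.Lib.BrauerPairs.Trunc
open Cfsg.Agent.Lib.BrauerPairs.Conj Cfsg.Agent.Lib.BrauerPairs.Pairs
open Cfsg.Agent.Lib.BrauerPairs.Transport Cfsg.Agent.Lib.BrauerPairs.Maximal
open Cfsg.Agent.Lib.BrauerPairs.Bridge Cfsg.Agent.Lib.BrauerPairs.Embed
open Cfsg.Agent.Lib.BrauerPairs.Local Cfsg.Agent.Lib.BrauerPairs.SubsectionCount
open Cfsg.Agent.Lib.BrauerPairs.Principal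
open Cfsg.Agent.Lib.CyclicBlocks.Local
open Cfsg.Agent.Lib.Blocks.Contrib
open Cfsg.Agent.Lib.Characters.Basic
open scoped ComplexConjugate

universe u

attribute [local instance] Ideal.Quotient.field

variable {M : Ideal Cfsg.AlgInt} [M.IsMaximal] {G : Type u} [Group G] [Finite G]
  {p : ℕ} [Fact p.Prime] [CharP (Res M) p] {ψ : Blk (Res M) G} {P : Subgroup G}
  {c : Blk (Res M) (Subgroup.centralizer (P : Set G))} {z : G}

local notation "C[" P "]" => Subgroup.centralizer ((P : Subgroup G) : Set G)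

/-- All degrees of the block of `C(z)` are equal, even all regular values. -/
theorem values_eq (hM : Cfsg.IsPModular p M) (hc : Cyc p ψ P c z)
    {ξ ξ' : Cfsg.IrrCharacter C[Subgroup.zpowers z]} (hξ : ξ ∈ toSet (bz hc))
    (hξ' : ξ' ∈ toSet (bz hc)) {s : C[Subgroup.zpowers z]} (hs : ¬ p ∣ orderOf s) :
    (ξ : _ → ℂ) s = (ξ' : _ → ℂ) s := by
  classical
  obtain ⟨hl, hk⟩ := hc.rank_card hM
  obtain ⟨g, a, d, hg, hdeg, hval, hsum⟩ := RankOne.exists_phi hM (isPBlock_toSet (bz hc)) hl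
  have hn : p ^ Cfsg.blockDefect p (toSet (bz hc)) = Nat.card P := by
    rw [← RankAbelian.card_top hM hc.top_local.1 hc.top_local.2]
    exact Nat.card_congr (Subgroup.subgroupOfEquivOfLe hc.le_centralizer).toEquiv
  have hpos : ∀ χ ∈ bset (toSet (bz hc)), 1 ≤ d χ := fun χ hχ => by
    refine Nat.one_le_iff_ne_zero.mpr fun h0 => ?_
    have h1 := BlocksChars5.Basic.degree_pos χ
    rw [hdeg χ (mem_bset.mp hχ), h0, mul_zero] at h1
    exact lt_irrefl 0 h1
  have hcard : (bset (toSet (bz hc))).card = Nat.card P := by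
    rw [← hk, Nat.card_coe_set_eq, Set.ncard_eq_toFinset_card _ (Set.toFinite _)]
    exact congrArg Finset.card (Finset.ext fun χ => by simp [mem_bset])
  have hone : ∀ χ ∈ bset (toSet (bz hc)), d χ ^ 2 = 1 := fun χ hχ => by
    have h2 : ∑ χ ∈ bset (toSet (bz hc)), 1 = ∑ χ ∈ bset (toSet (bz hc)), d χ ^ 2 := by
      rw [hsum, hn, ← Finset.card_eq_sum_ones, hcard]
    exact ((Finset.sum_eq_sum_iff_of_le fun χ hχ => Nat.one_le_pow _ _ (hpos χ hχ)).mp h2 χ
      hχ).symm
  have e1 : ∀ χ ∈ toSet (bz hc), d χ = 1 := fun χ hχ =>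
    (pow_eq_one_iff.mp (hone χ (mem_bset.mpr hχ))).resolve_right (by decide)
  rw [hval ξ hξ s hs, hval ξ' hξ' s hs, e1 ξ hξ, e1 ξ' hξ']

/-- The norm of the common regular part. -/
theorem sum_regular (hM : Cfsg.IsPModular p M) (hc : Cyc p ψ P c z)
    [Fintype C[Subgroup.zpowers z]] :
    ∑ s : C[Subgroup.zpowers z], (if p ∣ orderOf s then 0 else
      ∑ ξ ∈ bset (toSet (bz hc)), (ξ : _ → ℂ) s * conj ((ξ : _ → ℂ) s)) =
      (Nat.card C[Subgroup.zpowers z] : ℂ) := by
  classical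
  set e := toSet (bz hc) with he
  have h : ((∑ ξ ∈ bset e, contribN p ξ ξ : ℤ) : ℂ) *
      (primeToCard p C[Subgroup.zpowers z] : ℂ) = (Nat.card C[Subgroup.zpowers z] : ℂ) := by
    rw [sum_contribN_self hM (isPBlock_toSet (bz hc)), (hc.rank_card hM).1,
      natCast_card_eq p C[Subgroup.zpowers z]]
    push_cast
    ring
  rw [← h, Int.cast_sum, Finset.sum_mul]
  have hr : ∀ ξ : Cfsg.IrrCharacter C[Subgroup.zpowers z],
      (contribN p ξ ξ : ℂ) * (primeToCard p C[Subgroup.zpowers z] : ℂ) =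
      ∑ s : C[Subgroup.zpowers z], if p ∣ orderOf s then 0 else
        (ξ : _ → ℂ) s * conj ((ξ : _ → ℂ) s) := fun ξ => by
    rw [mul_comm, ← regSum_eq_contribN, regSum_eq_sum]
    simp only [apply_inv (isCharacter_irr ξ)]
  simp only [hr]
  rw [Finset.sum_comm]
  refine Finset.sum_congr rfl fun s _ => ?_
  split_ifs <;> simp

/-- At a singular element where the block does not vanish the `p`-part generates a subgroup
containing `z`. -/
theorem mem_zpowers_pPart (hM : Cfsg.IsPModular p M) (hc : Cyc p ψ P c z)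
    {ξ : Cfsg.IrrCharacter C[Subgroup.zpowers z]} (hξ : ξ ∈ toSet (bz hc))
    {s u : C[Subgroup.zpowers z]} (hu : Cfsg.IsPPart p s u) (hs : p ∣ orderOf s)
    (hne : (ξ : _ → ℂ) s ≠ 0) : z ∈ Subgroup.zpowers (u : G) := by
  classical
  by_contra hz
  refine hne (Blocks.char_eq_zero_of_pPart_notMem hM (isPBlock_toSet (bz hc))
    hc.isDefectGroup_bz hu (fun t ht => hz ?_) hξ)
  rw [Subgroup.mem_subgroupOf] at ht
  simp only [Subgroup.coe_mul, InvMemClass.coe_inv] at ht
  have h1 : (t : G)⁻¹ * (u : G) * (t : G) ≠ 1 := fun e => by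
    refine Blocks.isPPart_ne_one hu hs (Subtype.ext ?_)
    have e' : (u : G) = (t : G) * 1 * (t : G)⁻¹ := by rw [← e]; group
    simpa using e'
  obtain ⟨k, hk⟩ := Subgroup.mem_zpowers_iff.mp (hc.mem_zpowers ht h1)
  refine Subgroup.mem_zpowers_iff.mpr ⟨k, ?_⟩
  have e2 := Subgroup.mem_centralizer_iff.mp t.2 z (Subgroup.mem_zpowers z)
  calc (u : G) ^ k = (t : G) * ((t : G)⁻¹ * (u : G) * (t : G)) ^ k * (t : G)⁻¹ := by
        rw [← conj_zpow]; group
    _ = z := by rw [hk, ← e2, mul_inv_cancel_right]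

/-- Elements of the stabilizer act on the characters of the block. -/
theorem stab_conj_iff (hc : Cyc p ψ P c z) {x : G} (hx : x ∈ stab (az hc)) (g : G) :
    g ∈ C[Subgroup.zpowers z] ↔ x * g * x⁻¹ ∈ C[Subgroup.zpowers z] :=
  mem_centralizer_conj_iff (stab_le_normalizer (az hc) hx) g

/-- The conjugate character. -/
noncomputable def cj (hc : Cyc p ψ P c z) {x : G} (hx : x ∈ stab (az hc))
    (ξ : Cfsg.IrrCharacter C[Subgroup.zpowers z]) : Cfsg.IrrCharacter C[Subgroup.zpowers z] :=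
  pushIrr (conjEquiv x _ _ (stab_conj_iff hc hx)) ξ

theorem cj_apply (hc : Cyc p ψ P c z) {x : G} (hx : x ∈ stab (az hc))
    (ξ : Cfsg.IrrCharacter C[Subgroup.zpowers z]) (s : C[Subgroup.zpowers z]) :
    (cj hc hx ξ : _ → ℂ) s =
      (ξ : _ → ℂ) ((conjEquiv x _ _ (stab_conj_iff hc hx)).symm s) := rfl

theorem cj_mem (hc : Cyc p ψ P c z) {x : G} (hx : x ∈ stab (az hc))
    {ξ : Cfsg.IrrCharacter C[Subgroup.zpowers z]} (hξ : ξ ∈ toSet (bz hc)) :
    cj hc hx ξ ∈ toSet (bz hc) := by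
  rw [mem_toSet, cj, blkOf_pushIrr_conj, mem_toSet.mp hξ]
  exact (act_eq_iff (stab_le_normalizer (az hc) hx : x ∈ Subgroup.normalizer
    (Subgroup.zpowers z : Set G)) (bz hc)).mpr (mem_stab_iff.mp hx).2

/-- An element outside `C(z)` fixes exactly one character of the block. -/
theorem card_fixed (hM : Cfsg.IsPModular p M) (hc : Cyc p ψ P c z) {x : G}
    (hx : x ∈ stab (az hc)) (hxC : x ∉ C[Subgroup.zpowers z]) :
    ∃! ξ, ξ ∈ toSet (bz hc) ∧ cj hc hx ξ = ξ := by
  classical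
  set C := C[Subgroup.zpowers z] with hC
  haveI := Fintype.ofFinite C
  set θ := conjEquiv x C C (stab_conj_iff hc hx) with hθ
  set S := bset (toSet (bz hc)) with hS
  have hfix : ((S.filter fun ξ => cj hc hx ξ = ξ).card : ℂ) =
      ∑ ξ ∈ S, Cfsg.classInner (cj hc hx ξ : C → ℂ) (ξ : C → ℂ) := by
    rw [← Finset.sum_boole]
    refine Finset.sum_congr rfl fun ξ _ => ?_
    by_cases h : cj hc hx ξ = ξ
    · rw [if_pos h, h, classInner_self_irr]
    · rw [if_neg h, classInner_irr_of_ne h]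
  have hsum : ∑ ξ ∈ S, Cfsg.classInner (cj hc hx ξ : C → ℂ) (ξ : C → ℂ) = 1 := by
    simp only [Cfsg.classInner, ← Finset.mul_sum]
    rw [Finset.sum_comm]
    have hterm : ∀ s : C, ∑ ξ ∈ S, (cj hc hx ξ : C → ℂ) s * conj ((ξ : C → ℂ) s) =
        if p ∣ orderOf s then 0 else ∑ ξ ∈ S, (ξ : C → ℂ) s * conj ((ξ : C → ℂ) s) := by
      intro s
      by_cases hs : p ∣ orderOf s
      · rw [if_pos hs]
        obtain ⟨u, hu⟩ := Blocks.exists_isPPart (Fact.out : p.Prime) s
        by_cases hall : ∀ ξ ∈ S, (ξ : C → ℂ) s = 0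
        · exact Finset.sum_eq_zero fun ξ hξ => by rw [hall ξ hξ, map_zero, mul_zero]
        push Not at hall
        obtain ⟨ξ₀, hξ₀, hne⟩ := hall
        have hzu := mem_zpowers_pPart hM hc (mem_bset.mp hξ₀) hu hs hne
        have hu' : Cfsg.IsPPart p (θ.symm s) (θ.symm u) := by
          obtain ⟨y, h1, h2, ⟨k, hk⟩, h3⟩ := hu
          exact ⟨θ.symm y, by rw [← map_mul, h1], h2.map θ.symm,
            ⟨k, by rw [θ.symm.orderOf_eq, hk]⟩, by rwa [θ.symm.orderOf_eq]⟩
        have hnc : ¬ IsConj (θ.symm u) u := by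
          rintro h
          obtain ⟨t, ht⟩ := isConj_iff.mp h
          obtain ⟨k, hk⟩ := Subgroup.mem_zpowers_iff.mp hzu
          have e1 : (θ.symm u : G) = x⁻¹ * (u : G) * x := rfl
          have e2 := congrArg (fun w : C => (w : G) ^ k) ht
          simp only [Subgroup.coe_mul, InvMemClass.coe_inv, conj_zpow, e1] at e2
          rw [show x⁻¹ * (u : G) * x = x⁻¹ * (u : G) * (x⁻¹)⁻¹ by group, conj_zpow, hk] at e2
          have e3 := Subgroup.mem_centralizer_iff.mp t.2 z (Subgroup.mem_zpowers z)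
          have e4 : x⁻¹ * z * (x⁻¹)⁻¹ = z := by
            calc x⁻¹ * z * (x⁻¹)⁻¹ = (t : G)⁻¹ * z * (t : G) := by
                  conv_rhs => rw [← e2]
                  group
              _ = z := by rw [mul_assoc, e3, inv_mul_cancel_left]
          exact hc.conj_ne (fun h' => hxC (inv_inv x ▸ inv_mem h')) e4
        have h0 := Blocks.sum_block_eq_zero hM hu' hu hnc (isPBlock_toSet (bz hc))
        rw [finsum_mem_bset] at h0
        rw [← h0]
        exact Finset.sum_congr rfl fun ξ _ => by rw [cj_apply, apply_inv (isCharacter_irr ξ)]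
      · rw [if_neg hs]
        exact Finset.sum_congr rfl fun ξ hξ => by
          rw [values_eq hM hc (cj_mem hc hx (mem_bset.mp hξ)) (mem_bset.mp hξ) hs]
    rw [Finset.sum_congr rfl fun s _ => hterm s, sum_regular hM hc,
      inv_mul_cancel₀ (Nat.cast_ne_zero.mpr Nat.card_pos.ne')]
  rw [hsum] at hfix
  obtain ⟨ξ, hξ⟩ := Finset.card_eq_one.mp (by exact_mod_cast hfix :
    (S.filter fun ξ => cj hc hx ξ = ξ).card = 1)
  have hmem : ∀ η, η ∈ toSet (bz hc) ∧ cj hc hx η = η ↔ η = ξ := fun η => by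
    rw [← Finset.mem_singleton (a := ξ) (b := η), ← hξ, Finset.mem_filter, hS, mem_bset]
  exact ⟨ξ, (hmem ξ).mpr rfl, fun η hη => (hmem η).mp hη⟩

end Cfsg.Agent.Lib.CyclicBlocks.Chars
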