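import Mathlib

/-!
# An integral matrix with Gram matrix `1 + e J`

If it has no zero row and at least `e + t` rows, `t` being the number of columns, then up to signs it
consists of the unit vectors and `e` copies of the all-one row.
-/

set_option autoImplicit false

namespace Cfsg.Agent.Lib.CyclicBlocks.Combin

open Finset

variable {ι Q : Type*} [Fintype Q] [DecidableEq Q]

omit [DecidableEq Q] in
/-- An integral nonconstant vector is far from constant. -/
theorem two_mul_sub_le (f : Q → ℤ) {a b : Q} (hab : f a ≠ f b) :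
    (Fintype.card Q : ℤ) - 1 ≤ (Fintype.card Q : ℤ) * ∑ q, f q ^ 2 - (∑ q, f q) ^ 2 := by
  classical
  have hne : a ≠ b := fun h => hab (h ▸ rfl)
  set g : Q → Q → ℤ := fun q q' => (f q - f q') ^ 2 with hg
  have h1 : ∑ q, ∑ q', g q q' = 2 * ((Fintype.card Q : ℤ) * ∑ q, f q ^ 2 - (∑ q, f q) ^ 2) := by
    simp only [hg, sub_sq, Finset.sum_add_distrib, Finset.sum_sub_distrib, Finset.sum_const,
      Finset.card_univ, nsmul_eq_mul, ← Finset.mul_sum, ← Finset.sum_mul, mul_assoc]
    ring
  have hone : ∀ q, 1 ≤ g a q + g b q := fun q => by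
    by_cases h : f a = f q
    · have : f b - f q ≠ 0 := sub_ne_zero.mpr fun h' => hab (h.trans h'.symm)
      have := sq_pos_of_ne_zero this
      simp only [hg]
      nlinarith [sq_nonneg (f a - f q)]
    · have := sq_pos_of_ne_zero (sub_ne_zero.mpr h)
      simp only [hg]
      nlinarith [sq_nonneg (f b - f q)]
  have hrest : ∀ q, 1 ≤ ∑ q', g q q' := fun q => by
    have h2 : g q a + g q b ≤ ∑ q', g q q' := by
      rw [← Finset.sum_pair hne]
      exact Finset.sum_le_sum_of_subset_of_nonneg (Finset.subset_univ _) fun x _ _ => sq_nonneg _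
    have h3 : g q a + g q b = g a q + g b q := by simp only [hg]; ring
    linarith [hone q]
  have hcardQ : 2 ≤ Fintype.card Q := by
    rw [← Finset.card_pair hne]
    exact Finset.card_le_univ _
  have h4 : 2 * ((Fintype.card Q : ℤ) - 1) ≤ ∑ q, ∑ q', g q q' := by
    rw [← Finset.sum_sdiff (Finset.subset_univ {a, b}), Finset.sum_pair hne,
      ← Finset.sum_add_distrib]
    have h5 : ((Fintype.card Q : ℤ) - 2) ≤ ∑ q ∈ Finset.univ \ {a, b}, ∑ q', g q q' := by
      refine le_trans (le_of_eq ?_) (Finset.card_nsmul_le_sum _ _ 1 fun q _ => hrest q)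
      rw [Finset.card_sdiff_of_subset (Finset.subset_univ _), Finset.card_univ,
        Finset.card_pair hne, nsmul_eq_mul, mul_one, Nat.cast_sub hcardQ]
      rfl
    have h6 : (Fintype.card Q : ℤ) ≤ ∑ q, (g a q + g b q) :=
      le_trans (by simp) (Finset.card_nsmul_le_sum _ _ 1 fun q _ => hone q)
    linarith
  linarith

/-- The structure of the matrix. -/
theorem exists_family [Fintype ι] (b : ι → Q → ℤ) (e : ℕ) (hQ : 1 ≤ Fintype.card Q)
    (hgram : ∀ q q', ∑ i, b i q * b i q' = (if q = q' then 1 else 0) + (e : ℤ))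
    (hne : ∀ i, ∃ q, b i q ≠ 0) (hk : e + Fintype.card Q ≤ Fintype.card ι) :
    Fintype.card ι = e + Fintype.card Q ∧
    ∃ (y : Q → ι) (δ : Q → ℤ), Function.Injective y ∧ (∀ q, δ q = 1 ∨ δ q = -1) ∧
      (∀ q q', b (y q) q' = if q = q' then δ q else 0) ∧
      ∀ i, i ∉ Set.range y → ∃ c : ℤ, (c = 1 ∨ c = -1) ∧ ∀ q, b i q = c := by
  classical
  set t := Fintype.card Q with ht
  obtain ⟨q₀⟩ : Nonempty Q := Fintype.card_pos_iff.mp (by omega)
  have hsq : ∀ i, 1 ≤ ∑ q, b i q ^ 2 := fun i => by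
    obtain ⟨q, hq⟩ := hne i
    exact le_trans (sq_pos_of_ne_zero hq)
      (Finset.single_le_sum (f := fun q => b i q ^ 2) (fun q _ => sq_nonneg _) (Finset.mem_univ q))
  have hsum : ∑ i, ∑ q, b i q ^ 2 = (t : ℤ) * ((e : ℤ) + 1) := by
    rw [Finset.sum_comm]
    simp only [pow_two, hgram, if_true, Finset.sum_const, Finset.card_univ, nsmul_eq_mul, ← ht]
    ring
  have hcol : ∀ q, ∑ i, b i q ^ 2 = (e : ℤ) + 1 := fun q => by
    simp only [pow_two, hgram, if_true]
    ring
  rcases Nat.lt_or_ge t 2 with ht1 | ht2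
  · have htone : t = 1 := by omega
    have hq : ∀ q, q = q₀ := fun q => Fintype.card_le_one_iff.mp (by omega) q q₀
    have hsingle : ∀ i, ∑ q, b i q ^ 2 = b i q₀ ^ 2 := fun i =>
      Finset.sum_eq_single q₀ (fun q _ h => absurd (hq q) h) (by simp)
    have h1 : ∀ i ∈ (Finset.univ : Finset ι), (1 : ℤ) ≤ ∑ q, b i q ^ 2 := fun i _ => hsq i
    have hle : (Fintype.card ι : ℤ) ≤ ∑ i, ∑ q, b i q ^ 2 :=
      le_trans (by simp) (Finset.card_nsmul_le_sum _ _ 1 h1)
    have hcard : Fintype.card ι = e + t := by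
      rw [hsum, htone] at hle
      omega
    have hall : ∀ i, b i q₀ = 1 ∨ b i q₀ = -1 := fun i => by
      have h2 : ∑ i, ∑ q, b i q ^ 2 = ∑ _i : ι, (1 : ℤ) := by
        rw [hsum, Finset.sum_const, Finset.card_univ, hcard, htone]
        simp
      have h3 := (Finset.sum_eq_sum_iff_of_le h1).mp h2.symm i (Finset.mem_univ i)
      rw [hsingle] at h3
      exact sq_eq_one_iff.mp h3.symm
    obtain ⟨i₀⟩ : Nonempty ι := Fintype.card_pos_iff.mp (by omega)
    refine ⟨hcard, fun _ => i₀, fun _ => b i₀ q₀, fun q q' _ => (hq q).trans (hq q').symm,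
      fun _ => hall i₀, fun q q' => ?_, fun i _ => ⟨b i q₀, hall i, fun q => by rw [hq q]⟩⟩
    rw [hq q', hq q, if_pos rfl]
  · set Con := (Finset.univ : Finset ι).filter fun i => ∀ q q', b i q = b i q' with hCon
    set Non := (Finset.univ : Finset ι).filter fun i => ¬ ∀ q q', b i q = b i q' with hNon
    have hCN : Con.card + Non.card = Fintype.card ι :=
      Finset.card_filter_add_card_filter_not _
    have hsplit : ∀ g : ι → ℤ, ∑ i ∈ Con, g i + ∑ i ∈ Non, g i = ∑ i, g i := fun g =>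
      Finset.sum_filter_add_sum_filter_not _ _ _
    have hdev : ∑ i, ((t : ℤ) * ∑ q, b i q ^ 2 - (∑ q, b i q) ^ 2) = (t : ℤ) * ((t : ℤ) - 1) := by
      have hS : ∑ i, (∑ q, b i q) ^ 2 = (t : ℤ) + (t : ℤ) * (t : ℤ) * e := by
        simp only [pow_two, Finset.sum_mul_sum]
        rw [Finset.sum_comm]
        have : ∀ q, ∑ i, ∑ q', b i q * b i q' = 1 + (t : ℤ) * e := fun q => by
          rw [Finset.sum_comm]
          simp only [hgram, Finset.sum_add_distrib, Finset.sum_const, Finset.card_univ,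
            nsmul_eq_mul, Finset.sum_ite_eq, Finset.mem_univ, if_true, ← ht]
        simp only [this, Finset.sum_const, Finset.card_univ, nsmul_eq_mul, ← ht]
        ring
      rw [Finset.sum_sub_distrib, ← Finset.mul_sum, hsum, hS]
      ring
    have hdev0 : ∀ i, 0 ≤ (t : ℤ) * ∑ q, b i q ^ 2 - (∑ q, b i q) ^ 2 := fun i => by
      have := sq_sum_le_card_mul_sum_sq (s := (Finset.univ : Finset Q)) (f := b i)
      rw [Finset.card_univ, ← ht] at this
      linarith
    have hNle : (Non.card : ℤ) ≤ t := by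
      have h1 : (Non.card : ℤ) * ((t : ℤ) - 1) ≤
          ∑ i ∈ Non, ((t : ℤ) * ∑ q, b i q ^ 2 - (∑ q, b i q) ^ 2) := by
        refine le_trans (le_of_eq (nsmul_eq_mul _ _).symm)
          (Finset.card_nsmul_le_sum Non _ ((t : ℤ) - 1) fun i hi => ?_)
        obtain ⟨q, hq⟩ := not_forall.mp (Finset.mem_filter.mp hi).2
        obtain ⟨q', hq'⟩ := not_forall.mp hq
        exact two_mul_sub_le (b i) hq'
      have h2 := hsplit fun i => (t : ℤ) * ∑ q, b i q ^ 2 - (∑ q, b i q) ^ 2
      rw [hdev] at h2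
      have h3 : (0 : ℤ) ≤ ∑ i ∈ Con, ((t : ℤ) * ∑ q, b i q ^ 2 - (∑ q, b i q) ^ 2) :=
        Finset.sum_nonneg fun i _ => hdev0 i
      nlinarith
    have hCle : ∀ i ∈ Con, (t : ℤ) ≤ ∑ q, b i q ^ 2 := fun i hi => by
      have hc := (Finset.mem_filter.mp hi).2
      obtain ⟨q, hq⟩ := hne i
      simp only [fun q' => hc q' q, Finset.sum_const, Finset.card_univ, nsmul_eq_mul, ← ht]
      exact le_mul_of_one_le_right (Nat.cast_nonneg _) (sq_pos_of_ne_zero hq)
    have hA : (Con.card : ℤ) * t ≤ ∑ i ∈ Con, ∑ q, b i q ^ 2 :=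
      le_trans (le_of_eq (nsmul_eq_mul _ _).symm) (Finset.card_nsmul_le_sum Con _ _ hCle)
    have hB : (Non.card : ℤ) ≤ ∑ i ∈ Non, ∑ q, b i q ^ 2 :=
      le_trans (by simp) (Finset.card_nsmul_le_sum Non _ 1 fun i _ => hsq i)
    have hAB := hsplit fun i => ∑ q, b i q ^ 2
    rw [hsum] at hAB
    have hCe : (Con.card : ℤ) = e := by
      have h1 : (Con.card : ℤ) + Non.card ≥ (e : ℤ) + t := by exact_mod_cast (by omega :
        Con.card + Non.card ≥ e + t)
      have h2 : (t : ℤ) ≥ 2 := by exact_mod_cast ht2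
      have h3 : ((Con.card : ℤ) - e) * ((t : ℤ) - 1) ≤ 0 := by nlinarith
      nlinarith
    have hNt : (Non.card : ℤ) = t := by
      have : (Con.card : ℤ) + Non.card ≥ (e : ℤ) + t := by exact_mod_cast (by omega :
        Con.card + Non.card ≥ e + t)
      linarith
    have hC1 : ∀ i ∈ Con, ∑ q, b i q ^ 2 = t := by
      have : ∑ _i ∈ Con, (t : ℤ) = ∑ i ∈ Con, ∑ q, b i q ^ 2 := by
        rw [Finset.sum_const, nsmul_eq_mul]
        nlinarith
      exact fun i hi => ((Finset.sum_eq_sum_iff_of_le hCle).mp this i hi).symm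
    have hN1 : ∀ i ∈ Non, ∑ q, b i q ^ 2 = 1 := by
      have : ∑ _i ∈ Non, (1 : ℤ) = ∑ i ∈ Non, ∑ q, b i q ^ 2 := by
        rw [Finset.sum_const, nsmul_eq_mul, mul_one]
        nlinarith
      exact fun i hi => ((Finset.sum_eq_sum_iff_of_le fun j _ => hsq j).mp this i hi).symm
    have hConst : ∀ i ∈ Con, ∃ c : ℤ, (c = 1 ∨ c = -1) ∧ ∀ q, b i q = c := fun i hi => by
      have hc := (Finset.mem_filter.mp hi).2
      refine ⟨b i q₀, ?_, fun q => hc q q₀⟩
      have h1 := hC1 i hi
      simp only [fun q => hc q q₀, Finset.sum_const, Finset.card_univ, nsmul_eq_mul, ← ht] at h1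
      exact sq_eq_one_iff.mp (mul_left_cancel₀ (show (t : ℤ) ≠ 0 by exact_mod_cast (by omega : t ≠ 0))
        (h1.trans (mul_one _).symm))
    have hUnit : ∀ i ∈ Non, ∃ q, (b i q = 1 ∨ b i q = -1) ∧ ∀ q', q' ≠ q → b i q' = 0 := by
      intro i hi
      obtain ⟨q, hq⟩ := hne i
      have h1 := hN1 i hi
      rw [← Finset.add_sum_erase _ _ (Finset.mem_univ q)] at h1
      have h0 : ∑ x ∈ Finset.univ.erase q, b i x ^ 2 = 0 := by
        have := Finset.sum_nonneg (s := Finset.univ.erase q) (f := fun x => b i x ^ 2)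
          fun x _ => sq_nonneg _
        have := sq_pos_of_ne_zero hq
        omega
      refine ⟨q, sq_eq_one_iff.mp (by omega), fun q' hq' => ?_⟩
      exact pow_eq_zero_iff two_ne_zero |>.mp
        ((Finset.sum_eq_zero_iff_of_nonneg fun x _ => sq_nonneg _).mp h0 q'
          (Finset.mem_erase.mpr ⟨hq', Finset.mem_univ _⟩))
    haveI : Nonempty Q := ⟨q₀⟩
    choose! τ hτ1 hτ0 using hUnit
    have hfib : ∀ q, (Non.filter fun i => τ i = q).card = 1 := by
      intro q
      have h1 := hsplit fun i => b i q ^ 2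
      rw [hcol] at h1
      have h2 : ∑ i ∈ Con, b i q ^ 2 = (Con.card : ℤ) := by
        rw [Finset.sum_congr rfl fun i hi => show b i q ^ 2 = 1 by
          obtain ⟨c, hc1, hc2⟩ := hConst i hi
          rw [hc2 q]; rcases hc1 with rfl | rfl <;> norm_num]
        simp
      have h3 : ∑ i ∈ Non, b i q ^ 2 = ((Non.filter fun i => τ i = q).card : ℤ) := by
        rw [Finset.card_filter, Nat.cast_sum]
        refine Finset.sum_congr rfl fun i hi => ?_
        by_cases h : τ i = q
        · rw [if_pos h, ← h]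
          rcases hτ1 i hi with h' | h' <;> rw [h'] <;> norm_num
        · rw [if_neg h, hτ0 i hi q (Ne.symm h)]
          norm_num
      omega
    choose y hy using fun q => Finset.card_eq_one.mp (hfib q)
    have hymem : ∀ q, y q ∈ Non ∧ τ (y q) = q := fun q =>
      Finset.mem_filter.mp (by rw [hy q]; exact Finset.mem_singleton_self _)
    refine ⟨?_, y, fun q => b (y q) q, fun q q' h => ?_, fun q => ?_, fun q q' => ?_, fun i hi => ?_⟩
    · have : (Fintype.card ι : ℤ) = e + t := by
        rw [← hCN]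
        push_cast
        linarith
      exact_mod_cast this
    · rw [← (hymem q).2, h, (hymem q').2]
    · have := hτ1 (y q) (hymem q).1
      rwa [(hymem q).2] at this
    · split_ifs with h
      · subst h; rfl
      · exact hτ0 (y q) (hymem q).1 q' (by rw [(hymem q).2]; exact Ne.symm h)
    · refine hConst i (Finset.mem_filter.mpr ⟨Finset.mem_univ _, ?_⟩)
      by_contra h
      have hiN : i ∈ Non := Finset.mem_filter.mpr ⟨Finset.mem_univ _, h⟩
      refine hi ⟨τ i, ?_⟩
      have : i ∈ Non.filter fun j => τ j = τ i := Finset.mem_filter.mpr ⟨hiN, rfl⟩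
      rw [hy (τ i), Finset.mem_singleton] at this
      exact this.symm

end Cfsg.Agent.Lib.CyclicBlocks.Combin
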