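import Mathlib
import Cfsg.Agent.Lib.CyclicBlocks.Chars

/-!
# The orbits of the inertial quotient on the characters of the block of `C(z)`

One character `ξ₀` is fixed and the others fall into free orbits, with representatives `Q`.
-/

set_option autoImplicit false
set_option linter.style.haveILetI false
set_option linter.unusedSectionVars false

namespace Cfsg.Agent.Lib.CyclicBlocks.Family

open MonoidAlgebra Cfsg.Agent.Lib.BrauerMap.Basic
open Cfsg.Agent.Lib.BrauerPairs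
open Cfsg.Agent.Lib.BrauerPairs.Center Cfsg.Agent.Lib.BrauerPairs.Trunc
open Cfsg.Agent.Lib.BrauerPairs.Conj Cfsg.Agent.Lib.BrauerPairs.Pairs
open Cfsg.Agent.Lib.BrauerPairs.Transport Cfsg.Agent.Lib.BrauerPairs.Maximal
open Cfsg.Agent.Lib.BrauerPairs.Bridge Cfsg.Agent.Lib.BrauerPairs.Local
open Cfsg.Agent.Lib.CyclicBlocks.Local Cfsg.Agent.Lib.CyclicBlocks.Chars
open Cfsg.Agent.Lib.Blocks.Contrib
open Cfsg.Agent.Lib.Characters.Basic

universe u

attribute [local instance] Ideal.Quotient.field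

variable {M : Ideal Cfsg.AlgInt} [M.IsMaximal] {G : Type u} [Group G] [Finite G]
  {p : ℕ} [Fact p.Prime] [CharP (Res M) p] {ψ : Blk (Res M) G} {P : Subgroup G}
  {c : Blk (Res M) (Subgroup.centralizer (P : Set G))} {z : G}

local notation "C[" P "]" => Subgroup.centralizer ((P : Subgroup G) : Set G)

theorem cj_congr (hc : Cyc p ψ P c z) {x y : G} (hx : x ∈ stab (az hc)) (hy : y ∈ stab (az hc))
    (h : x = y) (ξ : Cfsg.IrrCharacter C[Subgroup.zpowers z]) : cj hc hx ξ = cj hc hy ξ := by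
  subst h
  rfl

theorem cj_mul (hc : Cyc p ψ P c z) {x y : G} (hx : x ∈ stab (az hc)) (hy : y ∈ stab (az hc))
    (ξ : Cfsg.IrrCharacter C[Subgroup.zpowers z]) :
    cj hc (mul_mem hx hy) ξ = cj hc hx (cj hc hy ξ) := by
  refine Subtype.ext (funext fun s => ?_)
  rw [cj_apply, cj_apply, cj_apply]
  refine congrArg (ξ : C[Subgroup.zpowers z] → ℂ) (Subtype.ext ?_)
  show (x * y)⁻¹ * (s : G) * (x * y) = y⁻¹ * (x⁻¹ * (s : G) * x) * y
  group

theorem cj_eq_self_of_mem (hc : Cyc p ψ P c z) {x : G} (hx : x ∈ stab (az hc))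
    (hxC : x ∈ C[Subgroup.zpowers z]) (ξ : Cfsg.IrrCharacter C[Subgroup.zpowers z]) :
    cj hc hx ξ = ξ := by
  refine Subtype.ext (funext fun s => ?_)
  rw [cj_apply]
  have h := isClassFunction_irr ξ s (⟨x, hxC⟩ : C[Subgroup.zpowers z])⁻¹
  rw [inv_inv] at h
  refine Eq.trans (congrArg (ξ : C[Subgroup.zpowers z] → ℂ) (Subtype.ext ?_)) h
  show x⁻¹ * (s : G) * x = _
  simp

/-- The data of the orbits: a generator, the fixed character and the representatives. -/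
structure Orbits (hc : Cyc p ψ P c z) (h : G) (hh : h ∈ stab (az hc))
    (ξ₀ : Cfsg.IrrCharacter C[Subgroup.zpowers z])
    (Q : Finset (Cfsg.IrrCharacter C[Subgroup.zpowers z])) : Prop where
  cover : ∀ x ∈ stab (az hc), ∃ i < eIdx hc, (h ^ i)⁻¹ * x ∈ C[Subgroup.zpowers z]
  pow_mem_iff : ∀ i : ℕ, h ^ i ∈ C[Subgroup.zpowers z] ↔ eIdx hc ∣ i
  mem₀ : ξ₀ ∈ toSet (bz hc)
  fixed : ∀ i : ℕ, cj hc (pow_mem hh i) ξ₀ = ξ₀
  subset : ∀ q ∈ Q, q ∈ toSet (bz hc)
  notMem₀ : ξ₀ ∉ Q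
  unique : ∀ q ∈ Q, ∀ q' ∈ Q, ∀ i < eIdx hc, cj hc (pow_mem hh i) q = q' → i = 0 ∧ q = q'
  ne₀ : ∀ q ∈ Q, ∀ i : ℕ, cj hc (pow_mem hh i) q ≠ ξ₀
  card : eIdx hc * Q.card + 1 = Nat.card P

theorem exists_orbits_of (hM : Cfsg.IsPModular p M) (hc : Cyc p ψ P c z)
    (pick : Cfsg.IrrCharacter C[Subgroup.zpowers z]) (hpick : pick ∈ toSet (bz hc))
    (hstable : ∀ x (hx : x ∈ stab (az hc)), cj hc hx pick = pick) :
    ∃ (h : G) (hh : h ∈ stab (az hc))
      (Q : Finset (Cfsg.IrrCharacter C[Subgroup.zpowers z])), Orbits hc h hh pick Q ∧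
      h ∈ stab (⟨P, c⟩ : Idx (Res M) G) := by
  classical
  obtain ⟨h, hh, hhP, hcover, hiff⟩ := hc.exists_gen hM
  have hepos := hc.eIdx_pos hM
  set e := eIdx hc with he
  set σ : ℕ → Cfsg.IrrCharacter C[Subgroup.zpowers z] → Cfsg.IrrCharacter C[Subgroup.zpowers z] :=
    fun i => cj hc (pow_mem hh i) with hσ
  have hadd : ∀ i j ξ, σ (i + j) ξ = σ i (σ j ξ) := fun i j ξ => by
    rw [hσ]
    exact (cj_congr hc _ (mul_mem (pow_mem hh i) (pow_mem hh j)) (pow_add h i j) ξ).trans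
      (cj_mul hc (pow_mem hh i) (pow_mem hh j) ξ)
  have hid : ∀ i, e ∣ i → ∀ ξ, σ i ξ = ξ := fun i hi ξ =>
    cj_eq_self_of_mem hc _ ((hiff i).mpr hi) ξ
  have hmod : ∀ i ξ, σ (i % e) ξ = σ i ξ := fun i ξ => by
    conv_rhs => rw [← Nat.mod_add_div i e, hadd, hid _ (dvd_mul_right e _)]
  have hmem : ∀ i ξ, ξ ∈ toSet (bz hc) → σ i ξ ∈ toSet (bz hc) := fun i ξ hξ => cj_mem hc _ hξ
  -- the fixed character
  obtain ⟨ξ₀, rfl⟩ : ∃ ξ₀, ξ₀ = pick := ⟨pick, rfl⟩
  have hξ₀ := hpick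
  have hfix₁ : σ 1 ξ₀ = ξ₀ := hstable _ _
  have hfix : ∀ i, σ i ξ₀ = ξ₀ := fun i => by
    induction i with
    | zero => exact hid 0 (dvd_zero e) ξ₀
    | succ i ih => rw [hadd, hfix₁, ih]
  have honly : ∀ i, ¬ e ∣ i → ∀ ξ ∈ toSet (bz hc), σ i ξ = ξ → ξ = ξ₀ := fun i hi ξ hξ h' =>
    (card_fixed hM hc (pow_mem hh i) (fun hmem => hi ((hiff i).mp hmem))).unique ⟨hξ, h'⟩
      ⟨hξ₀, hfix i⟩
  -- the orbits
  let q : Setoid (Cfsg.IrrCharacter C[Subgroup.zpowers z]) :=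
    { r := fun ξ η => ∃ i, σ i ξ = η
      iseqv := ⟨fun ξ => ⟨0, hid 0 (dvd_zero e) ξ⟩, fun {ξ η} ⟨i, hi⟩ => ⟨(e - 1) * i, by
          rw [← hi, ← hadd]
          exact hid _ ⟨i, by rw [← Nat.succ_mul, Nat.succ_eq_add_one, Nat.sub_add_cancel hepos]⟩ _⟩,
        fun {ξ η θ} ⟨i, hi⟩ ⟨j, hj⟩ => ⟨j + i, by rw [hadd, hi, hj]⟩⟩ }
  let r : Cfsg.IrrCharacter C[Subgroup.zpowers z] → Cfsg.IrrCharacter C[Subgroup.zpowers z] :=
    fun ξ => (Quotient.mk q ξ).out
  have hr : ∀ ξ, ∃ i, σ i (r ξ) = ξ := fun ξ => Quotient.mk_out (s := q) ξ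
  have hne : ∀ ξ ∈ toSet (bz hc), ξ ≠ ξ₀ → r ξ ∈ toSet (bz hc) ∧ r ξ ≠ ξ₀ := fun ξ hξ hne => by
    obtain ⟨i, hi⟩ := q.iseqv.symm (Quotient.mk_out (s := q) ξ)
    refine ⟨by show (Quotient.mk q ξ).out ∈ _; rw [← hi]; exact hmem i ξ hξ, fun h0 => hne ?_⟩
    obtain ⟨j, hj⟩ := hr ξ
    rw [h0, hfix j] at hj
    exact hj.symm
  set S := (bset (toSet (bz hc))).erase ξ₀ with hS
  set Q := S.image r with hQ
  have hQmem : ∀ {x}, x ∈ Q → x ∈ toSet (bz hc) ∧ x ≠ ξ₀ := by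
    intro x hx
    obtain ⟨ξ, hξ, rfl⟩ := Finset.mem_image.mp hx
    exact hne ξ (mem_bset.mp (Finset.mem_of_mem_erase hξ)) (Finset.ne_of_mem_erase hξ)
  have huniq : ∀ a ∈ Q, ∀ b ∈ Q, ∀ i, σ i a = b → e ∣ i ∧ a = b := by
    intro a ha b hb i hab
    obtain ⟨ξ, -, hξ⟩ := Finset.mem_image.mp ha
    obtain ⟨η, -, hη⟩ := Finset.mem_image.mp hb
    have heq : a = b := by
      rw [← hξ, ← hη]
      refine congrArg Quotient.out (Quotient.sound (s := q) ?_)
      exact q.iseqv.trans (q.iseqv.symm (Quotient.mk_out (s := q) ξ))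
        (q.iseqv.trans ⟨i, show σ i (r ξ) = r η by rw [hξ, hη]; exact hab⟩
          (Quotient.mk_out (s := q) η))
    exact ⟨by_contra fun hi => (hQmem ha).2 (honly i hi a (hQmem ha).1 (hab.trans heq.symm)), heq⟩
  refine ⟨h, hh, Q, ⟨hcover, hiff, hξ₀, hfix, fun x hx => (hQmem hx).1,
    fun h0 => (hQmem h0).2 rfl, fun a ha b hb i hi hab => ?_, fun a ha i h0 => ?_, ?_⟩, hhP⟩
  · obtain ⟨hd, heq⟩ := huniq a ha b hb i hab
    exact ⟨Nat.eq_zero_of_dvd_of_lt hd hi, heq⟩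
  · refine (hQmem ha).2 ?_
    have h1 : σ ((e - 1) * i) (σ i a) = a := by
      rw [← hadd]
      exact hid _ ⟨i, by rw [← Nat.succ_mul, Nat.succ_eq_add_one, Nat.sub_add_cancel hepos]⟩ _
    rw [show σ i a = ξ₀ from h0, hfix] at h1
    exact h1.symm
  · have hbij : ((Finset.range e) ×ˢ Q).card = S.card := by
      refine Finset.card_nbij' (fun x => σ x.1 x.2) (fun ξ => ((hr ξ).choose % e, r ξ)) ?_ ?_ ?_ ?_
      · rintro ⟨i, a⟩ hx
        obtain ⟨-, ha⟩ := Finset.mem_product.mp hx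
        dsimp only at ha ⊢
        refine Finset.mem_erase.mpr ⟨fun h0 => (hQmem ha).2 ?_, mem_bset.mpr (hmem i a (hQmem ha).1)⟩
        have h1 : σ ((e - 1) * i) (σ i a) = a := by
          rw [← hadd]
          exact hid _ ⟨i, by rw [← Nat.succ_mul, Nat.succ_eq_add_one, Nat.sub_add_cancel hepos]⟩ _
        rw [h0, hfix] at h1
        exact h1.symm
      · intro ξ hξ
        exact Finset.mem_product.mpr ⟨Finset.mem_range.mpr (Nat.mod_lt _ hepos),
          Finset.mem_image_of_mem r hξ⟩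
      · rintro ⟨i, a⟩ hx
        obtain ⟨hi, ha⟩ := Finset.mem_product.mp hx
        dsimp only at hi ha ⊢
        obtain ⟨ξ, -, hξ⟩ := Finset.mem_image.mp ha
        have hra : r (σ i a) = a := by
          rw [← hξ]
          exact congrArg Quotient.out (Quotient.sound (s := q)
            (q.iseqv.trans (q.iseqv.symm ⟨i, rfl⟩) (Quotient.mk_out (s := q) ξ)))
        have hsp := (hr (σ i a)).choose_spec
        refine Prod.ext ?_ hra
        show (hr (σ i a)).choose % e = i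
        generalize (hr (σ i a)).choose = jj at hsp ⊢
        rw [hra] at hsp
        have hlt := Finset.mem_range.mp hi
        set j := jj % e with hj
        have hja : σ j a = σ i a := by rw [hj, hmod]; exact hsp
        have h2 : σ (j + (e - i)) a = a := by
          rw [Nat.add_comm, hadd, hja, ← hadd, Nat.sub_add_cancel hlt.le, hid e dvd_rfl]
        obtain ⟨k, hk⟩ := (huniq a ha a ha _ h2).1
        have hjlt : j < e := Nat.mod_lt _ hepos
        have hk1 : k = 1 := by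
          have h3 : 0 < e * k := by omega
          have h4 : e * k < e * 2 := by omega
          have := Nat.pos_of_mul_pos_left h3
          have := Nat.lt_of_mul_lt_mul_left h4
          omega
        rw [hk1, mul_one] at hk
        omega
      · intro ξ hξ
        show σ ((hr ξ).choose % e) (r ξ) = ξ
        rw [hmod]
        exact (hr ξ).choose_spec
    rw [Finset.card_product, Finset.card_range] at hbij
    rw [hbij, hS, Finset.card_erase_add_one (mem_bset.mpr hξ₀), ← (hc.rank_card hM).2,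
      Nat.card_coe_set_eq, Set.ncard_eq_toFinset_card _ (Set.toFinite _)]
    exact congrArg Finset.card (Finset.ext fun χ => by simp [mem_bset])

/-- The action only depends on the class modulo the centralizer. -/
theorem cj_eq_of_cover (hc : Cyc p ψ P c z) {h x : G} (hh : h ∈ stab (az hc))
    (hx : x ∈ stab (az hc)) {i : ℕ} (hi : (h ^ i)⁻¹ * x ∈ C[Subgroup.zpowers z])
    (ξ : Cfsg.IrrCharacter C[Subgroup.zpowers z]) :
    cj hc hx ξ = cj hc (pow_mem hh i) ξ := by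
  have hw : (h ^ i)⁻¹ * x ∈ stab (az hc) := mul_mem (inv_mem (pow_mem hh i)) hx
  rw [cj_congr hc hx (mul_mem (pow_mem hh i) hw) (mul_inv_cancel_left _ _).symm,
    cj_mul hc (pow_mem hh i) hw, cj_eq_self_of_mem hc hw hi]

/-- A character of the block fixed by the whole stabilizer. -/
theorem exists_stable (hM : Cfsg.IsPModular p M) (hc : Cyc p ψ P c z) :
    ∃ ξ₀ ∈ toSet (bz hc), ∀ x (hx : x ∈ stab (az hc)), cj hc hx ξ₀ = ξ₀ := by
  obtain ⟨h, hh, -, hcover, -⟩ := hc.exists_gen hM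
  obtain ⟨ξ₀, hξ₀, hfix⟩ : ∃ ξ₀, ξ₀ ∈ toSet (bz hc) ∧ cj hc hh ξ₀ = ξ₀ := by
    by_cases h1 : h ∈ C[Subgroup.zpowers z]
    · obtain ⟨ξ₀, hξ₀⟩ := exists_mem (bz hc)
      exact ⟨ξ₀, hξ₀, cj_eq_self_of_mem hc _ h1 ξ₀⟩
    · obtain ⟨ξ₀, hξ₀, -⟩ := card_fixed hM hc hh h1
      exact ⟨ξ₀, hξ₀.1, hξ₀.2⟩
  refine ⟨ξ₀, hξ₀, fun x hx => ?_⟩
  obtain ⟨i, -, hi⟩ := hcover x hx
  rw [cj_eq_of_cover hc hh hx hi]
  clear hi
  induction i with
  | zero => exact cj_eq_self_of_mem hc _ (by rw [pow_zero]; exact one_mem _) ξ₀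
  | succ i ih => rw [cj_congr hc _ (mul_mem (pow_mem hh i) hh) (pow_succ h i),
      cj_mul hc (pow_mem hh i) hh, hfix, ih]

/-- A suitable choice of orbits. -/
theorem exists_orbits (hM : Cfsg.IsPModular p M) (hc : Cyc p ψ P c z) :
    ∃ (h : G) (hh : h ∈ stab (az hc)) (ξ₀ : Cfsg.IrrCharacter C[Subgroup.zpowers z])
      (Q : Finset (Cfsg.IrrCharacter C[Subgroup.zpowers z])), Orbits hc h hh ξ₀ Q := by
  obtain ⟨ξ₀, hξ₀, hst⟩ := exists_stable hM hc
  obtain ⟨h, hh, Q, hO, -⟩ := exists_orbits_of hM hc ξ₀ hξ₀ hst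
  exact ⟨h, hh, ξ₀, Q, hO⟩

/-- Every other character of the block is a conjugate of a representative. -/
theorem Orbits.exists_rep {hc : Cyc p ψ P c z} {h : G} {hh : h ∈ stab (az hc)}
    {ξ₀ : Cfsg.IrrCharacter C[Subgroup.zpowers z]}
    {Q : Finset (Cfsg.IrrCharacter C[Subgroup.zpowers z])} (hO : Orbits hc h hh ξ₀ Q)
    (hM : Cfsg.IsPModular p M) {ξ : Cfsg.IrrCharacter C[Subgroup.zpowers z]}
    (hξ : ξ ∈ toSet (bz hc)) (hne : ξ ≠ ξ₀) :
    ∃ i < eIdx hc, ∃ q ∈ Q, cj hc (pow_mem hh i) q = ξ := by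
  classical
  set σ : ℕ × Cfsg.IrrCharacter C[Subgroup.zpowers z] → Cfsg.IrrCharacter C[Subgroup.zpowers z] :=
    fun x => cj hc (pow_mem hh x.1) x.2 with hσ
  have key : (Finset.range (eIdx hc) ×ˢ Q).image σ = (bset (toSet (bz hc))).erase ξ₀ := by
    refine Finset.eq_of_subset_of_card_le (fun x hx => ?_) ?_
    · obtain ⟨⟨i, q⟩, hiq, rfl⟩ := Finset.mem_image.mp hx
      obtain ⟨-, hq⟩ := Finset.mem_product.mp hiq
      exact Finset.mem_erase.mpr ⟨hO.ne₀ q hq i, mem_bset.mpr (cj_mem hc _ (hO.subset q hq))⟩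
    · rw [Finset.card_image_of_injOn, Finset.card_product, Finset.card_range,
        Finset.card_erase_of_mem (mem_bset.mpr hO.mem₀)]
      · have h1 := (hc.rank_card hM).2
        rw [Nat.card_coe_set_eq, Set.ncard_eq_toFinset_card _ (Set.toFinite _),
          show (Set.toFinite (toSet (bz hc))).toFinset = bset (toSet (bz hc)) from
            Finset.ext fun χ => by simp [mem_bset], ← hO.card] at h1
        omega
      · rintro ⟨i, q⟩ hiq ⟨j, q'⟩ hjq e
        obtain ⟨hi, hq⟩ := Finset.mem_product.mp hiq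
        obtain ⟨hj, hq'⟩ := Finset.mem_product.mp hjq
        have hinj : ∀ i : ℕ, Function.Injective (cj hc (pow_mem hh i)) := fun i a b hab =>
          Subtype.ext (funext fun s => by
            simpa [cj_apply] using congrArg (fun ξ : Cfsg.IrrCharacter C[Subgroup.zpowers z] =>
              (ξ : C[Subgroup.zpowers z] → ℂ) (conjEquiv (h ^ i) _ _
                (stab_conj_iff hc (pow_mem hh i)) s)) hab)
        have aux : ∀ {i j : ℕ} {q q' : Cfsg.IrrCharacter C[Subgroup.zpowers z]}, q ∈ Q → q' ∈ Q →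
            i ≤ j → j < eIdx hc → cj hc (pow_mem hh i) q = cj hc (pow_mem hh j) q' →
              i = j ∧ q = q' := by
          intro i j q q' hq hq' hij hj e
          obtain ⟨d, rfl⟩ := Nat.exists_eq_add_of_le hij
          have e2 : cj hc (pow_mem hh i) (cj hc (pow_mem hh d) q') = cj hc (pow_mem hh i) q := by
            rw [← cj_mul, e]
            exact cj_congr hc _ _ (pow_add h i d).symm q'
          have e' : cj hc (pow_mem hh d) q' = q := hinj i e2
          obtain ⟨rfl, rfl⟩ := hO.unique q' hq' q hq d (by omega) e'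
          exact ⟨rfl, rfl⟩
        rcases le_total i j with hle | hle
        · obtain ⟨rfl, rfl⟩ := aux hq hq' hle (Finset.mem_range.mp hj) e
          rfl
        · obtain ⟨rfl, rfl⟩ := aux hq' hq hle (Finset.mem_range.mp hi) e.symm
          rfl
  obtain ⟨⟨i, q⟩, hiq, e⟩ := Finset.mem_image.mp
    (key.symm ▸ Finset.mem_erase.mpr ⟨hne, mem_bset.mpr hξ⟩ :
      ξ ∈ (Finset.range (eIdx hc) ×ˢ Q).image σ)
  obtain ⟨hi, hq⟩ := Finset.mem_product.mp hiq
  exact ⟨i, Finset.mem_range.mp hi, q, hq, e⟩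

end Cfsg.Agent.Lib.CyclicBlocks.Family
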