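import Cfsg.Agent.Lib.CyclicBlocks.Theorem

/-!
# Consequences of the link between the exceptional characters and the local block
-/

set_option autoImplicit false
set_option linter.style.haveILetI false
set_option linter.unusedSectionVars false

namespace Cfsg.Agent.Lib.CyclicBlocks.Linked

open Cfsg.Agent.Lib.BrauerPairs
open Cfsg.Agent.Lib.BrauerPairs.Center Cfsg.Agent.Lib.BrauerPairs.Pairs
open Cfsg.Agent.Lib.BrauerPairs.Conj Cfsg.Agent.Lib.BrauerPairs.Bridge
open Cfsg.Agent.Lib.BrauerPairs.Local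
open Cfsg.Agent.Lib.CyclicBlocks.Local Cfsg.Agent.Lib.CyclicBlocks.Main
open Cfsg.Agent.Lib.CyclicBlocks.Chars Cfsg.Agent.Lib.CyclicBlocks.Family
open Cfsg.Agent.Lib.CyclicBlocks.Induced
open Cfsg.Agent.Lib.Blocks.Contrib
open Cfsg.Agent.Lib.Characters.Basic
open Cfsg.Agent.Lib.Induced.Basic

universe u

attribute [local instance] Ideal.Quotient.field

variable {M : Ideal Cfsg.AlgInt} [M.IsMaximal] {G : Type u} [Group G] [Finite G]
  {p : ℕ} [Fact p.Prime] [CharP (Res M) p] {ψ : Blk (Res M) G} {P : Subgroup G}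
  {c : Blk (Res M) (Subgroup.centralizer (P : Set G))} {z : G}

local notation "C[" P "]" => Subgroup.centralizer ((P : Subgroup G) : Set G)

variable [Fintype G]

/-- Conjugate characters induce the same function. -/
theorem indFun_cj (hc : Cyc p ψ P c z) {x : G} (hx : x ∈ stab (az hc))
    (ξ : Cfsg.IrrCharacter C[Subgroup.zpowers z]) :
    Cfsg.indFun C[Subgroup.zpowers z] (cj hc hx ξ : C[Subgroup.zpowers z] → ℂ) =
      Cfsg.indFun C[Subgroup.zpowers z] (ξ : C[Subgroup.zpowers z] → ℂ) := by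
  funext g
  unfold Cfsg.indFun
  congr 1
  refine Fintype.sum_equiv (Equiv.mulRight x) _ _ fun y => ?_
  show _ = Cfsg.extendByZero C[Subgroup.zpowers z] (ξ : C[Subgroup.zpowers z] → ℂ)
    ((y * x)⁻¹ * g * (y * x))
  have e : (y * x)⁻¹ * g * (y * x) = x⁻¹ * (y⁻¹ * g * y) * x := by group
  rw [e]
  by_cases h : y⁻¹ * g * y ∈ C[Subgroup.zpowers z]
  · rw [extendByZero_of_mem _ _ h]
    exact (Induced.extendByZero_conj C[Subgroup.zpowers z] (stab_conj_iff hc hx)
      (ξ : C[Subgroup.zpowers z] → ℂ) ⟨_, h⟩).symm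
  · rw [extendByZero_of_not_mem _ _ h, extendByZero_of_not_mem]
    intro h'
    exact h (by simpa [mul_assoc] using (stab_conj_iff hc hx _).mp h')

variable {hc : Cyc p ψ P c z} {h : G} {hh : h ∈ stab (az hc)}
  {ξ₀ : Cfsg.IrrCharacter (Subgroup.centralizer (Subgroup.zpowers z : Set G))}
  {Q : Finset (Cfsg.IrrCharacter (Subgroup.centralizer (Subgroup.zpowers z : Set G)))}

/-- Every difference induces like one of the representatives. -/
theorem exists_ind_dif (hM : Cfsg.IsPModular p M) (hO : Orbits hc h hh ξ₀ Q)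
    {ξ : Cfsg.IrrCharacter C[Subgroup.zpowers z]} (hξ : ξ ∈ toSet (bz hc)) (hne : ξ ≠ ξ₀) :
    ∃ q : Q, Cfsg.indFun C[Subgroup.zpowers z] (dif ξ ξ₀) =
      Cfsg.indFun C[Subgroup.zpowers z] (dif (q : _) ξ₀) := by
  obtain ⟨i, -, q, hq, rfl⟩ := hO.exists_rep hM hξ hne
  refine ⟨⟨q, hq⟩, ?_⟩
  rw [dif, dif, indFun_sub, indFun_sub, indFun_cj]

variable {X Y : Finset (Cfsg.IrrCharacter G)} {δ : Cfsg.IrrCharacter G → ℤ} {δ₀ : ℤ}
  {B : Set (Cfsg.IrrCharacter G)} {n e : ℕ} {y : Q → Cfsg.IrrCharacter G}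

/-- The inner product with a nonexceptional character. -/
theorem classInner_X (hM : Cfsg.IsPModular p M) (hO : Orbits hc h hh ξ₀ Q)
    (hs : CyclicStruct p B n e X Y δ δ₀) (hY : ∀ η, η ∈ Y ↔ ∃ q, y q = η)
    (hlink : ∀ (q : Q) (g : G), Cfsg.indFun C[Subgroup.zpowers z] (dif (q : _) ξ₀) g =
      (δ₀ : ℂ) * (y q : G → ℂ) g + ∑ χ ∈ X, (δ χ : ℂ) * (χ : G → ℂ) g)
    {χ : Cfsg.IrrCharacter G} (hχ : χ ∈ X)
    {ξ : Cfsg.IrrCharacter C[Subgroup.zpowers z]} (hξ : ξ ∈ toSet (bz hc)) (hne : ξ ≠ ξ₀) :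
    Cfsg.classInner (Cfsg.indFun C[Subgroup.zpowers z] (dif ξ ξ₀)) (χ : G → ℂ) = (δ χ : ℂ) := by
  classical
  obtain ⟨q, hq⟩ := exists_ind_dif hM hO hξ hne
  rw [hq, show Cfsg.indFun C[Subgroup.zpowers z] (dif (q : _) ξ₀) =
    (δ₀ : ℂ) • (y q : G → ℂ) + ∑ χ' ∈ X, (δ χ' : ℂ) • (χ' : G → ℂ) from
      funext fun g => by rw [hlink q g]; simp [Finset.sum_apply]]
  have hne' : y q ≠ χ := fun e =>
    Finset.disjoint_left.mp hs.disjoint hχ (e ▸ (hY _).mpr ⟨_, rfl⟩)
  simp only [classInner_add_left, classInner_smul_left, classInner_irr_of_ne hne', mul_zero,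
    zero_add, classInner_sum_left, classInner_irr, mul_ite, mul_one, Finset.sum_ite_eq', hχ,
    if_true]

/-- The inner product with an exceptional character. -/
theorem classInner_Y [DecidableEq Q] (hs : CyclicStruct p B n e X Y δ δ₀)
    (hy : Function.Injective y) (hY : ∀ η, η ∈ Y ↔ ∃ q, y q = η)
    (hlink : ∀ (q : Q) (g : G), Cfsg.indFun C[Subgroup.zpowers z] (dif (q : _) ξ₀) g =
      (δ₀ : ℂ) * (y q : G → ℂ) g + ∑ χ ∈ X, (δ χ : ℂ) * (χ : G → ℂ) g) (q q' : Q) :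
    Cfsg.classInner (Cfsg.indFun C[Subgroup.zpowers z] (dif (q : _) ξ₀)) (y q' : G → ℂ) =
      if q = q' then (δ₀ : ℂ) else 0 := by
  classical
  rw [show Cfsg.indFun C[Subgroup.zpowers z] (dif (q : _) ξ₀) =
    (δ₀ : ℂ) • (y q : G → ℂ) + ∑ χ' ∈ X, (δ χ' : ℂ) • (χ' : G → ℂ) from
      funext fun g => by rw [hlink q g]; simp [Finset.sum_apply]]
  have hne' : ∀ χ ∈ X, χ ≠ y q' := fun χ hχ e =>
    Finset.disjoint_left.mp hs.disjoint hχ (e ▸ (hY _).mpr ⟨_, rfl⟩)
  simp only [classInner_add_left, classInner_smul_left, classInner_sum_left]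
  rw [Finset.sum_eq_zero fun χ hχ => by rw [classInner_irr_of_ne (hne' χ hχ), mul_zero], add_zero]
  split_ifs with hq
  · rw [hq, classInner_self_irr, mul_one]
  · rw [classInner_irr_of_ne fun e => hq (hy e), mul_zero]

/-- The regular parts of the nonexceptional characters are independent. -/
theorem linearIndependent_X (hs : CyclicStruct p B n e X Y δ δ₀) :
    LinearIndependent ℂ (fun χ : X => Cfsg.pRegularPart p ((χ : Cfsg.IrrCharacter G) : G → ℂ)) := by
  classical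
  rw [linearIndependent_iff_card_le_finrank_span, Fintype.card_coe, hs.cardX, ← hs.rank,
    Cfsg.blockRank, Set.finrank]
  refine Submodule.finrank_mono (Submodule.span_le.mpr ?_)
  rintro _ ⟨χ, hχ, rfl⟩
  rcases (hs.mem_iff χ).mp hχ with h1 | h1
  · exact Submodule.subset_span ⟨⟨χ, h1⟩, rfl⟩
  have h2 : Cfsg.pRegularPart p (χ : G → ℂ) = ∑ χ' : X, (-(δ₀ : ℂ) * (δ χ' : ℂ)) •
      Cfsg.pRegularPart p ((χ' : Cfsg.IrrCharacter G) : G → ℂ) := by
    funext g
    rw [Finset.sum_apply]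
    by_cases hg : p ∣ orderOf g
    · simp [pRegularPart_apply, hg]
    · simp only [Pi.smul_apply, smul_eq_mul, pRegularPart_apply, if_neg hg, mul_assoc,
        ← Finset.mul_sum]
      rw [Finset.sum_coe_sort X fun χ' => (δ χ' : ℂ) * (χ' : G → ℂ) g]
      have h3 := hs.relation χ h1 g hg
      have h4 : (δ₀ : ℂ) * δ₀ = 1 := by rcases hs.sign₀ with h | h <;> simp [h]
      linear_combination (δ₀ : ℂ) * h3 - (χ : G → ℂ) g * h4
  show Cfsg.pRegularPart p (χ : G → ℂ) ∈ _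
  rw [h2]
  exact Submodule.sum_mem _ fun χ' _ =>
    Submodule.smul_mem _ _ (Submodule.subset_span ⟨χ', rfl⟩)

end Cfsg.Agent.Lib.CyclicBlocks.Linked
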