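import Cfsg.Agent.Lib.CyclicBlocks.Isometry
import Cfsg.Agent.Lib.CyclicBlocks.Linked

/-!
# The sides of a comparison from the local data of a block with cyclic defect group
-/

set_option autoImplicit false
set_option linter.style.haveILetI false
set_option linter.unusedSectionVars false

namespace Cfsg.Agent.Lib.CyclicBlocks.Sides

open Cfsg.Agent.Lib.BrauerPairs
open Cfsg.Agent.Lib.BrauerPairs.Center Cfsg.Agent.Lib.BrauerPairs.Pairs
open Cfsg.Agent.Lib.BrauerPairs.Bridge Cfsg.Agent.Lib.BrauerPairs.Local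
open Cfsg.Agent.Lib.CyclicBlocks.Local Cfsg.Agent.Lib.CyclicBlocks.Main
open Cfsg.Agent.Lib.CyclicBlocks.Chars Cfsg.Agent.Lib.CyclicBlocks.Family
open Cfsg.Agent.Lib.CyclicBlocks.Induced
open Cfsg.Agent.Lib.Blocks.Contrib
open Cfsg.Agent.Lib.Characters.Basic
open Cfsg.Agent.Lib.Induced.Basic

universe u w w'

attribute [local instance] Ideal.Quotient.field

variable {M : Ideal Cfsg.AlgInt} [M.IsMaximal] {G : Type u} [Group G] [Finite G]
  {p : ℕ} [Fact p.Prime] [CharP (Res M) p] {ψ : Blk (Res M) G} {P : Subgroup G}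
  {c : Blk (Res M) (Subgroup.centralizer (P : Set G))} {z : G}

local notation "C[" P "]" => Subgroup.centralizer ((P : Subgroup G) : Set G)

/-- The characters of the local block sum to zero at singular elements. -/
theorem sum_bz_singular (hM : Cfsg.IsPModular p M) (hc : Cyc p ψ P c z)
    {s : C[Subgroup.zpowers z]} (hs : p ∣ orderOf s) :
    ∑ ξ ∈ bset (toSet (bz hc)), (ξ : C[Subgroup.zpowers z] → ℂ) s = 0 := by
  classical
  haveI := Fintype.ofFinite C[Subgroup.zpowers z]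
  obtain ⟨u, hu⟩ := Blocks.exists_isPPart (Fact.out : p.Prime) s
  have h1 : ¬ p ∣ orderOf (1 : C[Subgroup.zpowers z]) := by
    rw [orderOf_one]; exact (Fact.out : p.Prime).not_dvd_one
  have h := Blocks.sum_block_eq_zero hM hu (Blocks.isPPart_one_of_regular h1) (fun e => by
    obtain ⟨t, ht⟩ := isConj_iff.mp e
    exact Blocks.isPPart_ne_one hu hs (conj_eq_one_iff.mp ht)) (isPBlock_toSet (bz hc))
  rw [finsum_mem_bset] at h
  obtain ⟨ξ₁, hξ₁⟩ := exists_mem (bz hc)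
  have hne : (ξ₁ : C[Subgroup.zpowers z] → ℂ) 1 ≠ 0 := by
    rw [BlocksChars5.Basic.apply_one]
    exact Nat.cast_ne_zero.mpr (BlocksChars5.Basic.degree_pos ξ₁).ne'
  refine (mul_eq_zero.mp ?_).resolve_right hne
  rw [Finset.sum_mul]
  refine Eq.trans (Finset.sum_congr rfl fun ξ hξ => ?_) h
  rw [inv_one, values_eq hM hc hξ₁ (mem_bset.mp hξ) h1]

/-- The stabilizer of the pair at `z` has `e` cosets of the centralizer. -/
theorem card_stab (hc : Cyc p ψ P c z) {h : G} (hh : h ∈ stab (az hc))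
    (hcover : ∀ x ∈ stab (az hc), ∃ i < eIdx hc, (h ^ i)⁻¹ * x ∈ C[Subgroup.zpowers z])
    (hiff : ∀ i : ℕ, h ^ i ∈ C[Subgroup.zpowers z] ↔ eIdx hc ∣ i) :
    Nat.card (stab (az hc)) = eIdx hc * Nat.card C[Subgroup.zpowers z] := by
  let f : Fin (eIdx hc) × C[Subgroup.zpowers z] → stab (az hc) := fun q =>
    ⟨h ^ (q.1 : ℕ) * (q.2 : G), mul_mem (pow_mem hh _) (centralizer_le_stab (az hc) q.2.2)⟩
  have hsame : ∀ (i j : ℕ) (w w' : C[Subgroup.zpowers z]), i < eIdx hc → j ≤ i →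
      h ^ i * (w : G) = h ^ j * w' → i = j := by
    intro i j w w' hi hji e
    have h1 : h ^ (i - j) ∈ C[Subgroup.zpowers z] := by
      have e' : h ^ (i - j) * (w : G) = w' := by
        refine mul_left_cancel (a := h ^ j) ?_
        rw [← mul_assoc, ← pow_add, Nat.add_sub_cancel' hji]
        exact e
      rw [show h ^ (i - j) = (w' : G) * (w : G)⁻¹ by rw [← e', mul_inv_cancel_right]]
      exact mul_mem w'.2 (inv_mem w.2)
    have := Nat.eq_zero_of_dvd_of_lt ((hiff _).mp h1) (by omega)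
    omega
  have hbij : Function.Bijective f := by
    refine ⟨fun a b e => ?_, fun x => ?_⟩
    · have e' : h ^ (a.1 : ℕ) * (a.2 : G) = h ^ (b.1 : ℕ) * b.2 := congrArg Subtype.val e
      have h1 : (a.1 : ℕ) = b.1 := (le_total (b.1 : ℕ) a.1).elim
        (fun hle => hsame _ _ a.2 b.2 a.1.2 hle e')
        fun hle => (hsame _ _ b.2 a.2 b.1.2 hle e'.symm).symm
      refine Prod.ext (Fin.ext h1) (Subtype.ext ?_)
      rw [h1] at e'
      exact mul_left_cancel e'
    · obtain ⟨i, hi, hi'⟩ := hcover x x.2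
      exact ⟨(⟨i, hi⟩, ⟨_, hi'⟩), Subtype.ext (mul_inv_cancel_left _ _)⟩
  rw [← Nat.card_congr (Equiv.ofBijective f hbij), Nat.card_prod, Nat.card_fin]

variable {hc : Cyc p ψ P c z} {h : G} {hh : h ∈ stab (az hc)}
  {ξ₀ : Cfsg.IrrCharacter (Subgroup.centralizer (Subgroup.zpowers z : Set G))}
  {Q : Finset (Cfsg.IrrCharacter (Subgroup.centralizer (Subgroup.zpowers z : Set G)))}

/-- The nonfixed characters of the block are the conjugates of the representatives, uniquely. -/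
theorem exists_orbitEquiv (hM : Cfsg.IsPModular p M) (hO : Orbits hc h hh ξ₀ Q) :
    ∃ E : Fin (eIdx hc) × Q ≃ {ξ : toSet (bz hc) // ξ.1 ≠ ξ₀},
      ∀ i q, ((E (i, q)).1 : Cfsg.IrrCharacter C[Subgroup.zpowers z]) =
        cj hc (pow_mem hh i) (q : _) := by
  classical
  haveI := Fintype.ofFinite (toSet (bz hc))
  let f : Fin (eIdx hc) × Q → {ξ : toSet (bz hc) // ξ.1 ≠ ξ₀} := fun x =>
    ⟨⟨cj hc (pow_mem hh x.1) (x.2 : _), cj_mem hc _ (hO.subset _ x.2.2)⟩, hO.ne₀ _ x.2.2 _⟩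
  have hsurj : Function.Surjective f := by
    rintro ⟨⟨ξ, hξ⟩, hne⟩
    obtain ⟨i, hi, q, hq, e⟩ := hO.exists_rep hM hξ hne
    exact ⟨(⟨i, hi⟩, ⟨q, hq⟩), Subtype.ext (Subtype.ext e)⟩
  have hcard : Fintype.card (Fin (eIdx hc) × Q) =
      Fintype.card {ξ : toSet (bz hc) // ξ.1 ≠ ξ₀} := by
    have h1 := (hc.rank_card hM).2
    rw [Nat.card_eq_fintype_card, ← hO.card] at h1
    have h2 : Fintype.card {ξ : toSet (bz hc) // ξ.1 = ξ₀} = 1 :=
      Fintype.card_eq_one_iff.mpr ⟨⟨⟨ξ₀, hO.mem₀⟩, rfl⟩, fun a => Subtype.ext (Subtype.ext a.2)⟩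
    rw [Fintype.card_subtype_compl, h2, h1, Fintype.card_prod, Fintype.card_fin, Fintype.card_coe,
      Nat.add_sub_cancel]
  exact ⟨Equiv.ofBijective f (((Fintype.bijective_iff_surjective_and_card f).mpr ⟨hsurj, hcard⟩)),
    fun i q => rfl⟩

variable [Fintype G] {J : Type w} [Fintype J] {I : Type w'} [Fintype I]

/-- A side from an indexing of the characters of the local block and of the representatives. -/
theorem exists_side (hM : Cfsg.IsPModular p M) (hO : Orbits hc h hh ξ₀ Q)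
    (j₀ : J) (r : J → I) (ξ : J → Cfsg.IrrCharacter C[Subgroup.zpowers z])
    (hbij : Set.BijOn ξ Set.univ (toSet (bz hc))) (hj₀ : ξ j₀ = ξ₀) (qI : I ≃ Q)
    (hr : ∀ j, j ≠ j₀ → ∃ i : ℕ, ξ j = cj hc (pow_mem hh i) (qI (r j) : _)) :
    ∃ X Y δ δ₀ y, Isometry.Side p M (toSet ψ) (Nat.card P) (eIdx hc) j₀ r C[Subgroup.zpowers z] ξ
      X Y δ δ₀ y := by
  classical
  obtain ⟨X, Y, δ, δ₀, hs, y, hy, hY, hlink⟩ := exists_linked hM hc (Rank.le_blockRank hM hc) hO
  refine ⟨X, Y, δ, δ₀, fun i => y (qI i),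
    { block := isPBlock_toSet ψ
      struct := hs
      inj := fun a b e => qI.injective (hy e)
      range := fun η => (hY η).trans ⟨fun ⟨q, hq⟩ => ⟨qI.symm q, by simp [hq]⟩,
        fun ⟨i, hi⟩ => ⟨_, hi⟩⟩
      link := fun j hj g => ?_
      total := fun s hs' => ?_ }⟩
  · obtain ⟨i, hi⟩ := hr j hj
    rw [← hlink (qI (r j)) g, dif, indFun_sub, Pi.sub_apply, hi, hj₀, Linked.indFun_cj]
  · rw [← sum_bz_singular hM hc hs']
    exact Finset.sum_bij (fun j _ => ξ j)
      (fun j _ => mem_bset.mpr (hbij.mapsTo (Set.mem_univ j)))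
      (fun a _ b _ e => hbij.injOn (Set.mem_univ a) (Set.mem_univ b) e)
      (fun η hη => by
        obtain ⟨j, -, hj⟩ := hbij.surjOn (mem_bset.mp hη)
        exact ⟨j, Finset.mem_univ j, hj⟩) fun _ _ => rfl

/-- The fibres of the map to the representatives. -/
theorem exists_map (hM : Cfsg.IsPModular p M) (hO : Orbits hc h hh ξ₀ Q)
    [Fintype (toSet (bz hc))] [DecidableEq (toSet (bz hc))] :
    ∃ r : toSet (bz hc) → Q,
      (∀ j : toSet (bz hc), j ≠ ⟨ξ₀, hO.mem₀⟩ → ∃ i : ℕ,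
        (j : Cfsg.IrrCharacter C[Subgroup.zpowers z]) = cj hc (pow_mem hh i) (r j : _)) ∧
      (∀ F : Q → ℂ, ∑ j ∈ Finset.univ.erase (⟨ξ₀, hO.mem₀⟩ : toSet (bz hc)), F (r j) =
        (eIdx hc : ℂ) * ∑ q, F q) ∧
      Fintype.card (toSet (bz hc)) = eIdx hc * Fintype.card Q + 1 ∧ Nonempty Q := by
  classical
  obtain ⟨E, hE⟩ := exists_orbitEquiv hM hO
  have hn : Fintype.card (toSet (bz hc)) = eIdx hc * Fintype.card Q + 1 := by
    rw [← Nat.card_eq_fintype_card, (hc.rank_card hM).2, Fintype.card_coe, hO.card]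
  have hne : Nonempty Q := by
    haveI : Nontrivial P := (Subgroup.nontrivial_iff_ne_bot P).mpr hc.ne_bot
    have h1 : 1 < Nat.card P := Finite.one_lt_card
    have h2 := hO.card
    obtain ⟨q, hq⟩ : Q.Nonempty := Finset.card_pos.mp (Nat.pos_of_ne_zero fun h0 => by
      rw [h0, mul_zero] at h2
      omega)
    exact ⟨⟨q, hq⟩⟩
  let r : toSet (bz hc) → Q := fun j =>
    if hj : j.1 ≠ ξ₀ then (E.symm ⟨j, hj⟩).2 else Classical.arbitrary Q
  refine ⟨r, fun j hj => ?_, fun F => ?_, hn, hne⟩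
  · have hj' : j.1 ≠ ξ₀ := fun e => hj (Subtype.ext e)
    refine ⟨(E.symm ⟨j, hj'⟩).1, ?_⟩
    simp only [r, dif_pos hj']
    rw [← hE, Prod.mk.eta, Equiv.apply_symm_apply]
  · rw [Finset.sum_bij' (t := (Finset.univ : Finset (Fin (eIdx hc) × Q)))
      (g := fun x => F x.2)
      (fun j hj => E.symm ⟨j, fun e => Finset.ne_of_mem_erase hj (Subtype.ext e)⟩)
      (fun x _ => (E x).1) (fun _ _ => Finset.mem_univ _)
      (fun x _ => Finset.mem_erase.mpr ⟨fun e => (E x).2 (congrArg Subtype.val e),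
        Finset.mem_univ _⟩)
      (fun j hj => by simp) (fun x _ => by simp)
      (fun j hj => by
        have hj' : j.1 ≠ ξ₀ := fun e => Finset.ne_of_mem_erase hj (Subtype.ext e)
        simp only [r, dif_pos hj'])]
    simp [Fintype.sum_prod_type]

end Cfsg.Agent.Lib.CyclicBlocks.Sides
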