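import Cfsg.Agent.Lib.CyclicBlocks.SectionDiv
import Cfsg.Agent.Lib.CyclicBlocks.Sides
import Cfsg.Agent.Lib.BrauerPairs.Extend
import Cfsg.Agent.Lib.StarChar.Nilpotent
import Cfsg.Agent.Lib.Characters.Linear

/-!
# The characters of the block of `C(z)` as star products

A fixed character `ξ₀` gives a bijection from the linear characters of `P` onto the block of
`C(z)`, which is equivariant for the stabilizer of the maximal pair and perfect at singular
elements.
-/

set_option autoImplicit false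
set_option linter.style.haveILetI false
set_option linter.unusedSectionVars false

namespace Cfsg.Agent.Lib.CyclicBlocks.Star

open Cfsg.Agent.Lib.BrauerPairs
open Cfsg.Agent.Lib.BrauerPairs.Center Cfsg.Agent.Lib.BrauerPairs.Trunc
open Cfsg.Agent.Lib.BrauerPairs.Conj Cfsg.Agent.Lib.BrauerPairs.Pairs
open Cfsg.Agent.Lib.BrauerPairs.Transport Cfsg.Agent.Lib.BrauerPairs.Maximal
open Cfsg.Agent.Lib.BrauerPairs.Bridge Cfsg.Agent.Lib.BrauerPairs.Local
open Cfsg.Agent.Lib.BrauerPairs.Embed Cfsg.Agent.Lib.BrauerPairs.Extend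
open Cfsg.Agent.Lib.BrauerPairs.SubsectionCount Cfsg.Agent.Lib.BrauerPairs.Fusion
open Cfsg.Agent.Lib.CyclicBlocks.Local Cfsg.Agent.Lib.CyclicBlocks.Chars
open Cfsg.Agent.Lib.StarChar Cfsg.Agent.Lib.StarChar.Comp Cfsg.Agent.Lib.StarChar.Section
open Cfsg.Agent.Lib.StarChar.NilpotentPairing
open Cfsg.Agent.Lib.Blocks Cfsg.Agent.Lib.Blocks.Contrib
open Cfsg.Agent.Lib.Characters.Basic

universe u

attribute [local instance] Ideal.Quotient.field

variable {M : Ideal Cfsg.AlgInt} [M.IsMaximal] {G : Type u} [Group G] [Finite G]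
  {p : ℕ} [Fact p.Prime] [CharP (Res M) p] {ψ : Blk (Res M) G} {P : Subgroup G}
  {c : Blk (Res M) (Subgroup.centralizer (P : Set G))} {z : G}

local notation "C[" P "]" => Subgroup.centralizer ((P : Subgroup G) : Set G)

section Abelian

variable {A : Type u} [Group A] [Finite A]

open scoped Classical in
/-- The column sums of an abelian group. -/
theorem sum_apply_mul [Fintype (Cfsg.IrrCharacter A)] (hcomm : ∀ a b : A, a * b = b * a)
    (a b : A) : ∑ ζ : Cfsg.IrrCharacter A, (ζ : A → ℂ) a * (ζ : A → ℂ) b =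
      if a * b = 1 then (Nat.card A : ℂ) else 0 := by
  haveI := Fintype.ofFinite A
  rw [← Characters.Complete.sum_degree_mul_apply (G := A) (a * b)]
  refine Finset.sum_congr rfl fun ζ _ => ?_
  rw [Characters.Linear.degree_eq_one_of_comm hcomm ζ, one_mul,
    Characters.Linear.apply_mul_of_degree_one (isCharacter_irr ζ)
      (Characters.Linear.degree_eq_one_of_comm hcomm ζ)]

end Abelian

theorem nilp_bz (hM : Cfsg.IsPModular p M) (hc : Cyc p ψ P c z) : Nilp p (bz hc) :=
  (LocalAbelian.nilp_iff hc.top hc.comm hc.le_centralizer (Subgroup.zpowers_le.mpr hc.mem)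
    hc.top_local.2).mpr fun x hx hxz =>
      (hc.inertial hM).1 x hx z hc.mem hc.ne_one
        (Subgroup.mem_centralizer_iff.mp hxz z (Subgroup.mem_zpowers z)).symm

theorem comm_local (hc : Cyc p ψ P c z) :
    ∀ x ∈ (localPair c hc.comm hc.mem).1, ∀ y ∈ (localPair c hc.comm hc.mem).1, x * y = y * x :=
  fun _ hx _ hy => Subtype.ext (hc.comm _ hx _ hy)

theorem height_zero (hM : Cfsg.IsPModular p M) (hc : Cyc p ψ P c z)
    {ξ₀ : Cfsg.IrrCharacter C[Subgroup.zpowers z]} (hξ₀ : ξ₀ ∈ toSet (bz hc)) :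
    vdeg p ξ₀ = minVdeg p (toSet (bz hc)) := by
  obtain ⟨ξ, hξ, h⟩ := exists_height_zero (p := p) (isPBlock_toSet (bz hc))
  rw [← h]
  have h1 := values_eq hM hc hξ₀ hξ (s := 1)
    (by rw [orderOf_one]; exact (Fact.out : p.Prime).not_dvd_one)
  rw [BlocksChars5.Basic.apply_one, BlocksChars5.Basic.apply_one, Nat.cast_inj] at h1
  rw [vdeg, vdeg, h1]

/-- The defect of the local blocks of `C(z)` is that of the block. -/
theorem pow_blockDefect (hM : Cfsg.IsPModular p M) (hc : Cyc p ψ P c z)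
    (v : (localPair c hc.comm hc.mem).1) :
    p ^ Cfsg.blockDefect p (toSet (blkAt hc.top_local.1.1 v)) = Nat.card P := by
  have hab := comm_local hc
  have hle := le_localBlk (c := (localPair c hc.comm hc.mem).2) hc.top_local.1.1 hab v.2
  have h := RankAbelian.card_top hM (top_localPair hc.top_local.1 hab v.2)
      (pairOf_localBlk hc.top_local.1.1 hab v.2)
  rw [← eq_blkAt hc.top_local.1.1 v hle]
  refine h.symm.trans ?_
  exact (Nat.card_congr (Subgroup.subgroupOfEquivOfLe (le_centralizer_zpowers hab v.2)).toEquiv).trans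
    (Nat.card_congr (Subgroup.subgroupOfEquivOfLe hc.le_centralizer).toEquiv)

/-- The local blocks of `C(z)` are those of the group. -/
theorem ext_bext_blkAt (hc : Cyc p ψ P c z) (v : (localPair c hc.comm hc.mem).1)
    (hv : ((v : C[Subgroup.zpowers z]) : G) ≠ 1) :
    ext C[Subgroup.zpowers z] (bext _ (blkAt hc.top_local.1.1 v)) =
      bext C[Subgroup.zpowers ((v : C[Subgroup.zpowers z]) : G)]
        (localBlk c hc.top.1 hc.comm (show ((v : C[Subgroup.zpowers z]) : G) ∈ P from v.2)) := by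
  set vG : G := ((v : C[Subgroup.zpowers z]) : G) with hvG
  have hmap : (Subgroup.zpowers (v : C[Subgroup.zpowers z])).map
      (C[Subgroup.zpowers z]).subtype = Subgroup.zpowers vG := by
    rw [MonoidHom.map_zpowers]
    rfl
  have hsub : Subgroup.centralizer (((Subgroup.zpowers (v : C[Subgroup.zpowers z])).map
      (C[Subgroup.zpowers z]).subtype : Subgroup G) : Set G) ≤ C[Subgroup.zpowers z] := by
    rw [hmap]
    exact hc.centralizer_le v.2 hv
  obtain ⟨⟨Z, ω⟩, hb⟩ := exists_up
    (⟨Subgroup.zpowers (v : C[Subgroup.zpowers z]), blkAt hc.top_local.1.1 v⟩ :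
      Idx (Res M) C[Subgroup.zpowers z]) hsub
  obtain ⟨d, hd, hle⟩ := le_of_up (le_blkAt hc.top_local.1.1 v) hb
  obtain rfl : d = (⟨P, c⟩ : Idx (Res M) G) :=
    hd.unique ⟨hc.le_centralizer, hc.centralizer_le', rfl⟩
  obtain ⟨h1, h2⟩ := hb.spec
  obtain rfl : Z = Subgroup.zpowers vG := h1.symm.trans hmap
  rw [show localBlk c hc.top.1 hc.comm (show vG ∈ P from v.2) = ω from
    le_unique hc.top.1 c (le_localBlk hc.top.1 hc.comm v.2) hle]
  exact h2

/-- Conjugation permutes the parts on the sections. -/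
theorem phi_conj_stab (hc : Cyc p ψ P c z) {x : G} (hxz : x ∈ stab (az hc))
    (hx : x ∈ stab (⟨P, c⟩ : Idx (Res M) G)) (v v' : (localPair c hc.comm hc.mem).1)
    (hv : ((v' : C[Subgroup.zpowers z]) : G) = x * ((v : C[Subgroup.zpowers z]) : G) * x⁻¹)
    (hv1 : ((v : C[Subgroup.zpowers z]) : G) ≠ 1)
    {F F' : C[Subgroup.zpowers z] → ℂ}
    (hF : ∀ s, F' (conjEquiv x _ _ (stab_conj_iff hc hxz) s) = F s)
    (s : Subgroup.centralizer
      (Subgroup.zpowers (v : C[Subgroup.zpowers z]) : Set C[Subgroup.zpowers z])) :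
    ∃ s' : Subgroup.centralizer
        (Subgroup.zpowers (v' : C[Subgroup.zpowers z]) : Set C[Subgroup.zpowers z]),
      orderOf s' = orderOf s ∧
      ((s' : C[Subgroup.zpowers z]) = conjEquiv x _ _ (stab_conj_iff hc hxz) s) ∧
      phi F' (v' : C[Subgroup.zpowers z]) (blkAt hc.top_local.1.1 v') s' =
        phi F (v : C[Subgroup.zpowers z]) (blkAt hc.top_local.1.1 v) s := by
  set κ := conjEquiv x _ _ (stab_conj_iff hc hxz) with hκ
  have hκv : κ (v : C[Subgroup.zpowers z]) = (v' : C[Subgroup.zpowers z]) := Subtype.ext hv.symm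
  have hiff : ∀ a : C[Subgroup.zpowers z],
      a ∈ Subgroup.centralizer
          (Subgroup.zpowers (v : C[Subgroup.zpowers z]) : Set C[Subgroup.zpowers z]) ↔
        κ a ∈ Subgroup.centralizer
          (Subgroup.zpowers (v' : C[Subgroup.zpowers z]) : Set C[Subgroup.zpowers z]) := by
    intro a
    rw [BrauerMap.SecondMain.mem_centralizer_zpowers_iff,
      BrauerMap.SecondMain.mem_centralizer_zpowers_iff, commute_iff_eq, commute_iff_eq, ← hκv,
      ← map_mul, ← map_mul, κ.injective.eq_iff]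
  let κq : Subgroup.centralizer
      (Subgroup.zpowers (v : C[Subgroup.zpowers z]) : Set C[Subgroup.zpowers z]) ≃*
      Subgroup.centralizer
        (Subgroup.zpowers (v' : C[Subgroup.zpowers z]) : Set C[Subgroup.zpowers z]) :=
    { toFun := fun a => ⟨κ a, (hiff a).mp a.2⟩
      invFun := fun a => ⟨κ.symm a, (hiff _).mpr (by rw [MulEquiv.apply_symm_apply]; exact a.2)⟩
      left_inv := fun a => Subtype.ext (κ.symm_apply_apply a)
      right_inv := fun a => Subtype.ext (κ.apply_symm_apply a)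
      map_mul' := fun a b => Subtype.ext (map_mul κ _ _) }
  have hblk : (blkAt hc.top_local.1.1 v).comp (zMap κq.symm) = blkAt hc.top_local.1.1 v' := by
    have hv'1 : ((v' : C[Subgroup.zpowers z]) : G) ≠ 1 := by
      rw [hv]
      exact fun e => hv1 (conj_eq_one_iff.mp e)
    have hext : ∀ a : MonoidAlgebra (Res M) (Subgroup.centralizer
        (Subgroup.zpowers (v : C[Subgroup.zpowers z]) : Set C[Subgroup.zpowers z])),
        ext C[Subgroup.zpowers z] (ext _ (MonoidAlgebra.domCongr (Res M) (Res M) κq a)) =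
          conjA x (ext C[Subgroup.zpowers z] (ext _ a)) := by
      intro a
      induction a using MonoidAlgebra.induction_linear with
      | zero => simp
      | add f g hf hg => simp only [map_add, hf, hg]
      | single b r =>
        rw [MonoidAlgebra.domCongr_single, ext_single, ext_single, ext_single, ext_single, conjA,
          MonoidAlgebra.domCongr_single]
        rfl
    refine bext_injective _ (ext_injective C[Subgroup.zpowers z] ?_)
    have e : bidem ((blkAt hc.top_local.1.1 v).comp (zMap κq.symm)) =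
        MonoidAlgebra.domCongr (Res M) (Res M) κq (bidem (blkAt hc.top_local.1.1 v)) := by
      show (Center.idem ((blkAt hc.top_local.1.1 v).comp (zMap κq.symm))).1 = _
      rw [← zMap_idem, coe_zMap]
      rfl
    conv_lhs => rw [bext, e, hext]
    show conjA x (ext _ (bext _ (blkAt hc.top_local.1.1 v))) = _
    rw [ext_bext_blkAt hc v hv1, ext_bext_blkAt hc v' hv'1]
    set vG : G := ((v : C[Subgroup.zpowers z]) : G) with hvG
    set vG' : G := ((v' : C[Subgroup.zpowers z]) : G) with hvG'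
    have hle : Le p (cPair x (⟨Subgroup.zpowers vG,
        localBlk c hc.top.1 hc.comm (show vG ∈ P from v.2)⟩ : Idx (Res M) G)) ⟨P, c⟩ := by
      conv_rhs => rw [← mem_stab.mp hx]
      exact le_cPair x (le_localBlk hc.top.1 hc.comm v.2)
    rw [← bext_cPair x (⟨Subgroup.zpowers vG, _⟩ : Idx (Res M) G)]
    generalize hw : cPair x (⟨Subgroup.zpowers vG,
        localBlk c hc.top.1 hc.comm (show vG ∈ P from v.2)⟩ : Idx (Res M) G) = w at hle ⊢
    obtain ⟨R, ν⟩ := w
    obtain rfl : R = Subgroup.zpowers vG' := by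
      have h := congrArg Sigma.fst hw
      refine h.symm.trans ?_
      rw [hv]
      exact (MonoidHom.map_zpowers (MulAut.conj x).toMonoidHom vG)
    rw [le_unique hc.top.1 c hle (le_localBlk hc.top.1 hc.comm v'.2)]
    rfl
  refine ⟨κq s, κq.orderOf_eq s, rfl, ?_⟩
  rw [← hblk]
  exact SectionDiv.phi_map κ κq hκv (fun _ => rfl) _ hF s

variable [Fintype G]

/-- **The bijection.** -/
theorem exists_star (hM : Cfsg.IsPModular p M) (hc : Cyc p ψ P c z)
    {ξ₀ : Cfsg.IrrCharacter C[Subgroup.zpowers z]} (hξ₀ : ξ₀ ∈ toSet (bz hc))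
    (hst : ∀ x (hx : x ∈ stab (az hc)), cj hc hx ξ₀ = ξ₀)
    [Fintype (Cfsg.IrrCharacter (localPair c hc.comm hc.mem).1)] :
    ∃ Φ : Cfsg.IrrCharacter (localPair c hc.comm hc.mem).1 ≃ toSet (bz hc),
      ((Φ (oneChar _) : toSet (bz hc)) : Cfsg.IrrCharacter C[Subgroup.zpowers z]) = ξ₀ ∧
      (∀ (x : G) (hxz : x ∈ stab (az hc)), x ∈ stab (⟨P, c⟩ : Idx (Res M) G) →
        ∀ l m : Cfsg.IrrCharacter (localPair c hc.comm hc.mem).1,
        (∀ v v' : (localPair c hc.comm hc.mem).1,
          ((v' : C[Subgroup.zpowers z]) : G) = x * ((v : C[Subgroup.zpowers z]) : G) * x⁻¹ →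
            (m : _ → ℂ) v' = (l : _ → ℂ) v) →
        cj hc hxz (Φ l : Cfsg.IrrCharacter C[Subgroup.zpowers z]) = Φ m) ∧
      ∀ (t : C[Subgroup.zpowers z]) (w : (localPair c hc.comm hc.mem).1),
        (∑ l, ((Φ l : Cfsg.IrrCharacter C[Subgroup.zpowers z]) : _ → ℂ) t * (l : _ → ℂ) w) /
          (Nat.card (Subgroup.centralizer ({t} : Set C[Subgroup.zpowers z])) : ℂ) ∈ localRing M ∧
        (∑ l, ((Φ l : Cfsg.IrrCharacter C[Subgroup.zpowers z]) : _ → ℂ) t * (l : _ → ℂ) w) /
          (Nat.card P : ℂ) ∈ localRing M := by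
  classical
  haveI := Fintype.ofFinite C[Subgroup.zpowers z]
  have hb : Top p (localPair c hc.comm hc.mem) := hc.top_local.1
  have hblk : blk (isPBlock_toSet (bz hc)) = bz hc := blk_toSet _ _
  have hψ : PairOf p (bz hc) (localPair c hc.comm hc.mem) := hc.top_local.2
  have hnil : Nilp p (bz hc) := nilp_bz hM hc
  obtain ⟨Φ, hΦ⟩ := StarChar.Nilpotent.exists_equiv hM (hB := isPBlock_toSet (bz hc)) hb
    (hblk.symm ▸ hψ) (hblk.symm ▸ hnil) hξ₀ (height_zero hM hc hξ₀)
  have hcomm : ∀ a a' : (localPair c hc.comm hc.mem).1, a * a' = a' * a := fun a a' =>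
    Subtype.ext (comm_local hc _ a.2 _ a'.2)
  have hcl : ∀ l : Cfsg.IrrCharacter (localPair c hc.comm hc.mem).1, Cfsg.IsClassFunction (localPair c hc.comm hc.mem).1 (l : (localPair c hc.comm hc.mem).1 → ℂ) := fun l =>
    isClassFunction_irr l
  have hpow : ∀ v : (localPair c hc.comm hc.mem).1, ∃ k : ℕ, orderOf (v : C[Subgroup.zpowers z]) = p ^ k := fun v => by
    obtain ⟨k, hk⟩ := IsPGroup.iff_orderOf.mp hb.1 v
    exact ⟨k, by rw [← hk, Subgroup.orderOf_coe]⟩
  refine ⟨Φ, ?_, fun x hxz hx l m hlm => ?_, fun t w => ?_⟩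
  · refine Subtype.ext ((hΦ (oneChar (localPair c hc.comm hc.mem).1)).trans ?_)
    rw [show ((oneChar (localPair c hc.comm hc.mem).1 : Cfsg.IrrCharacter (localPair c hc.comm hc.mem).1) : (localPair c hc.comm hc.mem).1 → ℂ) = 1 from
      funext fun v => oneChar_apply v]
    exact StarChar.Nilpotent.star_const ξ₀
  · obtain ⟨ν, hν⟩ := Φ.surjective ⟨cj hc hxz _, cj_mem hc hxz (Φ l).2⟩
    have hν' : ((Φ ν : toSet (bz hc)) : Cfsg.IrrCharacter C[Subgroup.zpowers z]) =
        cj hc hxz (Φ l : Cfsg.IrrCharacter C[Subgroup.zpowers z]) := congrArg Subtype.val hν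
    suffices ν = m by rw [← hν', this]
    refine Subtype.ext (funext fun v' => ?_)
    have hvP : x⁻¹ * ((v' : C[Subgroup.zpowers z]) : G) * x ∈ P := by
      have hn := stab_le_normalizer _ hx
      exact (Subgroup.mem_normalizer_iff''.mp hn _).mp v'.2
    set v : (localPair c hc.comm hc.mem).1 := ⟨⟨_, hc.le_centralizer hvP⟩, hvP⟩ with hv
    have hvv' : ((v' : C[Subgroup.zpowers z]) : G) =
        x * ((v : C[Subgroup.zpowers z]) : G) * x⁻¹ := by
      simp only [hv]; group
    rw [hlm v v' hvv']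
    by_cases hv1 : ((v : C[Subgroup.zpowers z]) : G) = 1
    · have e1 : v = 1 := Subtype.ext (Subtype.ext hv1)
      have e2 : v' = 1 := Subtype.ext (Subtype.ext (by rw [hvv', hv1]; simp))
      rw [e1, e2, Characters.Linear.degree_eq_one_of_comm hcomm,
        Characters.Linear.degree_eq_one_of_comm hcomm]
    obtain ⟨s, hs, hne⟩ := StarChar.Free.exists_phi_ne_zero_height_zero hM
      (isPBlock_toSet (bz hc)) hξ₀ (height_zero hM hc hξ₀) (hpow v) (blkAt hb.1 v)
      ((pairOf_iff_of_le hb.1 (le_blkAt hb.1 v) _).mpr (hblk.symm ▸ hψ))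
    have hfix : ∀ r, (ξ₀ : C[Subgroup.zpowers z] → ℂ)
        (conjEquiv x _ _ (stab_conj_iff hc hxz) r) = (ξ₀ : C[Subgroup.zpowers z] → ℂ) r := by
      intro r
      conv_lhs => rw [← hst x hxz, cj_apply, MulEquiv.symm_apply_apply]
    obtain ⟨s', hso, hs', hp0⟩ := phi_conj_stab hc hxz hx v v' hvv' hv1 hfix s
    obtain ⟨s'', -, hs'', hp1⟩ := phi_conj_stab hc hxz hx v v' hvv' hv1
      (F := ((Φ l : Cfsg.IrrCharacter C[Subgroup.zpowers z]) : C[Subgroup.zpowers z] → ℂ))
      (F' := ((Φ ν : Cfsg.IrrCharacter C[Subgroup.zpowers z]) : C[Subgroup.zpowers z] → ℂ))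
      (fun r => by rw [hν', cj_apply, MulEquiv.symm_apply_apply]) s
    obtain rfl : s'' = s' := Subtype.ext (hs''.trans hs'.symm)
    rw [hΦ, hΦ, phi_star ξ₀ _ hM (fz_isInv hb hψ hnil (hcl ν)) (hpow v') _
        (by rwa [hso]), phi_star ξ₀ _ hM (fz_isInv hb hψ hnil (hcl l)) (hpow v) _ hs,
      fz_blkAt hb hψ hnil (hcl ν), fz_blkAt hb hψ hnil (hcl l), hp0] at hp1
    exact mul_right_cancel₀ hne hp1
  · obtain ⟨y, hty, hcy, hu, hy⟩ := isPPart_pp (p := p) t
    set u := pp p t with hudef
    have hyC : y ∈ Subgroup.centralizer (Subgroup.zpowers u : Set C[Subgroup.zpowers z]) := by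
      rw [BrauerMap.SecondMain.mem_centralizer_zpowers_iff]
      exact hcy.symm.eq
    haveI : Fintype (Blk (Res M) (Subgroup.centralizer
        (Subgroup.zpowers u : Set C[Subgroup.zpowers z]))) := Fintype.ofFinite _
    have hs : ¬ p ∣ orderOf (⟨y, hyC⟩ :
        Subgroup.centralizer (Subgroup.zpowers u : Set C[Subgroup.zpowers z])) := by
      rwa [← Subgroup.orderOf_coe]
    set s : Subgroup.centralizer (Subgroup.zpowers u : Set C[Subgroup.zpowers z]) := ⟨y, hyC⟩
    have hval : ∀ l, ((Φ l : Cfsg.IrrCharacter C[Subgroup.zpowers z]) : _ → ℂ) t =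
        ∑ ω, fz p (localPair c hc.comm hc.mem) (l : (localPair c hc.comm hc.mem).1 → ℂ) u ω * phi (ξ₀ : _ → ℂ) u ω s := fun l => by
      rw [hΦ, ← star_mul ξ₀ _ hu hs, hty]
    have hswap : ∑ l, ((Φ l : Cfsg.IrrCharacter C[Subgroup.zpowers z]) : _ → ℂ) t *
        (l : _ → ℂ) w =
        ∑ ω, (∑ l : Cfsg.IrrCharacter (localPair c hc.comm hc.mem).1, fz p (localPair c hc.comm hc.mem) (l : (localPair c hc.comm hc.mem).1 → ℂ) u ω * (l : (localPair c hc.comm hc.mem).1 → ℂ) w) *
          phi (ξ₀ : _ → ℂ) u ω s := by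
      simp only [hval, Finset.sum_mul]
      rw [Finset.sum_comm]
      exact Finset.sum_congr rfl fun ω _ => Finset.sum_congr rfl fun l _ => by ring
    erw [hswap]
    rw [Finset.sum_div, Finset.sum_div]
    have hn : (Nat.card (localPair c hc.comm hc.mem).1 : ℂ) = (Nat.card P : ℂ) := congrArg _
      (Nat.card_congr (Subgroup.subgroupOfEquivOfLe hc.le_centralizer).toEquiv)
    have hn0 : (Nat.card P : ℂ) ≠ 0 := Nat.cast_ne_zero.mpr Nat.card_pos.ne'
    -- each section separately
    have hterm : ∀ ω, (∑ l : Cfsg.IrrCharacter (localPair c hc.comm hc.mem).1, fz p (localPair c hc.comm hc.mem) (l : (localPair c hc.comm hc.mem).1 → ℂ) u ω *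
          (l : (localPair c hc.comm hc.mem).1 → ℂ) w) * phi (ξ₀ : _ → ℂ) u ω s /
          (Nat.card (Subgroup.centralizer ({t} : Set C[Subgroup.zpowers z])) : ℂ) ∈ localRing M ∧
        (∑ l : Cfsg.IrrCharacter (localPair c hc.comm hc.mem).1, fz p (localPair c hc.comm hc.mem) (l : (localPair c hc.comm hc.mem).1 → ℂ) u ω *
          (l : (localPair c hc.comm hc.mem).1 → ℂ) w) * phi (ξ₀ : _ → ℂ) u ω s / (Nat.card P : ℂ) ∈ localRing M := by
      intro ω
      by_cases hp : PairOf p (blkOf M ξ₀)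
          (⟨Subgroup.zpowers u, ω⟩ : Idx (Res M) C[Subgroup.zpowers z])
      · rw [mem_toSet.mp hξ₀] at hp
        obtain ⟨a, ha⟩ := exists_le_conj_top hp hb hψ
        simp only [fz_eq hb hψ hnil (hcl _) ha]
        rw [sum_apply_mul hcomm]
        split_ifs with hw
        · rw [hn, mul_div_cancel_left₀ _ hn0, ← hty]
          refine ⟨?_, (SectionDiv.phi_mem_and_div_mem hM ξ₀ hu ω s).1⟩
          set v : (localPair c hc.comm hc.mem).1 := ⟨a * u * a⁻¹, conj_mem_of_le ha⟩
          have hω : cBlk a _ _ (Equiv.mem_centralizer_conj a u) ω = blkAt hb.1 v := by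
            refine eq_blkAt hb.1 v ?_
            show Le p (⟨Subgroup.zpowers (a * u * a⁻¹), _⟩ : Idx (Res M) C[Subgroup.zpowers z]) (localPair c hc.comm hc.mem)
            rw [cPair_zpowers_eq a u (bext_cBlk _ _ _ _ _)]
            exact ha
          have h1 := (SectionDiv.phi_mem_and_div_mem hM ξ₀ (hpow v) (blkAt hb.1 v)
            (conjEquiv a _ _ (Equiv.mem_centralizer_conj a u) s)).2
          rw [← Nat.cast_pow, pow_blockDefect hM hc v,
            phi_conj ξ₀ a u (hω ▸ bext_cBlk _ _ _ _ _)] at h1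
          have hcard : Nat.card (Subgroup.centralizer ({conjEquiv a _ _
                (Equiv.mem_centralizer_conj a u) s} : Set (Subgroup.centralizer
                  (Subgroup.zpowers (a * u * a⁻¹) : Set C[Subgroup.zpowers z])))) =
              Nat.card (Subgroup.centralizer ({s} : Set (Subgroup.centralizer
                  (Subgroup.zpowers u : Set C[Subgroup.zpowers z])))) :=
            (Nat.card_congr ((conjEquiv a _ _
              (Equiv.mem_centralizer_conj a u)).toEquiv.subtypeEquiv fun r => by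
              rw [Subgroup.mem_centralizer_singleton_iff, Subgroup.mem_centralizer_singleton_iff]
              show r * s = s * r ↔ conjEquiv a _ _ (Equiv.mem_centralizer_conj a u) r *
                conjEquiv a _ _ (Equiv.mem_centralizer_conj a u) s =
                conjEquiv a _ _ (Equiv.mem_centralizer_conj a u) s *
                conjEquiv a _ _ (Equiv.mem_centralizer_conj a u) r
              rw [← map_mul, ← map_mul, MulEquiv.apply_eq_iff_eq])).symm
          rw [hcard] at h1
          rw [show (y : C[Subgroup.zpowers z]) = (s : C[Subgroup.zpowers z]) from rfl,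
            SectionDiv.card_centralizer_mul hu hs]
          exact h1
        · simp only [zero_mul, zero_div]
          exact ⟨(localRing M).zero_mem, (localRing M).zero_mem⟩
      · rw [phi_eq_zero ξ₀ hM hu ω hp hs]
        simp only [mul_zero, zero_div]
        exact ⟨(localRing M).zero_mem, (localRing M).zero_mem⟩
    exact ⟨sum_mem fun ω _ => (hterm ω).1, sum_mem fun ω _ => (hterm ω).2⟩

end Cfsg.Agent.Lib.CyclicBlocks.Star
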