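import Cfsg.Agent.Lib.CyclicBlocks.Isometry
import Cfsg.Agent.Lib.CyclicBlocks.Star
import Cfsg.Agent.Lib.Clifford.Basic
import Cfsg.Agent.Lib.Characters.Linear
import Cfsg.Agent.Lib.Blocks.HeightZeroValue

/-!
# The side of a Frobenius group with abelian kernel and cyclic complement

The group `F` has a normal abelian `p`-subgroup `Q` and `F ⧸ Q` is cyclic of order `e` prime to `p`,
acting freely on `Q` and on its nontrivial characters.
-/

set_option autoImplicit false
set_option linter.style.haveILetI false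
set_option linter.unusedSectionVars false

namespace Cfsg.Agent.Lib.CyclicBlocks.Frobenius

open scoped ComplexConjugate
open Cfsg.Agent.Lib.Blocks Cfsg.Agent.Lib.Blocks.Contrib
open Cfsg.Agent.Lib.Characters.Basic Cfsg.Agent.Lib.Induced.Basic
open Cfsg.Agent.Lib.Clifford.Basic

universe u w w'

variable {F : Type u} [Group F] [Fintype F] {p : ℕ} [Fact p.Prime] {M : Ideal Cfsg.AlgInt}
  [M.IsMaximal] (Q : Subgroup F) [hQn : Q.Normal] {e : ℕ}

/-- The hypotheses on the group. -/
structure Frob (p : ℕ) (Q : Subgroup F) (e : ℕ) (f₀ : F) : Prop where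
  pgroup : IsPGroup p Q
  comm : ∀ a b : Q, a * b = b * a
  card : Nat.card F = Nat.card Q * e
  not_dvd : ¬ p ∣ e
  pos : 0 < e
  nontrivial : 1 < Nat.card Q
  cover : ∀ f : F, ∃ i : ℕ, (f₀ ^ i)⁻¹ * f ∈ Q
  free : ∀ f : F, ∀ u ∈ Q, u ≠ 1 → f * u = u * f → f ∈ Q

variable {Q} {f₀ : F}

theorem Frob.index_eq (h : Frob p Q e f₀) : Q.index = e := by
  have h1 := Q.card_mul_index
  rw [h.card] at h1
  exact Nat.eq_of_mul_eq_mul_left Nat.card_pos h1

theorem Frob.mem_of_dvd (h : Frob p Q e f₀) {g : F} (hg : p ∣ orderOf g) : g ∈ Q := by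
  obtain ⟨a, ha⟩ := hg
  have ha0 : a ≠ 0 := fun h0 => (orderOf_pos g).ne' (by rw [ha, h0, mul_zero])
  have hu : orderOf (g ^ a) = p := by
    rw [orderOf_pow' g ha0, ha, Nat.gcd_mul_left_left, Nat.mul_div_cancel _ (Nat.pos_of_ne_zero ha0)]
  have huQ : g ^ a ∈ Q := by
    rw [← QuotientGroup.eq_one_iff, ← orderOf_eq_one_iff]
    have h1 : orderOf ((g ^ a : F) : F ⧸ Q) ∣ p :=
      hu ▸ orderOf_map_dvd (QuotientGroup.mk' Q) (g ^ a)
    have h2 : orderOf ((g ^ a : F) : F ⧸ Q) ∣ e := by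
      rw [← h.index_eq]; exact orderOf_dvd_natCard _
    exact Nat.eq_one_of_dvd_coprimes
      ((Fact.out : p.Prime).coprime_iff_not_dvd.mpr h.not_dvd) h1 h2
  refine h.free g _ huQ (fun h1 => ?_) ((Commute.self_pow g a).eq)
  rw [h1, orderOf_one] at hu
  exact (Fact.out : p.Prime).ne_one hu.symm

theorem Frob.eq_one_of_regular (h : Frob p Q e f₀) {u : F} (hu : u ∈ Q) (hr : ¬ p ∣ orderOf u) :
    u = 1 := by
  obtain ⟨k, hk⟩ := IsPGroup.iff_orderOf.mp h.pgroup ⟨u, hu⟩
  rw [← Subgroup.orderOf_coe] at hk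
  rcases Nat.eq_zero_or_pos k with rfl | hk0
  · exact orderOf_eq_one_iff.mp (hk.trans (pow_zero p))
  · exact absurd (hk ▸ dvd_pow_self p hk0.ne') hr

theorem Frob.dvd_index (h : Frob p Q e f₀) {g : F} (hg : g ∉ Q) :
    Nat.card Q ∣ (Subgroup.centralizer ({g} : Set F)).index := by
  have hC : ¬ p ∣ Nat.card (Subgroup.centralizer ({g} : Set F)) := by
    intro hd
    obtain ⟨u, hu⟩ := exists_prime_orderOf_dvd_card' p hd
    rw [← Subgroup.orderOf_coe] at hu
    have huQ : (u : F) ∈ Q := h.mem_of_dvd (by rw [hu])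
    refine hg (h.free g u huQ (fun h1 => ?_) (Subgroup.mem_centralizer_singleton_iff.mp u.2).symm)
    rw [h1, orderOf_one] at hu
    exact (Fact.out : p.Prime).ne_one hu.symm
  obtain ⟨k, hk⟩ := IsPGroup.iff_card.mp h.pgroup
  refine Nat.Coprime.dvd_of_dvd_mul_left (k := Nat.card Q)
    (m := Nat.card (Subgroup.centralizer ({g} : Set F))) ?_ ?_
  · rw [hk]
    exact ((Fact.out : p.Prime).coprime_iff_not_dvd.mpr hC).pow_left k
  · rw [Subgroup.card_mul_index, h.card]
    exact Dvd.intro e rfl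

theorem Frob.quotient_comm (h : Frob p Q e f₀) (a b : F ⧸ Q) : a * b = b * a := by
  have hc : ∀ a : F ⧸ Q, ∃ i : ℕ, a = (f₀ : F ⧸ Q) ^ i := by
    intro a
    obtain ⟨f, rfl⟩ := QuotientGroup.mk'_surjective Q a
    obtain ⟨i, hi⟩ := h.cover f
    refine ⟨i, ?_⟩
    rw [QuotientGroup.mk'_apply, ← QuotientGroup.mk_pow]
    exact (QuotientGroup.eq.mpr hi).symm
  obtain ⟨i, rfl⟩ := hc a
  obtain ⟨j, rfl⟩ := hc b
  exact (Commute.pow_pow_self _ i j).eq

theorem Frob.linear_Q (h : Frob p Q e f₀) (l : Cfsg.IrrCharacter Q) : (l : Q → ℂ) 1 = 1 :=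
  Characters.Linear.degree_eq_one_of_comm h.comm l

/-- The characters trivial on `Q`. -/
noncomputable def lift (Q : Subgroup F) [Q.Normal] (χ : Cfsg.IrrCharacter (F ⧸ Q)) :
    Cfsg.IrrCharacter F :=
  ⟨(χ : F ⧸ Q → ℂ) ∘ (QuotientGroup.mk' Q),
    isIrrCharacter_comp _ (QuotientGroup.mk'_surjective Q) χ.2⟩

theorem lift_apply (χ : Cfsg.IrrCharacter (F ⧸ Q)) (g : F) :
    (lift Q χ : F → ℂ) g = (χ : F ⧸ Q → ℂ) (g : F ⧸ Q) := rfl

theorem lift_apply_mem (h : Frob p Q e f₀) (χ : Cfsg.IrrCharacter (F ⧸ Q)) {u : F} (hu : u ∈ Q) :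
    (lift Q χ : F → ℂ) u = 1 := by
  rw [lift_apply, (QuotientGroup.eq_one_iff u).mpr hu]
  exact Characters.Linear.degree_eq_one_of_comm h.quotient_comm χ

theorem lift_injective : Function.Injective (lift Q) := fun a b e =>
  Subtype.ext (funext fun x => by
    obtain ⟨g, rfl⟩ := QuotientGroup.mk'_surjective Q x
    exact congrArg (fun χ : Cfsg.IrrCharacter F => (χ : F → ℂ) g) e)

theorem Frob.card_quotient_irr (h : Frob p Q e f₀) [Fintype (Cfsg.IrrCharacter (F ⧸ Q))] :
    Fintype.card (Cfsg.IrrCharacter (F ⧸ Q)) = e := by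
  classical
  have h1 := Characters.Complete.sum_degree_mul_apply (G := F ⧸ Q) 1
  simp only [Characters.Linear.degree_eq_one_of_comm h.quotient_comm, mul_one, Finset.sum_const,
    Finset.card_univ, nsmul_eq_mul, if_true, Nat.cast_inj] at h1
  rw [h1, ← Subgroup.index_eq_card, h.index_eq]

open scoped Classical in
theorem Frob.sum_lift (h : Frob p Q e f₀) [Fintype (Cfsg.IrrCharacter (F ⧸ Q))] (g : F) :
    ∑ χ : Cfsg.IrrCharacter (F ⧸ Q), (lift Q χ : F → ℂ) g = if g ∈ Q then (e : ℂ) else 0 := by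
  have h1 := Characters.Complete.sum_degree_mul_apply (G := F ⧸ Q) (g : F ⧸ Q)
  simp only [Characters.Linear.degree_eq_one_of_comm h.quotient_comm, one_mul] at h1
  simp only [lift_apply]
  rw [h1, ← Subgroup.index_eq_card, h.index_eq]
  exact if_congr (QuotientGroup.eq_one_iff g) rfl rfl

variable {J : Type w} [Fintype J] {I : Type w'} [Fintype I]

/-- **The side.** -/
theorem exists_side (hM : Cfsg.IsPModular p M) (h : Frob p Q e f₀) (j₀ : J) (r : J → I) (q : I → J)
    (ξ : J → Cfsg.IrrCharacter Q) (hξ : Function.Bijective ξ) (hj₀ : ξ j₀ = oneChar Q)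
    (hrq : ∀ i, r (q i) = i) (hq₀ : ∀ i, q i ≠ j₀)
    (horb : ∀ j, j ≠ j₀ → ∃ f : F, conjC Q f (ξ (q (r j)) : Q → ℂ) = (ξ j : Q → ℂ))
    (hdis : ∀ i i' (f : F), conjC Q f (ξ (q i) : Q → ℂ) = (ξ (q i') : Q → ℂ) → i = i' ∧ f ∈ Q)
    [DecidableEq J] (hfib : ∀ A : I → ℂ, ∑ j ∈ Finset.univ.erase j₀, A (r j) =
      (e : ℂ) * ∑ i, A i)
    (hJ : Fintype.card J = e * Fintype.card I + 1) :
    ∃ X Y δ δ₀ y, Isometry.Side p M (Set.univ : Set (Cfsg.IrrCharacter F)) (Nat.card Q) e j₀ r Q ξ
        X Y δ δ₀ y ∧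
      ∀ η : Cfsg.IrrCharacter F, (∃ x ∈ Q, (η : F → ℂ) x ≠ (η : F → ℂ) 1) → η ∈ Y := by
  classical
  haveI := Fintype.ofFinite Q
  haveI := Fintype.ofFinite (Cfsg.IrrCharacter (F ⧸ Q))
  haveI := Fintype.ofFinite (Cfsg.IrrCharacter Q)
  haveI := Fintype.ofFinite (Cfsg.IrrCharacter F)
  have hp : p.Prime := Fact.out
  have hn : (Nat.card Q : ℂ) ≠ 0 := Nat.cast_ne_zero.mpr Nat.card_pos.ne'
  have he : (e : ℂ) ≠ 0 := Nat.cast_ne_zero.mpr h.pos.ne'
  have hclQ : ∀ l : Cfsg.IrrCharacter Q, Cfsg.IsClassFunction Q (l : Q → ℂ) := fun l =>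
    isClassFunction_irr l
  set ind : J → F → ℂ := fun j => Cfsg.indFun Q (ξ j : Q → ℂ) with hind
  have hconj : ∀ (f : F) j j', conjC Q f (ξ j : Q → ℂ) = (ξ j' : Q → ℂ) → ind j' = ind j := by
    intro f j j' hf
    funext g
    by_cases hg : g ∈ Q
    · have hN : ∀ θ : Q → ℂ, Cfsg.indFun Q θ g =
          (Nat.card Q : ℂ)⁻¹ * ∑ x : F, conjC Q x θ ⟨g, hg⟩ := fun θ =>
        indFun_apply_normal Q θ ⟨g, hg⟩
      simp only [hind, hN, ← hf, ← conjC_mul]
      congr 1
      exact Fintype.sum_equiv (Equiv.mulLeft f) _ _ fun x => rfl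
    · simp only [hind, indFun_eq_zero_of_not_mem_normal Q _ hg]
  have hinner : ∀ i j, Cfsg.classInner (ind (q i)) (ind j) = (Nat.card Q : ℂ)⁻¹ *
      ((Finset.univ.filter fun x : F => conjC Q x (ξ j : Q → ℂ) = (ξ (q i) : Q → ℂ)).card : ℂ) := by
    intro i j
    simp only [hind]
    rw [frobenius_reciprocity Q _ (isClassFunction_indFun Q _), indFun_restrict_normal,
      classInner_smul_right, classInner_sum_right, map_inv₀, map_natCast]
    congr 1
    rw [← Finset.sum_boole]
    refine Finset.sum_congr rfl fun x _ => ?_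
    have hx := classInner_irr (ξ (q i))
      ⟨conjC Q x (ξ j : Q → ℂ), isIrrCharacter_conjC Q x (ξ j).2⟩
    simp only at hx
    rw [hx]
    exact if_congr ⟨fun e => (congrArg Subtype.val e).symm, fun e => Subtype.ext e.symm⟩ rfl rfl
  have hnorm : ∀ i, Cfsg.classInner (ind (q i)) (ind (q i)) = 1 := by
    intro i
    rw [hinner, show (Finset.univ.filter fun x : F =>
      conjC Q x (ξ (q i) : Q → ℂ) = (ξ (q i) : Q → ℂ)) = Finset.univ.filter (· ∈ Q) from
        Finset.filter_congr fun x _ => ⟨fun hx => (hdis i i x hx).2,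
          fun hx => conjC_of_mem Q (hclQ _) hx⟩,
      ← Fintype.card_subtype, ← Nat.card_eq_fintype_card]
    exact inv_mul_cancel₀ hn
  have hind1 : ∀ j, ind j 1 = (e : ℂ) := fun j => by
    simp only [hind, indFun_one, h.linear_Q, mul_one, h.index_eq]
  let y : I → Cfsg.IrrCharacter F := fun i => ⟨ind (q i),
    isIrrCharacter_of_classInner_self
      (Induced.Character.isCharacter_indFun Q (isCharacter_irr (ξ (q i)))) (hnorm i)⟩
  have hy_inj : Function.Injective y := by
    intro i i' hii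
    by_contra hne
    have h1 := hnorm i
    have h2 : ind (q i) = ind (q i') := congrArg Subtype.val hii
    conv_lhs at h1 => arg 2; rw [h2]
    rw [hinner, Finset.filter_eq_empty_iff.mpr (fun x _ hx => hne (hdis i' i x hx).1.symm),
      Finset.card_empty, Nat.cast_zero, mul_zero] at h1
    exact zero_ne_one h1
  have hy_out : ∀ i {g : F}, g ∉ Q → (y i : F → ℂ) g = 0 := fun i g hg =>
    indFun_eq_zero_of_not_mem_normal Q _ hg
  have hy_nontriv : ∀ i, ∃ u ∈ Q, (y i : F → ℂ) u ≠ (e : ℂ) := by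
    intro i
    by_contra hall
    push Not at hall
    have h1 : Cfsg.classInner (ind (q i)) (y i : F → ℂ) = 1 := hnorm i
    simp only [hind] at h1
    rw [frobenius_reciprocity Q _ (isClassFunction_irr _),
      show (fun u : Q => (y i : F → ℂ) u) = (e : ℂ) • ((oneChar Q : Cfsg.IrrCharacter Q) : Q → ℂ) from
        funext fun u => by simp [hall u u.2, oneChar_apply],
      classInner_smul_right, classInner_irr_of_ne, mul_zero] at h1
    · exact zero_ne_one h1
    · intro hone
      exact hq₀ i (hξ.1 (hone.trans hj₀.symm))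
  set X : Finset (Cfsg.IrrCharacter F) := Finset.univ.image (lift Q) with hX
  set Y : Finset (Cfsg.IrrCharacter F) := Finset.univ.image y with hY
  have hXval : ∀ χ ∈ X, ∀ u ∈ Q, (χ : F → ℂ) u = 1 := by
    intro χ hχ u hu
    obtain ⟨a, -, rfl⟩ := Finset.mem_image.mp hχ
    exact lift_apply_mem h a hu
  have hdisj : Disjoint X Y := Finset.disjoint_left.mpr fun χ hχ hχY => by
    obtain ⟨i, -, rfl⟩ := Finset.mem_image.mp hχY
    obtain ⟨u, hu, hne⟩ := hy_nontriv i
    apply hne
    rw [hXval _ hχ u hu, ← hXval _ hχ 1 (one_mem Q)]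
    exact hind1 (q i)
  have hsumX : ∀ g, ∑ χ ∈ X, (χ : F → ℂ) g = if g ∈ Q then (e : ℂ) else 0 := fun g => by
    rw [hX, Finset.sum_image fun a _ b _ e => lift_injective e]
    exact h.sum_lift g
  have hcardX : X.card = e := by
    rw [hX, Finset.card_image_of_injective _ lift_injective, Finset.card_univ, h.card_quotient_irr]
  have hcardY : Y.card = Fintype.card I := by
    rw [hY, Finset.card_image_of_injective _ hy_inj, Finset.card_univ]
  have hJQ : Fintype.card J = Nat.card Q := by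
    have h1 := Characters.Complete.sum_degree_mul_apply (G := Q) 1
    simp only [h.linear_Q, mul_one, Finset.sum_const, Finset.card_univ, nsmul_eq_mul, if_true,
      Nat.cast_inj] at h1
    rw [← h1]
    exact Fintype.card_congr (Equiv.ofBijective ξ hξ)
  have hmem : ∀ χ : Cfsg.IrrCharacter F, χ ∈ X ∨ χ ∈ Y := by
    intro χ
    by_contra hno
    have hχ : χ ∉ X ∪ Y := fun h' => hno (Finset.mem_union.mp h')
    have htot := Characters.Complete.sum_degree_mul_apply (G := F) 1
    rw [if_pos rfl, ← Finset.sum_add_sum_compl (X ∪ Y), Finset.sum_union hdisj,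
      Finset.sum_congr rfl (g := fun _ => (1 : ℂ)) (fun a ha => by
        rw [hXval a ha 1 (one_mem Q), one_mul]),
      Finset.sum_congr rfl (s₁ := Y) (g := fun _ => (e : ℂ) * e) (fun a ha => by
        obtain ⟨i, -, rfl⟩ := Finset.mem_image.mp ha
        show ind (q i) 1 * ind (q i) 1 = _
        rw [hind1]), Finset.sum_const, Finset.sum_const, hcardX, hcardY, h.card] at htot
    have hQ' : (Nat.card Q : ℂ) = (e : ℂ) * Fintype.card I + 1 := by
      rw [← hJQ, hJ]; push_cast; rfl
    push_cast at htot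
    simp only [nsmul_eq_mul, mul_one, hQ'] at htot
    have hzero : ∑ a ∈ (X ∪ Y)ᶜ, (a : F → ℂ) 1 * (a : F → ℂ) 1 = 0 := by linear_combination htot
    simp only [BlocksChars5.Basic.apply_one, ← Nat.cast_mul, ← Nat.cast_sum, Nat.cast_eq_zero,
      Finset.sum_eq_zero_iff] at hzero
    have := hzero χ (Finset.mem_compl.mpr hχ)
    have hd := BlocksChars5.Basic.degree_pos χ
    rcases Nat.mul_eq_zero.mp this with h0 | h0 <;> omega
  have hone : ¬ p ∣ orderOf (1 : F) := by rw [orderOf_one]; exact hp.not_dvd_one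
  have hrel : ∀ i, ∀ g : F, ¬ p ∣ orderOf g → (y i : F → ℂ) g = ∑ χ ∈ X, (χ : F → ℂ) g := by
    intro i g hg
    rw [hsumX]
    by_cases hgQ : g ∈ Q
    · rw [if_pos hgQ, h.eq_one_of_regular hgQ hg]
      exact hind1 (q i)
    · rw [if_neg hgQ, hy_out i hgQ]
  have hsing : ∀ g : F, p ∣ orderOf g → ∑ i, (y i : F → ℂ) g = -1 := by
    intro g hg
    have hgQ : g ∈ Q := h.mem_of_dvd hg
    have hg1 : g ≠ 1 := fun e => hone (e ▸ hg)
    refine mul_left_cancel₀ he ?_
    have hre : ∀ j ∈ Finset.univ.erase j₀, (y (r j) : F → ℂ) g = ind j g := fun j hj => by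
      obtain ⟨f, hf⟩ := horb j (Finset.ne_of_mem_erase hj)
      show ind (q (r j)) g = ind j g
      rw [hconj f _ _ hf]
    rw [← hfib fun i => (y i : F → ℂ) g, Finset.sum_congr rfl hre]
    have hall : ∀ u : Q, (u : F) ≠ 1 → ∑ j ∈ Finset.univ.erase j₀, (ξ j : Q → ℂ) u = -1 := by
      intro u hu
      have h1 : ∑ j, (ξ j : Q → ℂ) u = 0 := by
        rw [Fintype.sum_bijective ξ hξ _ (fun l : Cfsg.IrrCharacter Q => (l : Q → ℂ) u)
          fun _ => rfl]
        have h2 := Characters.Complete.sum_degree_mul_apply (G := Q) u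
        simp only [h.linear_Q, one_mul] at h2
        rw [h2, if_neg fun e => hu (by rw [e]; rfl)]
      rw [← Finset.add_sum_erase _ _ (Finset.mem_univ j₀), hj₀, oneChar_apply] at h1
      linear_combination h1
    have hN : ∀ θ : Q → ℂ, Cfsg.indFun Q θ g =
        (Nat.card Q : ℂ)⁻¹ * ∑ x : F, conjC Q x θ ⟨g, hgQ⟩ := fun θ =>
      indFun_apply_normal Q θ ⟨g, hgQ⟩
    simp only [hind, hN, ← Finset.mul_sum]
    rw [Finset.sum_comm, Finset.sum_congr rfl (g := fun _ => (-1 : ℂ)) fun x _ => ?_,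
      Finset.sum_const, Finset.card_univ, ← Nat.card_eq_fintype_card, h.card, nsmul_eq_mul]
    · push_cast
      field_simp
    · simp only [conjC_apply]
      exact hall _ fun e => hg1 (conj_eq_one_iff.mp e)
  have hblock : Cfsg.IsPBlock M (Set.univ : Set (Cfsg.IrrCharacter F)) := by
    refine ⟨oneChar F, (Set.eq_univ_of_forall fun χ g => ?_).symm⟩
    have hd : ((χ : F → ℂ) 1)⁻¹ ∈ localRing M := by
      rcases hmem χ with hχ | hχ
      · rw [hXval χ hχ 1 (one_mem Q), inv_one]; exact one_mem _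
      · obtain ⟨i, -, rfl⟩ := Finset.mem_image.mp hχ
        show (ind (q i) 1)⁻¹ ∈ _
        rw [hind1]
        exact natCast_inv_mem_localRing hM h.not_dvd
    have hval := mem_localRing_of_isIntegral (M := M) (isIntegral_apply (isCharacter_irr χ) g)
    by_cases hgQ : g ∈ Q
    · obtain ⟨k, hk⟩ := IsPGroup.iff_orderOf.mp h.pgroup ⟨g, hgQ⟩
      rw [← Subgroup.orderOf_coe] at hk
      have h1 := memLocalIdeal_char_mul_sub hM χ (Commute.one_right g) ⟨k, hk⟩ hone
      rw [mul_one] at h1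
      have h2 := memLocalIdeal_mul_right (memLocalIdeal_mul_left
        (natCast_mem (localRing M) (Subgroup.centralizer ({g} : Set F)).index) h1) hd
      rw [show Cfsg.centralChar (oneChar F : F → ℂ) g - Cfsg.centralChar (χ : F → ℂ) g =
        -(((Subgroup.centralizer ({g} : Set F)).index : ℂ) *
          ((χ : F → ℂ) g - (χ : F → ℂ) 1) * ((χ : F → ℂ) 1)⁻¹) by
          simp only [Cfsg.centralChar, oneChar_apply]
          field_simp [apply_one_ne_zero χ]
          ring]
      exact memLocalIdeal_neg h2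
    · have hidx : Cfsg.MemLocalIdeal M ((Subgroup.centralizer ({g} : Set F)).index : ℂ) := by
        rw [memLocalIdeal_natCast_iff hM]
        refine dvd_trans ?_ (h.dvd_index hgQ)
        have hnt : 1 < Nat.card Q := h.nontrivial
        obtain ⟨k, hk⟩ := IsPGroup.iff_card.mp h.pgroup
        rw [hk] at hnt ⊢
        exact dvd_pow_self p fun h0 => by simp [h0] at hnt
      have h2 := memLocalIdeal_mul_right (y := 1 - (χ : F → ℂ) g * ((χ : F → ℂ) 1)⁻¹) hidx
        (sub_mem (one_mem _) (mul_mem hval hd))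
      rw [show Cfsg.centralChar (oneChar F : F → ℂ) g - Cfsg.centralChar (χ : F → ℂ) g =
        ((Subgroup.centralizer ({g} : Set F)).index : ℂ) *
          (1 - (χ : F → ℂ) g * ((χ : F → ℂ) 1)⁻¹) by
          simp only [Cfsg.centralChar, oneChar_apply]
          ring]
      exact h2
  have hstruct : Main.CyclicStruct p (Set.univ : Set (Cfsg.IrrCharacter F)) (Nat.card Q) e X Y
      (fun _ => -1) 1 := by
    refine
      { disjoint := hdisj
        mem_iff := fun χ => ⟨fun _ => hmem χ, fun _ => Set.mem_univ χ⟩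
        cardX := hcardX
        cardY := by rw [hcardY, ← hJQ, hJ]
        rank := ?_
        sign := fun _ _ => Or.inr rfl
        sign₀ := Or.inl rfl
        exc_eq := fun η hη η' hη' g hg => ?_
        relation := fun η hη g hg => ?_
        congrX := fun χ hχ χ' hχ' g hg => ?_
        congrY := fun χ hχ g hg => ?_ }
    · have hspan : Submodule.span ℂ ((fun χ : Cfsg.IrrCharacter F =>
          Cfsg.pRegularPart p (χ : F → ℂ)) '' Set.univ) = Submodule.span ℂ
          (Set.range fun χ : X => Cfsg.pRegularPart p ((χ : Cfsg.IrrCharacter F) : F → ℂ)) := by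
        refine le_antisymm (Submodule.span_le.mpr ?_) (Submodule.span_le.mpr ?_)
        · rintro _ ⟨χ, -, rfl⟩
          rcases hmem χ with hχ | hχ
          · exact Submodule.subset_span ⟨⟨χ, hχ⟩, rfl⟩
          · obtain ⟨i, -, rfl⟩ := Finset.mem_image.mp hχ
            have e : Cfsg.pRegularPart p (y i : F → ℂ) =
                ∑ χ : X, Cfsg.pRegularPart p ((χ : Cfsg.IrrCharacter F) : F → ℂ) := by
              funext g
              rw [Finset.sum_apply]
              by_cases hg : p ∣ orderOf g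
              · simp [pRegularPart_apply, hg]
              · simp only [pRegularPart_apply, if_neg hg, hrel i g hg]
                exact (Finset.sum_coe_sort X fun χ => (χ : F → ℂ) g).symm
            show Cfsg.pRegularPart p (y i : F → ℂ) ∈ _
            rw [e]
            exact sum_mem fun χ _ => Submodule.subset_span ⟨χ, rfl⟩
        · rintro _ ⟨χ, rfl⟩
          exact Submodule.subset_span ⟨_, Set.mem_univ _, rfl⟩
      rw [Cfsg.blockRank, hspan, finrank_span_eq_card, Fintype.card_coe, hcardX]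
      rw [Fintype.linearIndependent_iff]
      intro c hc
      have hli := (linearIndependent_irr (G := F)).comp (fun χ : X => (χ : Cfsg.IrrCharacter F))
        Subtype.val_injective
      refine Fintype.linearIndependent_iff.mp hli c ?_
      funext g
      have hreg : ∀ g : F, ¬ p ∣ orderOf g →
          ∑ χ : X, c χ * ((χ : Cfsg.IrrCharacter F) : F → ℂ) g = 0 := fun g hg => by
        have := congrFun hc g
        simpa [Finset.sum_apply, pRegularPart_apply, hg] using this
      simp only [Finset.sum_apply, Pi.smul_apply, smul_eq_mul, Function.comp_apply, Pi.zero_apply]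
      by_cases hg : p ∣ orderOf g
      · rw [← hreg 1 hone]
        exact Finset.sum_congr rfl fun χ _ => by
          rw [hXval _ χ.2 g (h.mem_of_dvd hg), hXval _ χ.2 1 (one_mem Q)]
      · exact hreg g hg
    · obtain ⟨i, -, rfl⟩ := Finset.mem_image.mp hη
      obtain ⟨i', -, rfl⟩ := Finset.mem_image.mp hη'
      rw [hrel i g hg, hrel i' g hg]
    · obtain ⟨i, -, rfl⟩ := Finset.mem_image.mp hη
      simp only [Int.cast_one, one_mul, Int.cast_neg, neg_mul, Finset.sum_neg_distrib]
      rw [hrel i g hg, add_neg_cancel]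
    · rw [hXval χ hχ g (h.mem_of_dvd hg), hXval χ' hχ' g (h.mem_of_dvd hg)]
    · rw [hXval χ hχ g (h.mem_of_dvd hg), hY,
        Finset.sum_image fun a _ b _ e => hy_inj e, hsing g hg]
      simp
  refine ⟨X, Y, fun _ => -1, 1, y,
    { block := hblock
      struct := hstruct
      inj := hy_inj
      range := fun η => ?_
      link := fun j hj g => ?_
      total := fun s hs => ?_ }, fun η ⟨x, hx, hne⟩ => (hmem η).resolve_left fun hη => hne ?_⟩
  · rw [hY, Finset.mem_image]
    simp
  · obtain ⟨f, hf⟩ := horb j hj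
    have h1 : Cfsg.indFun Q (ξ j₀ : Q → ℂ) g = ∑ χ ∈ X, (χ : F → ℂ) g := by
      rw [hsumX, hj₀]
      by_cases hgQ : g ∈ Q
      · rw [if_pos hgQ, show Cfsg.indFun Q ((oneChar Q : Cfsg.IrrCharacter Q) : Q → ℂ) g =
            (Nat.card Q : ℂ)⁻¹ * ∑ x : F, conjC Q x ((oneChar Q : Cfsg.IrrCharacter Q) : Q → ℂ)
              ⟨g, hgQ⟩ from indFun_apply_normal Q _ ⟨g, hgQ⟩]
        simp only [conjC_apply, oneChar_apply, Finset.sum_const, Finset.card_univ, nsmul_eq_mul,
          mul_one, ← Nat.card_eq_fintype_card, h.card]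
        push_cast
        rw [inv_mul_cancel_left₀ hn]
      · rw [if_neg hgQ, indFun_eq_zero_of_not_mem_normal Q _ hgQ]
    show ind j g - _ = _ * ind (q (r j)) g + _
    rw [hconj f _ _ hf, h1]
    simp [Finset.sum_neg_distrib, sub_eq_add_neg]
  · rw [Fintype.sum_bijective ξ hξ _ (fun l : Cfsg.IrrCharacter Q => (l : Q → ℂ) s) fun _ => rfl]
    have h2 := Characters.Complete.sum_degree_mul_apply (G := Q) s
    simp only [h.linear_Q, one_mul] at h2
    rw [h2, if_neg fun e => ?_]
    rw [e, orderOf_one] at hs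
    exact hp.not_dvd_one hs
  · rw [hXval η hη x hx, hXval η hη 1 (one_mem Q)]

end Cfsg.Agent.Lib.CyclicBlocks.Frobenius
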