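import Cfsg.Agent.Lib.CyclicBlocks.Theorem
import Cfsg.Agent.Lib.Blocks.SectionPart
import Cfsg.Agent.Lib.Blocks.SectionMatrix
import Cfsg.Agent.Lib.StarChar.Free

/-!
# Blocks of defect one, when the order of the group is divisible by `p` once

The defect group is generated by `z` and the block of its centralizer has one character trivial
at `z`; the degrees of the nonexceptional characters are congruent to signed multiples of its
degree.
-/

set_option autoImplicit false
set_option linter.style.haveILetI false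
set_option linter.unusedSectionVars false

namespace Cfsg.Agent.Lib.CyclicBlocks.PrimeOrder

open Cfsg.Agent.Lib.BrauerPairs
open Cfsg.Agent.Lib.BrauerPairs.Center Cfsg.Agent.Lib.BrauerPairs.Trunc
open Cfsg.Agent.Lib.BrauerPairs.Pairs Cfsg.Agent.Lib.BrauerPairs.Maximal
open Cfsg.Agent.Lib.BrauerPairs.Bridge Cfsg.Agent.Lib.BrauerPairs.Local
open Cfsg.Agent.Lib.BrauerPairs.Conj Cfsg.Agent.Lib.BrauerPairs.Transport
open Cfsg.Agent.Lib.CyclicBlocks.Local Cfsg.Agent.Lib.CyclicBlocks.Main
open Cfsg.Agent.Lib.CyclicBlocks.Chars Cfsg.Agent.Lib.CyclicBlocks.Family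
open Cfsg.Agent.Lib.CyclicBlocks.Induced
open Cfsg.Agent.Lib.Blocks.Contrib
open Cfsg.Agent.Lib.Characters.Basic
open Cfsg.Agent.Lib.Induced.Basic

universe u

attribute [local instance] Ideal.Quotient.field

variable {M : Ideal Cfsg.AlgInt} [M.IsMaximal] {G : Type u} [Group G] [Finite G]
  {p : ℕ} [Fact p.Prime] [CharP (Res M) p] {ψ : Blk (Res M) G} {z : G}
  {c : Blk (Res M) (Subgroup.centralizer (Subgroup.zpowers z : Set G))}

local notation "C[" P "]" => Subgroup.centralizer ((P : Subgroup G) : Set G)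

/-- The generator of the defect group, in its centralizer. -/
def zC (z : G) : C[Subgroup.zpowers z] :=
  ⟨z, by
    rw [BrauerMap.SecondMain.mem_centralizer_zpowers_iff]⟩

theorem zC_comm (z : G) (s : C[Subgroup.zpowers z]) : Commute (zC z) s :=
  Subtype.ext (Subgroup.mem_centralizer_iff.mp s.2 z (Subgroup.mem_zpowers z))

theorem bz_eq (hc : Cyc p ψ (Subgroup.zpowers z) c z) : bz hc = c :=
  le_unique hc.top.1 c hc.le_az Relation.ReflTransGen.refl

/-- With `p` dividing the order once, the `p`-elements centralizing `z` are its powers. -/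
theorem mem_zpowers_of_commute (hsq : ¬ p ^ 2 ∣ Nat.card G) (hz : orderOf z = p) {u : G}
    (hu : ∃ k : ℕ, orderOf u = p ^ k) (hcomm : u * z = z * u) : u ∈ Subgroup.zpowers z := by
  obtain ⟨k, hk⟩ := hu
  have hU : IsPGroup p (Subgroup.zpowers u) :=
    IsPGroup.of_card (by rw [Nat.card_zpowers, hk])
  have hZ : IsPGroup p (Subgroup.zpowers z) :=
    IsPGroup.of_card (n := 1) (by rw [Nat.card_zpowers, hz, pow_one])
  have hle : Subgroup.zpowers u ≤ Subgroup.normalizer (Subgroup.zpowers z : Set G) :=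
    Subgroup.zpowers_le.mpr (Subgroup.centralizer_le_normalizer _
      ((BrauerMap.SecondMain.mem_centralizer_zpowers_iff).mpr hcomm))
  have hS := IsPGroup.to_sup_of_normal_right' hU hZ hle
  obtain ⟨n, hn⟩ := IsPGroup.iff_card.mp hS
  have hn1 : n ≤ 1 := by
    by_contra h
    exact hsq ((pow_dvd_pow p (by omega)).trans (hn ▸ Subgroup.card_subgroup_dvd_card _))
  have heq : Subgroup.zpowers z = Subgroup.zpowers u ⊔ Subgroup.zpowers z :=
    Subgroup.eq_of_le_of_card_ge le_sup_right (by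
      rw [hn, Nat.card_zpowers, hz]
      exact (Nat.pow_le_pow_right (Fact.out : p.Prime).pos hn1).trans (pow_one p).le)
  rw [heq]
  exact Subgroup.mem_sup_left (Subgroup.mem_zpowers u)

/-- The block of the centralizer has at most one character trivial at `z`. -/
theorem eq_of_ker (hM : Cfsg.IsPModular p M) (hsq : ¬ p ^ 2 ∣ Nat.card G)
    (hc : Cyc p ψ (Subgroup.zpowers z) c z) {ξ ξ' : Cfsg.IrrCharacter C[Subgroup.zpowers z]}
    (hξ : ξ ∈ toSet c) (hξ' : ξ' ∈ toSet c)
    (h : (ξ : C[Subgroup.zpowers z] → ℂ) (zC z) = (ξ : C[Subgroup.zpowers z] → ℂ) 1) (h' : (ξ' : C[Subgroup.zpowers z] → ℂ) (zC z) = (ξ' : C[Subgroup.zpowers z] → ℂ) 1) :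
    ξ = ξ' := by
  haveI := Fintype.ofFinite G
  haveI := Fintype.ofFinite C[Subgroup.zpowers z]
  refine Subtype.ext (funext fun s => ?_)
  obtain ⟨u, y, e1, e2, ⟨k, hk⟩, e3⟩ := Blocks.exists_isPPart (Fact.out : p.Prime) s
  obtain ⟨j, hj⟩ := (Submonoid.mem_powers_iff _ _).mp ((isOfFinOrder_of_finite z).mem_powers_iff_mem_zpowers.mpr
    (mem_zpowers_of_commute hsq hc.order ⟨k, (Subgroup.orderOf_coe u).trans hk⟩
      (congrArg Subtype.val (zC_comm z u).eq).symm))
  have hu : u = zC z ^ j := Subtype.ext (by rw [SubgroupClass.coe_pow]; exact hj.symm)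
  have key : ∀ η : Cfsg.IrrCharacter C[Subgroup.zpowers z],
      (η : C[Subgroup.zpowers z] → ℂ) (zC z) = (η : C[Subgroup.zpowers z] → ℂ) 1 → (η : C[Subgroup.zpowers z] → ℂ) s = (η : C[Subgroup.zpowers z] → ℂ) y := by
    intro η hη
    have h1 : (η : C[Subgroup.zpowers z] → ℂ) 1 ≠ 0 := by
      rw [BlocksChars5.Basic.apply_one]
      exact Nat.cast_ne_zero.mpr (BlocksChars5.Basic.degree_pos η).ne'
    rw [← e1, hu, Blocks.SectionMatrix.apply_pow_mul (zC_comm z) η j y,
      Blocks.SectionMatrix.lam, hη, div_self h1, one_pow, one_mul]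
  rw [key ξ h, key ξ' h']
  exact values_eq hM hc (by rwa [bz_eq]) (by rwa [bz_eq]) e3

/-- A conjugate of a character trivial at `z` is trivial at `z`. -/
theorem pushIrr_zC {g : G} (hg : g ∈ Subgroup.normalizer (Subgroup.zpowers z : Set G))
    {ξ : Cfsg.IrrCharacter C[Subgroup.zpowers z]} (h : (ξ : C[Subgroup.zpowers z] → ℂ) (zC z) = (ξ : C[Subgroup.zpowers z] → ℂ) 1) :
    (pushIrr (conjEquiv g _ _ (mem_centralizer_conj_iff hg)) ξ : C[Subgroup.zpowers z] → ℂ) (zC z) =
      (pushIrr (conjEquiv g _ _ (mem_centralizer_conj_iff hg)) ξ : C[Subgroup.zpowers z] → ℂ) 1 := by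
  haveI := Fintype.ofFinite C[Subgroup.zpowers z]
  obtain ⟨m, hm⟩ := Subgroup.mem_zpowers_iff.mp
    ((Subgroup.mem_normalizer_iff''.mp hg z).mp (Subgroup.mem_zpowers z))
  have he : (conjEquiv g _ _ (mem_centralizer_conj_iff hg)).symm (zC z) = zC z ^ m :=
    Subtype.ext (by rw [SubgroupClass.coe_zpow]; exact hm.symm)
  have hone := BlocksChars5.Basic.mem_charKer ξ (zC z)
  rw [pushIrr_apply, pushIrr_apply, map_one, he]
  exact (BlocksChars5.Basic.mem_charKer ξ _).mp (zpow_mem (hone.mpr h) m)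

/-- An element of the normalizer stabilizes the block iff it fixes the character trivial at
`z`. -/
theorem pushIrr_eq_iff (hM : Cfsg.IsPModular p M) (hsq : ¬ p ^ 2 ∣ Nat.card G)
    (hc : Cyc p ψ (Subgroup.zpowers z) c z) {θ : Cfsg.IrrCharacter C[Subgroup.zpowers z]}
    (hθ : θ ∈ toSet c) (hθz : (θ : C[Subgroup.zpowers z] → ℂ) (zC z) = (θ : C[Subgroup.zpowers z] → ℂ) 1) {g : G}
    (hg : g ∈ Subgroup.normalizer (Subgroup.zpowers z : Set G)) :
    pushIrr (conjEquiv g _ _ (mem_centralizer_conj_iff hg)) θ = θ ↔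
      act (Subgroup.zpowers z) hg c = c := by
  have hblk : blkOf M (pushIrr (conjEquiv g _ _ (mem_centralizer_conj_iff hg)) θ) =
      act (Subgroup.zpowers z) hg c := by
    rw [blkOf_pushIrr_conj, mem_toSet.mp hθ]
    rfl
  refine ⟨fun h => ?_, fun h => eq_of_ker hM hsq hc ?_ hθ (pushIrr_zC hg hθz) hθz⟩
  · rw [← hblk, h, mem_toSet.mp hθ]
  · rw [mem_toSet, hblk, h]

theorem cj_theta (hM : Cfsg.IsPModular p M) (hsq : ¬ p ^ 2 ∣ Nat.card G)
    (hc : Cyc p ψ (Subgroup.zpowers z) c z) {θ : Cfsg.IrrCharacter C[Subgroup.zpowers z]}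
    (hθ : θ ∈ toSet c) (hθz : (θ : C[Subgroup.zpowers z] → ℂ) (zC z) = (θ : C[Subgroup.zpowers z] → ℂ) 1) {x : G}
    (hx : x ∈ stab (az hc)) : cj hc hx θ = θ := by
  refine (pushIrr_eq_iff hM hsq hc hθ hθz (stab_le_normalizer (az hc) hx)).mpr ?_
  have h := (mem_stab_iff.mp hx).2
  rw [show (az hc).2 = c from bz_eq hc] at h
  exact (act_eq_iff (Q := Subgroup.zpowers z) (stab_le_normalizer (az hc) hx) c).mpr h

/-! ### The degree -/

section Degree

theorem act_injective {Q : Subgroup G} {g : G} (hg : g ∈ Subgroup.normalizer (Q : Set G)) :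
    Function.Injective (act (k := Res M) Q hg) := fun a b hab => by
  have h := congrArg (fun ω => conjA g⁻¹ (bext C[Q] ω)) hab
  simp only [bext_act, ← conjA_mul, inv_mul_cancel, conjA_one] at h
  exact bext_injective _ h

variable [Fintype G]

/-- The multiplicity in the restriction. -/
noncomputable def mult [Fintype C[Subgroup.zpowers z]] (χ : Cfsg.IrrCharacter G)
    (ξ : Cfsg.IrrCharacter C[Subgroup.zpowers z]) : ℂ :=
  Cfsg.classInner (fun s : C[Subgroup.zpowers z] => (χ : G → ℂ) s) (ξ : C[Subgroup.zpowers z] → ℂ)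

variable [Fintype (Subgroup.centralizer (Subgroup.zpowers z : Set G))]

theorem isGeneralized_res (χ : Cfsg.IrrCharacter G) :
    Cfsg.IsGeneralizedCharacter C[Subgroup.zpowers z] fun s => (χ : G → ℂ) s :=
  Characters.Generalized.of_isCharacter (isCharacter_comp C[Subgroup.zpowers z].subtype (isCharacter_irr χ))

theorem exists_mult_int (χ : Cfsg.IrrCharacter G) (ξ : Cfsg.IrrCharacter C[Subgroup.zpowers z]) :
    ∃ k : ℤ, mult χ ξ = (k : ℂ) :=
  Characters.Generalized.exists_classInner_int (isGeneralized_res χ)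
    (Characters.Generalized.of_isCharacter (isCharacter_irr ξ))

/-- The part of the degree in a block. -/
noncomputable def degPart (χ : Cfsg.IrrCharacter G)
    (β : Blk (Res M) C[Subgroup.zpowers z]) : ℂ :=
  ∑ ξ ∈ bset (toSet β), mult χ ξ * (ξ : C[Subgroup.zpowers z] → ℂ) 1

theorem sum_degPart [Fintype (Blk (Res M) C[Subgroup.zpowers z])] (χ : Cfsg.IrrCharacter G) :
    ∑ β : Blk (Res M) C[Subgroup.zpowers z], degPart χ β = (χ : G → ℂ) 1 := by
  classical
  haveI := Fintype.ofFinite (Cfsg.IrrCharacter C[Subgroup.zpowers z])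
  have h := congrFun (Characters.Complete.classFunction_eq_sum
    (Characters.Generalized.isClassFunction (isGeneralized_res (z := z) χ))) 1
  rw [Finset.sum_apply] at h
  rw [show (χ : G → ℂ) 1 = (χ : G → ℂ) ((1 : C[Subgroup.zpowers z]) : G) from rfl, h,
    ← Finset.sum_fiberwise (ι := Cfsg.IrrCharacter C[Subgroup.zpowers z])
      (κ := Blk (Res M) C[Subgroup.zpowers z]) Finset.univ (fun ξ => blkOf M ξ)]
  refine Finset.sum_congr rfl fun β _ => ?_
  refine Finset.sum_congr (Finset.ext fun ξ => by simp [mem_bset, mem_toSet]) fun ξ _ => rfl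

theorem degPart_conj (χ : Cfsg.IrrCharacter G) (β : Blk (Res M) C[Subgroup.zpowers z]) {g : G}
    (hg : g ∈ Subgroup.normalizer (Subgroup.zpowers z : Set G)) :
    degPart χ (act (Subgroup.zpowers z) hg β) = degPart χ β := by
  classical
  set θ := conjEquiv g C[Subgroup.zpowers z] C[Subgroup.zpowers z] (mem_centralizer_conj_iff hg)
    with hθ
  have hblk : ∀ ξ, blkOf M (pushIrr θ ξ) = act (Subgroup.zpowers z) hg (blkOf M ξ) := fun ξ =>
    blkOf_pushIrr_conj g _ _ (mem_centralizer_conj_iff hg) ξ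
  symm
  refine Finset.sum_bij (fun ξ _ => pushIrr θ ξ) (fun ξ hξ => ?_) (fun a _ b _ e => ?_)
    (fun η hη => ⟨pushIrr θ.symm η, ?_, ?_⟩) fun ξ _ => ?_
  · rw [mem_bset, mem_toSet, hblk, mem_toSet.mp (mem_bset.mp hξ)]
  · refine Subtype.ext (funext fun s => ?_)
    simpa [pushIrr_apply] using congrArg (fun ξ : Cfsg.IrrCharacter C[Subgroup.zpowers z] =>
      (ξ : C[Subgroup.zpowers z] → ℂ) (θ s)) e
  · rw [mem_bset, mem_toSet]
    refine act_injective hg ?_
    show act _ hg (blkOf M (pushIrr θ.symm η)) = act _ hg β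
    rw [← hblk, show pushIrr θ (pushIrr θ.symm η) = η from
      Subtype.ext (funext fun s => by simp [pushIrr_apply]), mem_toSet.mp (mem_bset.mp hη)]
  · exact Subtype.ext (funext fun s => by simp [pushIrr_apply])
  · congr 1
    · unfold mult Cfsg.classInner
      congr 1
      refine Fintype.sum_equiv θ.toEquiv _ _ fun s => ?_
      show _ = (χ : G → ℂ) (θ s : G) * _
      rw [pushIrr_apply]
      simp only [MulEquiv.toEquiv_eq_coe, MulEquiv.coe_toEquiv, MulEquiv.symm_apply_apply]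
      congr 1
      exact (isClassFunction_irr χ (s : G) g).symm
    · rw [pushIrr_apply, map_one]

/-- A block of another pair gives a multiple of `p`. -/
theorem dvd_degPart (hM : Cfsg.IsPModular p M) (hz : orderOf z = p) {χ : Cfsg.IrrCharacter G}
    {β : Blk (Res M) C[Subgroup.zpowers z]}
    (hβ : ¬ PairOf p (blkOf M χ) (⟨Subgroup.zpowers z, β⟩ : Idx (Res M) G)) :
    ∃ k : ℤ, degPart χ β = (p : ℂ) * k := by
  classical
  have hZ : IsPGroup p (Subgroup.zpowers z) :=
    IsPGroup.of_card (n := 1) (by rw [Nat.card_zpowers, hz, pow_one])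
  set ψ' : Blk (Res M) G := pairBlk (a := (⟨Subgroup.zpowers z, β⟩ : Idx (Res M) G)) hZ with hψ'
  have hpair : PairOf p ψ' (⟨Subgroup.zpowers z, β⟩ : Idx (Res M) G) :=
    pairOf_iff.mpr ⟨hZ, rfl⟩
  have hind : Cfsg.IsInducedBlock M C[Subgroup.zpowers z] (toSet β) (toSet ψ') :=
    StarChar.Free.isInducedBlock_of_pairOf hZ (isPBlock_toSet ψ') (by rw [blk_toSet]; exact hpair)
  have hχ : χ ∉ toSet ψ' := fun h => hβ (by rw [mem_toSet.mp h]; exact hpair)
  have hvan : ∀ j ∈ (Finset.range p).erase 0, ∑ ξ ∈ bset (toSet β),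
      mult χ ξ * (ξ : C[Subgroup.zpowers z] → ℂ) 1 * Blocks.SectionMatrix.lam (zC z) ξ ^ j = 0 := by
    intro j hj
    obtain ⟨hj0, hjp⟩ := Finset.mem_erase.mp hj
    rw [Finset.mem_range] at hjp
    have hord : orderOf (z ^ j) = p := by
      rw [(isOfFinOrder_of_finite z).orderOf_pow, hz,
        ((Fact.out : p.Prime).coprime_iff_not_dvd.mpr fun h =>
          hj0 (Nat.eq_zero_of_dvd_of_lt h hjp)).gcd_eq_one, Nat.div_one]
    have hZj : Subgroup.zpowers (z ^ j) = Subgroup.zpowers z :=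
      Subgroup.eq_of_le_of_card_ge (Subgroup.zpowers_le.mpr (Subgroup.npow_mem_zpowers z j))
        (by rw [Nat.card_zpowers, Nat.card_zpowers, hord, hz])
    have h := Blocks.SectionPart.blockPart_sect_eq_zero hM (x := z ^ j) ⟨1, by rw [hord, pow_one]⟩
      (congrArg (fun Z : Subgroup G => Subgroup.centralizer (Z : Set G)) hZj.symm) hind hχ
      (s := 1) (by rw [orderOf_one]; exact (Fact.out : p.Prime).not_dvd_one)
    rw [Blocks.BlockPart.blockPart_apply] at h
    refine Eq.trans (Finset.sum_congr ?_ fun ξ hξ => ?_) h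
    · exact Finset.ext fun ξ => by simp [mem_bset]
    haveI := Fintype.ofFinite (Cfsg.IrrCharacter C[Subgroup.zpowers z])
    have hsect : Blocks.SectionPart.sect (z ^ j) C[Subgroup.zpowers z] (χ : G → ℂ) =
        ∑ η : Cfsg.IrrCharacter C[Subgroup.zpowers z],
          (mult χ η * Blocks.SectionMatrix.lam (zC z) η ^ j) • (η : C[Subgroup.zpowers z] → ℂ) := by
      funext s
      have h2 := congrFun (Characters.Complete.classFunction_eq_sum
        (Characters.Generalized.isClassFunction (isGeneralized_res (z := z) χ))) (zC z ^ j * s)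
      rw [Finset.sum_apply] at h2 ⊢
      refine Eq.trans (by rw [Blocks.SectionPart.sect_apply, Subgroup.coe_mul,
        SubgroupClass.coe_pow]; rfl) (h2.trans (Finset.sum_congr rfl fun η _ => ?_))
      simp only [Pi.smul_apply, smul_eq_mul, mult,
        Blocks.SectionMatrix.apply_pow_mul (zC_comm z) η j s, mul_assoc]
    have hcoef : Cfsg.classInner (Blocks.SectionPart.sect (z ^ j) C[Subgroup.zpowers z]
        (χ : G → ℂ)) (ξ : C[Subgroup.zpowers z] → ℂ) = mult χ ξ * Blocks.SectionMatrix.lam (zC z) ξ ^ j := by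
      rw [hsect, classInner_sum_left]
      simp only [classInner_smul_left, classInner_irr, mul_ite, mul_one, mul_zero,
        Finset.sum_ite_eq', Finset.mem_univ, if_true]
    rw [hcoef]
    ring
  choose m hm using exists_mult_int (z := z) χ
  refine ⟨∑ ξ ∈ bset (toSet β), if Blocks.SectionMatrix.lam (zC z) ξ = 1 then
    m ξ * (Cfsg.charDegree (ξ : C[Subgroup.zpowers z] → ℂ) : ℤ) else 0, ?_⟩
  have htot : degPart χ β = ∑ j ∈ Finset.range p, ∑ ξ ∈ bset (toSet β),
      mult χ ξ * (ξ : C[Subgroup.zpowers z] → ℂ) 1 * Blocks.SectionMatrix.lam (zC z) ξ ^ j := by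
    rw [Finset.sum_eq_single 0 (fun j hj hj0 => hvan j (Finset.mem_erase.mpr ⟨hj0, hj⟩))
      fun h => absurd (Finset.mem_range.mpr (Fact.out : p.Prime).pos) h]
    simp [degPart]
  rw [htot, Finset.sum_comm, Int.cast_sum, Finset.mul_sum]
  refine Finset.sum_congr rfl fun ξ _ => ?_
  rw [← Finset.mul_sum]
  have h1 : (ξ : C[Subgroup.zpowers z] → ℂ) 1 ≠ 0 := by
    rw [BlocksChars5.Basic.apply_one]
    exact Nat.cast_ne_zero.mpr (BlocksChars5.Basic.degree_pos ξ).ne'
  have hpow : Blocks.SectionMatrix.lam (zC z) ξ ^ p = 1 := by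
    have h2 := Blocks.SectionMatrix.apply_pow_mul (zC_comm z) ξ p 1
    rw [mul_one, show zC z ^ p = 1 from Subtype.ext (by
      rw [SubgroupClass.coe_pow]; show z ^ p = 1; rw [← hz, pow_orderOf_eq_one])] at h2
    exact mul_right_cancel₀ h1 (h2.symm.trans (one_mul _).symm)
  split_ifs with hl
  · rw [hl, hm, BlocksChars5.Basic.apply_one]
    simp only [one_pow, Finset.sum_const, Finset.card_range, nsmul_eq_mul]
    push_cast
    ring
  · rw [geom_sum_eq hl, hpow, sub_self, zero_div, mul_zero, Int.cast_zero, mul_zero]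

/-- The structure with the congruence of the degrees. -/
theorem exists_struct (hM : Cfsg.IsPModular p M) (hsq : ¬ p ^ 2 ∣ Nat.card G)
    (hc : Cyc p ψ (Subgroup.zpowers z) c z) {θ : Cfsg.IrrCharacter C[Subgroup.zpowers z]}
    (hθ : θ ∈ toSet c) (hθz : (θ : C[Subgroup.zpowers z] → ℂ) (zC z) = (θ : C[Subgroup.zpowers z] → ℂ) 1) :
    ∃ X Y δ δ₀, CyclicStruct p (toSet ψ) p (eIdx hc) X Y δ δ₀ ∧ ∀ χ ∈ X,
      (Cfsg.charDegree (χ : G → ℂ) : ℤ) ≡ -δ χ *
        ((C[Subgroup.zpowers z].relIndex (Subgroup.normalizer (Subgroup.zpowers z : Set G)) /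
          eIdx hc * Cfsg.charDegree (θ : C[Subgroup.zpowers z] → ℂ) : ℕ) : ℤ) [ZMOD p] := by
  classical
  have hθ' : θ ∈ toSet (bz hc) := by rwa [bz_eq]
  obtain ⟨h, hh, Q, hO, -⟩ := exists_orbits_of hM hc θ hθ' fun x hx =>
    cj_theta hM hsq hc hθ hθz hx
  obtain ⟨X, Y, δ, δ₀, hs, y, -, hY, hlink⟩ := exists_linked hM hc (Rank.le_blockRank hM hc) hO
  have hcardZ : Nat.card (Subgroup.zpowers z) = p := by rw [Nat.card_zpowers, hc.order]
  rw [hcardZ] at hs
  refine ⟨X, Y, δ, δ₀, hs, fun χ hχ => ?_⟩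
  have hχB : blkOf M χ = ψ := mem_toSet.mp ((hs.mem_iff χ).mpr (Or.inl hχ))
  -- the multiplicities in the block below
  have hq : ∀ q ∈ Q, mult χ q - mult χ θ = (δ χ : ℂ) := by
    intro q hq
    have h1 : Cfsg.classInner (Cfsg.indFun C[Subgroup.zpowers z] (dif q θ)) (χ : G → ℂ) =
        (δ χ : ℂ) := by
      rw [show Cfsg.indFun C[Subgroup.zpowers z] (dif q θ) =
          (δ₀ : ℂ) • (y ⟨q, hq⟩ : G → ℂ) + ∑ χ' ∈ X, (δ χ' : ℂ) • (χ' : G → ℂ) from
        funext fun g => by
          rw [hlink ⟨q, hq⟩ g]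
          simp [Finset.sum_apply]]
      have hne : y ⟨q, hq⟩ ≠ χ := fun e =>
        Finset.disjoint_left.mp hs.disjoint hχ (e ▸ (hY _).mpr ⟨_, rfl⟩)
      simp only [classInner_add_left, classInner_smul_left, classInner_irr_of_ne hne, mul_zero,
        zero_add, classInner_sum_left, classInner_irr, mul_ite, mul_one, Finset.sum_ite_eq', hχ,
        if_true]
    rw [frobenius_reciprocity _ _ (isClassFunction_irr χ), dif, classInner_sub_left] at h1
    have h2 := congrArg (starRingEnd ℂ) h1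
    rw [map_sub, classInner_conj_symm, classInner_conj_symm, map_intCast] at h2
    exact h2
  have hall : ∀ ξ ∈ toSet c, ξ ≠ θ → mult χ ξ = mult χ θ + (δ χ : ℂ) := by
    intro ξ hξ hne
    obtain ⟨i, -, q, hqQ, rfl⟩ := hO.exists_rep hM (by rwa [bz_eq]) hne
    rw [← hq q hqQ, add_sub_cancel]
    unfold mult Cfsg.classInner
    congr 1
    refine (Fintype.sum_equiv
      (conjEquiv (h ^ i) _ _ (stab_conj_iff hc (pow_mem hh i))).toEquiv _ _ fun s => ?_).symm
    show _ = (χ : G → ℂ) _ * _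
    rw [cj_apply]
    simp only [MulEquiv.toEquiv_eq_coe, MulEquiv.coe_toEquiv, MulEquiv.symm_apply_apply]
    congr 1
    exact (isClassFunction_irr χ (s : G) (h ^ i)).symm
  obtain ⟨mθ, hmθ⟩ := exists_mult_int χ θ
  have hdeg : ∀ ξ ∈ toSet c, (ξ : C[Subgroup.zpowers z] → ℂ) 1 = (Cfsg.charDegree (θ : C[Subgroup.zpowers z] → ℂ) : ℂ) := fun ξ hξ => by
    rw [values_eq hM hc (ξ := ξ) (ξ' := θ) (by rwa [bz_eq]) hθ'
      (by rw [orderOf_one]; exact (Fact.out : p.Prime).not_dvd_one), BlocksChars5.Basic.apply_one]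
  have hcardc : (bset (toSet c)).card = p := by
    have h1 := (hc.rank_card hM).2
    rw [bz_eq, hcardZ, Nat.card_coe_set_eq, Set.ncard_eq_toFinset_card _ (Set.toFinite _)] at h1
    exact (congrArg Finset.card (Finset.ext fun χ => by simp [mem_bset])).trans h1
  have hc_part : degPart χ c = ((((p : ℤ) * (mθ + δ χ) - δ χ) *
      (Cfsg.charDegree (θ : C[Subgroup.zpowers z] → ℂ) : ℤ) : ℤ) : ℂ) := by
    have h1 : degPart χ c = ∑ ξ ∈ bset (toSet c), (mult χ θ + (δ χ : ℂ) -
        if ξ = θ then (δ χ : ℂ) else 0) * (Cfsg.charDegree (θ : C[Subgroup.zpowers z] → ℂ) : ℂ) := by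
      refine Finset.sum_congr rfl fun ξ hξ => ?_
      rw [hdeg ξ (mem_bset.mp hξ)]
      split_ifs with he
      · rw [he, add_sub_cancel_right]
      · rw [hall ξ (mem_bset.mp hξ) he, sub_zero]
    rw [h1, ← Finset.sum_mul, Finset.sum_sub_distrib, Finset.sum_const, Finset.sum_ite_eq',
      if_pos (mem_bset.mpr hθ), hcardc, hmθ, nsmul_eq_mul]
    push_cast
    ring
  -- the conjugate blocks
  haveI := Fintype.ofFinite (Blk (Res M) C[Subgroup.zpowers z])
  set N := Subgroup.normalizer (Subgroup.zpowers z : Set G) with hN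
  set O : Finset (Blk (Res M) C[Subgroup.zpowers z]) :=
    Finset.univ.image fun g : N => act (Subgroup.zpowers z) g.2 c with hOdef
  have hpairO : ∀ β, PairOf p ψ (⟨Subgroup.zpowers z, β⟩ : Idx (Res M) G) → β ∈ O := by
    intro β hβ
    obtain ⟨x, hx⟩ := exists_le_conj_top hβ hc.top hc.pair
    have hsub := Subgroup.eq_of_le_of_card_ge hx.subgroup_le (by
      show Nat.card (Subgroup.zpowers z) ≤ Nat.card ((Subgroup.zpowers z).map _)
      rw [card_map_conj])
    have hxN : x ∈ N := Subgroup.mem_normalizer_iff_map_conj_eq.mpr hsub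
    have hle := hx
    rw [show cPair x (⟨Subgroup.zpowers z, β⟩ : Idx (Res M) G) =
      (⟨Subgroup.zpowers z, act (Subgroup.zpowers z) hxN β⟩ : Idx (Res M) G) from
        sigma_ext_of_bext (Subgroup.mem_normalizer_iff_map_conj_eq.mp hxN)
          (by rw [bext_cPair, bext_act])] at hle
    have he : act (Subgroup.zpowers z) hxN β = c :=
      le_unique hc.top.1 c hle Relation.ReflTransGen.refl
    refine Finset.mem_image.mpr ⟨⟨x⁻¹, inv_mem hxN⟩, Finset.mem_univ _, ?_⟩
    refine bext_injective _ ?_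
    rw [bext_act, ← he, bext_act, ← conjA_mul, inv_mul_cancel, conjA_one]
  have hOcard : O.card * eIdx hc = C[Subgroup.zpowers z].relIndex N := by
    set S := stab (⟨Subgroup.zpowers z, c⟩ : Idx (Res M) G) with hS
    have hSN : S ≤ N := stab_le_normalizer _
    have hCS : C[Subgroup.zpowers z] ≤ S :=
      centralizer_le_stab (⟨Subgroup.zpowers z, c⟩ : Idx (Res M) G)
    have hfib : ∀ β ∈ O, (Finset.univ.filter fun g : N =>
        act (Subgroup.zpowers z) g.2 c = β).card = Nat.card S := by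
      intro β hβ
      obtain ⟨g₀, -, rfl⟩ := Finset.mem_image.mp hβ
      rw [← Nat.card_eq_finsetCard]
      refine Nat.card_congr
        { toFun := fun g => ⟨(g₀ : G)⁻¹ * (g.1 : G), ?_⟩
          invFun := fun s => ⟨g₀ * ⟨s.1, hSN s.2⟩, ?_⟩
          left_inv := fun g => Subtype.ext (Subtype.ext (mul_inv_cancel_left _ _))
          right_inv := fun s => Subtype.ext (inv_mul_cancel_left _ _) }
      · have he := congrArg (bext C[Subgroup.zpowers z]) (Finset.mem_filter.mp g.2).2
        rw [bext_act, bext_act] at he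
        refine mem_stab_iff.mpr ⟨(g₀⁻¹ * g.1 : N).2, ?_⟩
        rw [conjA_mul, he, ← conjA_mul, inv_mul_cancel, conjA_one]
      · refine Finset.mem_filter.mpr ⟨Finset.mem_univ _, bext_injective _ ?_⟩
        rw [bext_act, bext_act, Subgroup.coe_mul, conjA_mul, (mem_stab_iff.mp s.2).2]
    have h1 := Finset.card_eq_sum_card_fiberwise (s := (Finset.univ : Finset N)) (t := O)
      (f := fun g : N => act (Subgroup.zpowers z) g.2 c)
      fun g _ => Finset.mem_image_of_mem _ (Finset.mem_univ g)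
    rw [Finset.sum_congr rfl hfib, Finset.sum_const, smul_eq_mul, Finset.card_univ,
      Fintype.card_eq_nat_card] at h1
    have h2 : ∀ K : Subgroup G, C[Subgroup.zpowers z] ≤ K →
        C[Subgroup.zpowers z].relIndex K * Nat.card C[Subgroup.zpowers z] = Nat.card K := by
      intro K hK
      rw [Subgroup.relIndex, ← Nat.card_congr (Subgroup.subgroupOfEquivOfLe hK).toEquiv,
        Subgroup.index_mul_card]
    refine Nat.eq_of_mul_eq_mul_right (Nat.card_pos (α := C[Subgroup.zpowers z])) ?_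
    rw [h2 N (hCS.trans hSN), h1, mul_assoc]
    congr 1
    exact h2 S hCS
  -- the other blocks
  have hout : ∀ β, β ∉ O → ∃ k : ℤ, degPart χ β = (p : ℂ) * k := fun β hβ =>
    dvd_degPart hM hc.order (by rw [hχB]; exact fun h' => hβ (hpairO β h'))
  choose! k hk using hout
  have hin : ∀ β ∈ O, degPart χ β = degPart χ c := by
    intro β hβ
    obtain ⟨g, -, rfl⟩ := Finset.mem_image.mp hβ
    exact degPart_conj χ c g.2
  have htot := sum_degPart (M := M) (z := z) χ
  rw [← Finset.sum_add_sum_compl O, Finset.sum_congr rfl hin, Finset.sum_const, nsmul_eq_mul,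
    hc_part, Finset.sum_congr rfl fun β hβ => hk β (Finset.mem_compl.mp hβ), ← Finset.mul_sum,
    BlocksChars5.Basic.apply_one] at htot
  have hfe : C[Subgroup.zpowers z].relIndex N / eIdx hc = O.card := by
    rw [← hOcard, Nat.mul_div_cancel _ (hc.eIdx_pos hM)]
  rw [hfe]
  refine Int.modEq_iff_dvd.mpr ⟨-(O.card * (mθ + δ χ) * Cfsg.charDegree (θ : C[Subgroup.zpowers z] → ℂ) +
    ∑ β ∈ Oᶜ, k β), ?_⟩
  apply @Int.cast_injective ℂ
  simp only [Int.cast_sub, Int.cast_mul, Int.cast_neg, Int.cast_add, Int.cast_natCast, Nat.cast_mul,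
    Int.cast_sum] at htot ⊢
  linear_combination htot

end Degree

end Cfsg.Agent.Lib.CyclicBlocks.PrimeOrder
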