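import Cfsg.Agent.Lib.CyclicBlocks.Linked
import Cfsg.Agent.Lib.CyclicBlocks.PrimeOrder
import Cfsg.Agent.Lib.BC77.PConj

/-!
# The `p`-conjugates of the characters of a block of defect one

With `p` dividing the order once the exceptional characters form one class of `p`-conjugates and
the other characters of the block are fixed.
-/

set_option autoImplicit false
set_option linter.style.haveILetI false
set_option linter.unusedSectionVars false

namespace Cfsg.Agent.Lib.CyclicBlocks.Galois

open Cfsg.Agent.Lib.BrauerPairs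
open Cfsg.Agent.Lib.BrauerPairs.Center Cfsg.Agent.Lib.BrauerPairs.Pairs
open Cfsg.Agent.Lib.BrauerPairs.Bridge Cfsg.Agent.Lib.BrauerPairs.Local
open Cfsg.Agent.Lib.BrauerPairs.Conj
open Cfsg.Agent.Lib.CyclicBlocks.Local Cfsg.Agent.Lib.CyclicBlocks.Main
open Cfsg.Agent.Lib.CyclicBlocks.Chars Cfsg.Agent.Lib.CyclicBlocks.Family
open Cfsg.Agent.Lib.CyclicBlocks.Induced
open Cfsg.Agent.Lib.Blocks.Contrib
open Cfsg.Agent.Lib.Characters.Basic
open Cfsg.Agent.Lib.Induced.Basic
open Cfsg.Agent.Lib.BC77.PConj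
open scoped ComplexConjugate

universe u

attribute [local instance] Ideal.Quotient.field

variable {M : Ideal Cfsg.AlgInt} [M.IsMaximal] {G : Type u} [Group G] [Finite G]
  {p : ℕ} [Fact p.Prime]

/-- A character agreeing on regular elements with one of a block lies in it. -/
theorem mem_of_regular_eq {H : Type u} [Group H] [Finite H] (hM : Cfsg.IsPModular p M)
    {B : Set (Cfsg.IrrCharacter H)} (hB : Cfsg.IsPBlock M B) {χ φ : Cfsg.IrrCharacter H}
    (hχ : χ ∈ B) (h : ∀ g : H, ¬ p ∣ orderOf g → (φ : H → ℂ) g = (χ : H → ℂ) g) : φ ∈ B := by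
  classical
  haveI := Fintype.ofFinite H
  by_contra hno
  have h0 := contribN_eq_zero (p := p) hM hB hχ hno
  have hpos := contribN_self_pos hM hB hχ
  have heq : regSum p (χ : H → ℂ) (φ : H → ℂ) = regSum p (χ : H → ℂ) (χ : H → ℂ) := by
    rw [regSum_eq_sum, regSum_eq_sum]
    refine Finset.sum_congr rfl fun g _ => ?_
    split_ifs with hg
    · rfl
    · rw [h g⁻¹ (by rwa [orderOf_inv])]
  rw [regSum_eq_contribN, regSum_eq_contribN, h0, Int.cast_zero, mul_zero, zero_eq_mul] at heq
  rcases heq with h | h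
  · exact (primeToCard_pos (G := H) p).ne' (Nat.cast_eq_zero.1 h)
  · exact hpos.ne' (Int.cast_eq_zero.1 h)

/-- The unit realising a power on the `p`-part. -/
theorem exists_gal_congr (hsq : ¬ p ^ 2 ∣ Nat.card G) (hdiv : p ∣ Nat.card G) {a : ℕ}
    (ha : ¬ p ∣ a) : ∃ u ∈ gal (G := G) p, expo (G := G) u ≡ a [MOD p] := by
  have hp : p.Prime := Fact.out
  set m := Nat.card G / p ^ (Nat.card G).factorization p with hm
  have hv : (Nat.card G).factorization p = 1 := by
    have h1 := (hp.dvd_iff_one_le_factorization Nat.card_pos.ne').mp hdiv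
    have h2 : ¬ 2 ≤ (Nat.card G).factorization p := fun h =>
      hsq ((hp.pow_dvd_iff_le_factorization Nat.card_pos.ne').mpr h)
    omega
  have hmN : p * m = Nat.card G := by
    have := Nat.ordProj_mul_ordCompl_eq_self (Nat.card G) p
    rw [hm, hv, pow_one]
    rwa [hv, pow_one] at this
  have hpm : p.Coprime m := Nat.coprime_ordCompl hp Nat.card_pos.ne'
  obtain ⟨k, hk1, hk2⟩ := Nat.chineseRemainder hpm a 1
  have hk : k.Coprime (Nat.card G) := by
    rw [← hmN]
    refine Nat.Coprime.mul_right ?_ ?_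
    · rw [Nat.coprime_comm, hp.coprime_iff_not_dvd, Nat.dvd_iff_mod_eq_zero,
        (hk1 : k % p = a % p), ← Nat.dvd_iff_mod_eq_zero]
      exact ha
    · rw [Nat.Coprime, Nat.gcd_comm, Nat.gcd_rec, (hk2 : k % m = 1 % m), ← Nat.gcd_rec,
        Nat.gcd_one_right]
  have he : ∀ d, d ∣ Nat.card G → expo (G := G) (ZMod.unitOfCoprime k hk) ≡ k [MOD d] := by
    intro d hd
    show ((ZMod.unitOfCoprime k hk : (ZMod (Nat.card G))ˣ) : ZMod (Nat.card G)).val ≡ k [MOD d]
    rw [ZMod.coe_unitOfCoprime, ZMod.val_natCast]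
    exact (Nat.mod_modEq _ _).of_dvd hd
  exact ⟨ZMod.unitOfCoprime k hk,
    (mem_gal_iff p _).mpr ((he m (Nat.ordCompl_dvd _ p)).trans hk2), (he p hdiv).trans hk1⟩

variable [CharP (Res M) p] {ψ : Blk (Res M) G} {z : G}
  {c : Blk (Res M) (Subgroup.centralizer (Subgroup.zpowers z : Set G))}

local notation "C[" P "]" => Subgroup.centralizer ((P : Subgroup G) : Set G)

/-- The exceptional characters form a class of `p`-conjugates, the others are fixed. -/
theorem exists_struct (hM : Cfsg.IsPModular p M) (hsq : ¬ p ^ 2 ∣ Nat.card G)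
    (hc : Cyc p ψ (Subgroup.zpowers z) c z) :
    ∃ X Y δ δ₀, CyclicStruct p (toSet ψ) p (eIdx hc) X Y δ δ₀ ∧
      (∀ η ∈ Y, ∀ φ, φ ∈ MulAction.orbit (gal (G := G) p) η ↔ φ ∈ Y) ∧
      ∀ χ ∈ X, ∀ φ, φ ∈ MulAction.orbit (gal (G := G) p) χ → φ = χ := by
  classical
  haveI := Fintype.ofFinite G
  haveI := Fintype.ofFinite C[Subgroup.zpowers z]
  have hp : p.Prime := Fact.out
  have hdiv : p ∣ Nat.card G := hc.order ▸ orderOf_dvd_natCard z
  have hzC : Subgroup.zpowers (PrimeOrder.zC z) ≤ Subgroup.center C[Subgroup.zpowers z] :=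
    Subgroup.zpowers_le.mpr (Subgroup.mem_center_iff.mpr fun s => (PrimeOrder.zC_comm z s).eq.symm)
  have hbD : Cfsg.IsDefectGroup p M (toSet c) (Subgroup.zpowers (PrimeOrder.zC z)) := by
    have h1 := hc.isDefectGroup_bz
    rw [PrimeOrder.bz_eq hc] at h1
    convert h1 using 1
    refine Subgroup.map_injective C[Subgroup.zpowers z].subtype_injective ?_
    rw [MonoidHom.map_zpowers, Subgroup.subgroupOf_map_subtype,
      inf_eq_left.mpr hc.le_centralizer]
    rfl
  obtain ⟨θ, hθ, hker, -⟩ := CentralRank.exists_scalar hM (isPBlock_toSet c) hbD hzC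
  have hθz : (θ : C[Subgroup.zpowers z] → ℂ) (PrimeOrder.zC z) =
      (θ : C[Subgroup.zpowers z] → ℂ) 1 :=
    (BlocksChars5.Basic.mem_charKer θ _).mp (hker (Subgroup.mem_zpowers _))
  have hθ' : θ ∈ toSet (bz hc) := by rwa [PrimeOrder.bz_eq]
  obtain ⟨h, hh, Q, hO, -⟩ := exists_orbits_of hM hc θ hθ' fun x hx =>
    PrimeOrder.cj_theta hM hsq hc hθ hθz hx
  obtain ⟨X, Y, δ, δ₀, hs, y, hy, hY, hlink⟩ := exists_linked hM hc (Rank.le_blockRank hM hc) hO
  have hcardZ : Nat.card (Subgroup.zpowers z) = p := by rw [Nat.card_zpowers, hc.order]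
  rw [hcardZ] at hs
  -- values in the local block
  have hval : ∀ ξ ∈ toSet c, ∀ s : C[Subgroup.zpowers z], ∃ (j : ℕ) (t : C[Subgroup.zpowers z]),
      ¬ p ∣ orderOf t ∧ Commute (PrimeOrder.zC z ^ j) t ∧ PrimeOrder.zC z ^ j * t = s ∧
      (ξ : C[Subgroup.zpowers z] → ℂ) s =
        Blocks.SectionMatrix.lam (PrimeOrder.zC z) ξ ^ j * (θ : C[Subgroup.zpowers z] → ℂ) t := by
    intro ξ hξ s
    obtain ⟨v, t, e1, e2, ⟨i, hi⟩, e3⟩ := Blocks.exists_isPPart hp s
    obtain ⟨j, hj⟩ := (Submonoid.mem_powers_iff _ _).mp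
      ((isOfFinOrder_of_finite z).mem_powers_iff_mem_zpowers.mpr
        (PrimeOrder.mem_zpowers_of_commute hsq hc.order ⟨i, (Subgroup.orderOf_coe v).trans hi⟩
          (congrArg Subtype.val (PrimeOrder.zC_comm z v).eq).symm))
    have hv : v = PrimeOrder.zC z ^ j := Subtype.ext (by rw [SubgroupClass.coe_pow]; exact hj.symm)
    refine ⟨j, t, e3, hv ▸ e2, hv ▸ e1, ?_⟩
    rw [← e1, hv, Blocks.SectionMatrix.apply_pow_mul (PrimeOrder.zC_comm z) ξ j t,
      values_eq hM hc (ξ := ξ) (ξ' := θ) (by rwa [PrimeOrder.bz_eq]) hθ' e3]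
  have hone : ∀ ξ : Cfsg.IrrCharacter C[Subgroup.zpowers z],
      (ξ : C[Subgroup.zpowers z] → ℂ) 1 ≠ 0 := fun ξ => by
    rw [BlocksChars5.Basic.apply_one]
    exact Nat.cast_ne_zero.mpr (BlocksChars5.Basic.degree_pos ξ).ne'
  -- moving the inner products
  have hmove : ∀ u ∈ gal (G := G) p, ∀ ξ ξ' : Cfsg.IrrCharacter C[Subgroup.zpowers z],
      (∀ s, (ξ' : C[Subgroup.zpowers z] → ℂ) s =
        (ξ : C[Subgroup.zpowers z] → ℂ) (s ^ expo (G := G) u)) →
      ∀ χ : Cfsg.IrrCharacter G,
        Cfsg.classInner (Cfsg.indFun C[Subgroup.zpowers z] (dif ξ' θ)) ((u • χ :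
          Cfsg.IrrCharacter G) : G → ℂ) =
        Cfsg.classInner (Cfsg.indFun C[Subgroup.zpowers z] (dif ξ θ)) (χ : G → ℂ) := by
    intro u hu ξ ξ' hpow χ
    have hcop : (Nat.card C[Subgroup.zpowers z]).Coprime (expo (G := G) u) :=
      ((expo_coprime (G := G) u).coprime_dvd_right (Subgroup.card_subgroup_dvd_card _)).symm
    rw [frobenius_reciprocity _ _ (isClassFunction_irr _),
      frobenius_reciprocity _ _ (isClassFunction_irr _), Cfsg.classInner, Cfsg.classInner]
    congr 1
    refine Fintype.sum_equiv (powCoprime hcop) _ _ fun s => ?_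
    show _ = dif ξ θ (s ^ expo (G := G) u) *
      conj ((χ : G → ℂ) ((s ^ expo (G := G) u : C[Subgroup.zpowers z]) : G))
    rw [SubgroupClass.coe_pow, dif_apply, dif_apply, hpow]
    congr 2
    obtain ⟨j, t, ht, hcm, hs', hθs⟩ := hval θ hθ s
    have hlam : Blocks.SectionMatrix.lam (PrimeOrder.zC z) θ = 1 := by
      rw [Blocks.SectionMatrix.lam, hθz, div_self (hone θ)]
    have ht' : t ^ expo (G := G) u = t := Subtype.ext (by
      rw [SubgroupClass.coe_pow]
      exact pow_expo_regular p hu (by rwa [Subgroup.orderOf_coe]))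
    rw [hθs, hlam, one_pow, one_mul, ← hs', hcm.mul_pow, ht', ← pow_mul,
      Blocks.SectionMatrix.apply_pow_mul (PrimeOrder.zC_comm z), hlam, one_pow, one_mul]
  have hYne : Y.Nonempty := Theorem.Y_nonempty hs hp.one_lt
  have hreg : ∀ u ∈ gal (G := G) p, ∀ (χ : Cfsg.IrrCharacter G) (g : G), ¬ p ∣ orderOf g →
      ((u • χ : Cfsg.IrrCharacter G) : G → ℂ) g = (χ : G → ℂ) g := fun u hu χ g hg => by
    show (u • χ : Cfsg.IrrCharacter G).1 g = _
    rw [BC77.PConj.smul_apply, pow_expo_regular p hu hg]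
  have hstay : ∀ u ∈ gal (G := G) p, ∀ χ : Cfsg.IrrCharacter G, χ ∈ toSet ψ →
      u • χ ∈ toSet ψ := fun u hu χ hχ =>
    mem_of_regular_eq hM (isPBlock_toSet ψ) hχ (hreg u hu χ)
  have hLI := Linked.linearIndependent_X hs
  rw [Fintype.linearIndependent_iff] at hLI
  have hfix : ∀ χ ∈ X, ∀ u ∈ gal (G := G) p, u • χ = χ := by
    intro χ hχ u hu
    rcases (hs.mem_iff (u • χ)).mp (hstay u hu χ ((hs.mem_iff χ).mpr (Or.inl hχ))) with h1 | h1
    · by_contra hne
      have h2 := hLI (fun a => (if (a : Cfsg.IrrCharacter G) = u • χ then 1 else 0) -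
        if (a : Cfsg.IrrCharacter G) = χ then 1 else 0) (funext fun g => by
          simp only [sub_smul, ite_smul, one_smul, zero_smul, Finset.sum_sub_distrib]
          rw [Finset.sum_coe_sort X fun a => if a = u • χ then
              Cfsg.pRegularPart p (a : G → ℂ) else 0,
            Finset.sum_coe_sort X fun a => if a = χ then Cfsg.pRegularPart p (a : G → ℂ) else 0,
            Finset.sum_ite_eq', Finset.sum_ite_eq', if_pos h1, if_pos hχ, Pi.sub_apply,
            pRegularPart_apply, pRegularPart_apply]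
          split_ifs with hg
          · simp
          · rw [hreg u hu χ g hg, sub_self]; rfl) ⟨χ, hχ⟩
      simp [Ne.symm hne] at h2
    -- the image would be exceptional
    exfalso
    have h2 := hLI (fun a => (δ a : ℂ) + if (a : Cfsg.IrrCharacter G) = χ then (δ₀ : ℂ) else 0)
      (funext fun g => by
        simp only [add_smul, ite_smul, zero_smul, Finset.sum_add_distrib]
        rw [Finset.sum_coe_sort X fun a => (δ a : ℂ) • Cfsg.pRegularPart p (a : G → ℂ),
          Finset.sum_coe_sort X fun a =>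
            if a = χ then (δ₀ : ℂ) • Cfsg.pRegularPart p (a : G → ℂ) else 0,
          Finset.sum_ite_eq', if_pos hχ, Pi.add_apply, Finset.sum_apply]
        simp only [Pi.smul_apply, smul_eq_mul, pRegularPart_apply, Pi.zero_apply]
        by_cases hg : p ∣ orderOf g
        · simp [hg]
        · simp only [if_neg hg]
          have h3 := hs.relation _ h1 g hg
          rw [hreg u hu χ g hg] at h3
          linear_combination h3)
    have hXone : ∀ a ∈ X, a = χ := by
      intro a ha
      by_contra hne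
      have h3 := h2 ⟨a, ha⟩
      simp only [hne, if_false, add_zero, Int.cast_eq_zero] at h3
      rcases hs.sign a ha with h4 | h4 <;> omega
    have he1 : eIdx hc = 1 := by
      rw [← hs.cardX]
      exact Finset.card_eq_one.mpr ⟨χ, Finset.eq_singleton_iff_unique_mem.mpr ⟨hχ, hXone⟩⟩
    have hQcard := hO.card
    rw [he1, one_mul, hcardZ] at hQcard
    rcases Nat.lt_or_ge Q.card 2 with hlt | hge
    · -- `p = 2`
      have hp2 : p = 2 := by have := hp.two_le; omega
      have hu1 : u = 1 := by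
        refine Units.ext ?_
        have h5 := (mem_gal_iff p u).mp hu
        have hv : (Nat.card G).factorization p = 1 := by
          have h6 := (hp.dvd_iff_one_le_factorization Nat.card_pos.ne').mp hdiv
          have h7 : ¬ 2 ≤ (Nat.card G).factorization p := fun h =>
            hsq ((hp.pow_dvd_iff_le_factorization Nat.card_pos.ne').mpr h)
          omega
        have h8 : expo (G := G) u ≡ 1 [MOD p] := by
          have h9 : (expo (G := G) u).Coprime p := (expo_coprime u).coprime_dvd_right hdiv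
          show expo (G := G) u % p = 1 % p
          subst hp2
          rcases Nat.mod_two_eq_zero_or_one (expo (G := G) u) with h10 | h10
          · exact absurd h9 (fun h => hp.one_lt.ne' (Nat.Coprime.eq_one_of_dvd h.symm
              (Nat.dvd_of_mod_eq_zero h10)))
          · rw [h10]
        have h11 : expo (G := G) u ≡ 1 [MOD p * (Nat.card G / p ^ (Nat.card G).factorization p)] :=
          (Nat.modEq_and_modEq_iff_modEq_mul (Nat.coprime_ordCompl hp Nat.card_pos.ne')).mp
            ⟨h8, h5⟩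
        have hN := Nat.ordProj_mul_ordCompl_eq_self (Nat.card G) p
        rw [hv, pow_one] at hN h11
        rw [hN, ← ZMod.natCast_eq_natCast_iff, expo_cast, Nat.cast_one] at h11
        rw [h11, Units.val_one]
      rw [hu1, one_smul] at h1
      exact Finset.disjoint_left.mp hs.disjoint hχ h1
    · obtain ⟨q₀, hq₀⟩ := (hY _).mp h1
      obtain ⟨q, hqQ, hne⟩ := Finset.exists_mem_ne (by omega : 1 < Q.card)
        (q₀ : Cfsg.IrrCharacter C[Subgroup.zpowers z])
      -- the character whose conjugate is `q`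
      have hu' : u⁻¹ ∈ gal (G := G) p := inv_mem hu
      have hcop : (expo (G := G) u⁻¹).Coprime (Nat.card C[Subgroup.zpowers z]) :=
        (expo_coprime (G := G) u⁻¹).coprime_dvd_right (Subgroup.card_subgroup_dvd_card _)
      let ξ : Cfsg.IrrCharacter C[Subgroup.zpowers z] :=
        ⟨_, BC78.PowChar.isIrrCharacter_pow q.2 hcop⟩
      have hξdef : ∀ s, (ξ : C[Subgroup.zpowers z] → ℂ) s =
          (q : C[Subgroup.zpowers z] → ℂ) (s ^ expo (G := G) u⁻¹) := fun s => rfl
      have hback : ∀ s, (q : C[Subgroup.zpowers z] → ℂ) s =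
          (ξ : C[Subgroup.zpowers z] → ℂ) (s ^ expo (G := G) u) := fun s => by
        rw [hξdef]
        refine congrArg (q : C[Subgroup.zpowers z] → ℂ) (Subtype.ext ?_)
        rw [SubgroupClass.coe_pow, SubgroupClass.coe_pow, ← pow_expo_mul, mul_inv_cancel,
          pow_expo_one]
      have hqc : q ∈ toSet c := by rw [← PrimeOrder.bz_eq hc]; exact hO.subset q hqQ
      have hξmem : ξ ∈ toSet (bz hc) := by
        rw [PrimeOrder.bz_eq]
        refine mem_of_regular_eq hM (isPBlock_toSet c) hqc fun s hs' => ?_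
        rw [hξdef]
        refine congrArg (q : C[Subgroup.zpowers z] → ℂ) (Subtype.ext ?_)
        rw [SubgroupClass.coe_pow]
        exact pow_expo_regular p hu' (by rwa [Subgroup.orderOf_coe])
      have hξne : ξ ≠ θ := by
        intro e
        refine hO.notMem₀ ((PrimeOrder.eq_of_ker hM hsq hc hθ hqc hθz ?_) ▸ hqQ)
        refine (hback _).trans (Eq.trans ?_ (hback 1).symm)
        rw [one_pow, e]
        have h12 := (BlocksChars5.Basic.mem_charKer θ _).mp
          (hker (Subgroup.pow_mem _ (Subgroup.mem_zpowers (PrimeOrder.zC z)) (expo (G := G) u)))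
        exact h12
      have h13 := hmove u hu ξ q hback χ
      rw [Linked.classInner_X hM hO hs hY (hlink ·) hχ hξmem hξne, ← hq₀,
        Linked.classInner_Y hs hy hY (hlink ·) ⟨q, hqQ⟩ q₀,
        if_neg fun e => hne (congrArg Subtype.val e)] at h13
      rcases hs.sign χ hχ with h14 | h14 <;> simp [h14] at h13
  have hYclosed : ∀ η ∈ Y, ∀ u ∈ gal (G := G) p, u • η ∈ Y := by
    intro η hη u hu
    rcases (hs.mem_iff (u • η)).mp (hstay u hu η ((hs.mem_iff η).mpr (Or.inr hη))) with h1 | h1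
    · have h2 := hfix _ h1 u⁻¹ (inv_mem hu)
      rw [inv_smul_smul] at h2
      rw [← h2] at h1
      exact absurd hη (Finset.disjoint_left.mp hs.disjoint h1)
    · exact h1
  refine ⟨X, Y, δ, δ₀, hs, fun η hη φ => ⟨?_, fun hφ => ?_⟩, ?_⟩
  · rintro ⟨⟨u, hu⟩, rfl⟩
    exact hYclosed η hη u hu
  · obtain ⟨q, rfl⟩ := (hY η).mp hη
    obtain ⟨q', rfl⟩ := (hY φ).mp hφ
    have hlam : ∀ a : Q, IsPrimitiveRoot
        (Blocks.SectionMatrix.lam (PrimeOrder.zC z)
          (a : Cfsg.IrrCharacter C[Subgroup.zpowers z])) p := by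
      intro a
      have hac : (a : Cfsg.IrrCharacter C[Subgroup.zpowers z]) ∈ toSet c := by
        rw [← PrimeOrder.bz_eq hc]; exact hO.subset _ a.2
      have hpow : Blocks.SectionMatrix.lam (PrimeOrder.zC z)
          (a : Cfsg.IrrCharacter C[Subgroup.zpowers z]) ^ p = 1 := by
        have h2 := Blocks.SectionMatrix.apply_pow_mul (PrimeOrder.zC_comm z)
          (a : Cfsg.IrrCharacter C[Subgroup.zpowers z]) p 1
        rw [mul_one, show PrimeOrder.zC z ^ p = 1 from Subtype.ext (by
          rw [SubgroupClass.coe_pow]; show z ^ p = 1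
          rw [← hc.order, pow_orderOf_eq_one])] at h2
        exact mul_right_cancel₀ (hone _) (h2.symm.trans (one_mul _).symm)
      have hne : Blocks.SectionMatrix.lam (PrimeOrder.zC z)
          (a : Cfsg.IrrCharacter C[Subgroup.zpowers z]) ≠ 1 := by
        intro h1
        rw [Blocks.SectionMatrix.lam, div_eq_one_iff_eq (hone _)] at h1
        exact hO.notMem₀ ((PrimeOrder.eq_of_ker hM hsq hc hθ hac hθz h1) ▸ a.2)
      have ho := orderOf_eq_prime hpow hne
      rw [← ho]
      exact IsPrimitiveRoot.orderOf _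
    obtain ⟨a, hap, ha⟩ := (hlam q).eq_pow_of_pow_eq_one (hlam q').pow_eq_one
    have hna : ¬ p ∣ a := by
      intro hd
      rw [Nat.eq_zero_of_dvd_of_lt hd hap, pow_zero] at ha
      exact (hlam q').ne_one hp.one_lt ha.symm
    obtain ⟨u, hu, hua⟩ := exists_gal_congr hsq hdiv hna
    refine ⟨⟨u, hu⟩, ?_⟩
    show u • y q = y q'
    have hpowq : ∀ s, ((q' : Cfsg.IrrCharacter C[Subgroup.zpowers z]) :
        C[Subgroup.zpowers z] → ℂ) s = ((q : Cfsg.IrrCharacter C[Subgroup.zpowers z]) :
        C[Subgroup.zpowers z] → ℂ) (s ^ expo (G := G) u) := by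
      intro s
      obtain ⟨j, t, ht, hcm, hs', hv⟩ := hval (q' : _)
        (by rw [← PrimeOrder.bz_eq hc]; exact hO.subset _ q'.2) s
      have ht' : t ^ expo (G := G) u = t := Subtype.ext (by
        rw [SubgroupClass.coe_pow]
        exact pow_expo_regular p hu (by rwa [Subgroup.orderOf_coe]))
      rw [hv, ← hs', hcm.mul_pow, ht', ← pow_mul,
        Blocks.SectionMatrix.apply_pow_mul (PrimeOrder.zC_comm z),
        values_eq hM hc (ξ := (q : _)) (ξ' := θ) (hO.subset _ q.2) hθ' ht]
      congr 1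
      rw [← ha, ← pow_mul, ← pow_mod_orderOf,
        ← pow_mod_orderOf (Blocks.SectionMatrix.lam (PrimeOrder.zC z)
          (q : Cfsg.IrrCharacter C[Subgroup.zpowers z])) (j * _), ← (hlam q).eq_orderOf]
      refine congrArg _ ?_
      rw [Nat.mul_comm j]
      exact (hua.mul_right j).symm
    obtain ⟨q'', hq''⟩ := (hY _).mp (hYclosed _ hη u hu)
    have h2 := hmove u hu (q : _) (q' : _) hpowq (y q)
    rw [← hq'', Linked.classInner_Y hs hy hY (hlink ·) q' q'',
      Linked.classInner_Y hs hy hY (hlink ·) q q, if_pos rfl] at h2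
    rw [← hq'']
    by_contra hne
    rw [if_neg fun e => hne (by rw [e])] at h2
    rcases hs.sign₀ with h0 | h0 <;> simp [h0] at h2
  · rintro χ hχ _ ⟨⟨u, hu⟩, rfl⟩
    exact hfix χ hχ u hu

end Cfsg.Agent.Lib.CyclicBlocks.Galois
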