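import Mathlib
import Cfsg.Agent.Lib.CyclicBlocks.Family
import Cfsg.Agent.Lib.BrauerMap.SecondMain
import Cfsg.Agent.Lib.Blocks.BlockPart
import Cfsg.Agent.Lib.Induced.Basic

/-!
# Induction from `C(z)` of the differences of two characters of the block

Such differences vanish on regular elements, so their induced functions have the inner products of
the stabilizer of the block and only involve the characters of the block of `G`.
-/

set_option autoImplicit false
set_option linter.style.haveILetI false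
set_option linter.unusedSectionVars false

namespace Cfsg.Agent.Lib.CyclicBlocks.Induced

open MonoidAlgebra Cfsg.Agent.Lib.BrauerMap.Basic
open Cfsg.Agent.Lib.BrauerPairs
open Cfsg.Agent.Lib.BrauerPairs.Center Cfsg.Agent.Lib.BrauerPairs.Trunc
open Cfsg.Agent.Lib.BrauerPairs.Conj Cfsg.Agent.Lib.BrauerPairs.Pairs
open Cfsg.Agent.Lib.BrauerPairs.Transport Cfsg.Agent.Lib.BrauerPairs.Maximal
open Cfsg.Agent.Lib.BrauerPairs.Bridge Cfsg.Agent.Lib.BrauerPairs.Local
open Cfsg.Agent.Lib.BrauerPairs.Principal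
open Cfsg.Agent.Lib.CyclicBlocks.Local Cfsg.Agent.Lib.CyclicBlocks.Chars
open Cfsg.Agent.Lib.CyclicBlocks.Family
open Cfsg.Agent.Lib.Blocks.Contrib
open Cfsg.Agent.Lib.Characters.Basic
open Cfsg.Agent.Lib.Induced.Basic
open scoped ComplexConjugate

universe u

attribute [local instance] Ideal.Quotient.field

variable {M : Ideal Cfsg.AlgInt} [M.IsMaximal] {G : Type u} [Group G]
  {p : ℕ} [Fact p.Prime] [CharP (Res M) p] [Fintype G] {ψ : Blk (Res M) G} {P : Subgroup G}
  {c : Blk (Res M) (Subgroup.centralizer (P : Set G))} {z : G}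

local notation "C[" P "]" => Subgroup.centralizer ((P : Subgroup G) : Set G)

/-- The difference of two characters. -/
def dif {H : Type u} [Group H] (ξ η : Cfsg.IrrCharacter H) : H → ℂ := (ξ : H → ℂ) - (η : H → ℂ)

theorem dif_apply {H : Type u} [Group H] (ξ η : Cfsg.IrrCharacter H) (s : H) :
    dif ξ η s = (ξ : H → ℂ) s - (η : H → ℂ) s := rfl

theorem isClassFunction_dif {H : Type u} [Group H] [Finite H] (ξ η : Cfsg.IrrCharacter H) :
    Cfsg.IsClassFunction H (dif ξ η) := fun g x => by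
  rw [dif_apply, dif_apply, isClassFunction_irr ξ, isClassFunction_irr η]

/-- Where the difference does not vanish, the `p`-part generates a subgroup containing `z`. -/
theorem mem_zpowers_of_ne (hM : Cfsg.IsPModular p M) (hc : Cyc p ψ P c z)
    {ξ η : Cfsg.IrrCharacter C[Subgroup.zpowers z]} (hξ : ξ ∈ toSet (bz hc))
    (hη : η ∈ toSet (bz hc)) {s u : C[Subgroup.zpowers z]} (hu : Cfsg.IsPPart p s u)
    (hne : dif ξ η s ≠ 0) : p ∣ orderOf s ∧ z ∈ Subgroup.zpowers (u : G) := by
  have hs : p ∣ orderOf s := by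
    by_contra hs
    exact hne (by rw [dif_apply, values_eq hM hc hξ hη hs, sub_self])
  refine ⟨hs, ?_⟩
  by_cases h : (ξ : _ → ℂ) s = 0
  · exact mem_zpowers_pPart hM hc hη hu hs fun h' => hne (by rw [dif_apply, h, h', sub_zero])
  · exact mem_zpowers_pPart hM hc hξ hu hs h

/-- The induced difference vanishes on regular elements. -/
theorem ind_apply_regular (hM : Cfsg.IsPModular p M) (hc : Cyc p ψ P c z)
    {ξ η : Cfsg.IrrCharacter C[Subgroup.zpowers z]} (hξ : ξ ∈ toSet (bz hc))
    (hη : η ∈ toSet (bz hc)) {g : G} (hg : ¬ p ∣ orderOf g) :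
    Cfsg.indFun C[Subgroup.zpowers z] (dif ξ η) g = 0 := by
  classical
  rw [indFun_apply, Finset.sum_eq_zero, mul_zero]
  intro x _
  split_ifs with hx
  · rw [dif_apply, values_eq hM hc hξ hη, sub_self]
    rwa [← Subgroup.orderOf_coe, show orderOf (x⁻¹ * g * x) = orderOf g by
      simpa using (MulAut.conj x⁻¹).orderOf_eq g]
  · rfl

/-! ### The inner products -/

/-- Extension by zero of a conjugate. -/
theorem extendByZero_conj (H : Subgroup G) {g : G} (hg : ∀ s, s ∈ H ↔ g * s * g⁻¹ ∈ H)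
    (θ : H → ℂ) (s : H) :
    Cfsg.extendByZero H θ (g⁻¹ * (s : G) * g) = θ ((conjEquiv g H H hg).symm s) := by
  have hmem : g⁻¹ * (s : G) * g ∈ H := (hg _).mpr (by simp [mul_assoc])
  rw [extendByZero_of_mem H θ hmem]
  rfl

theorem classInner_ind_ind (hM : Cfsg.IsPModular p M) (hc : Cyc p ψ P c z) {h : G}
    (hh : h ∈ stab (az hc))
    (hcover : ∀ x ∈ stab (az hc), ∃ i < eIdx hc, (h ^ i)⁻¹ * x ∈ C[Subgroup.zpowers z])
    (hiff : ∀ i : ℕ, h ^ i ∈ C[Subgroup.zpowers z] ↔ eIdx hc ∣ i)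
    [Fintype C[Subgroup.zpowers z]]
    {ξ η ξ' η' : Cfsg.IrrCharacter C[Subgroup.zpowers z]} (hξ : ξ ∈ toSet (bz hc))
    (hη : η ∈ toSet (bz hc)) (hξ' : ξ' ∈ toSet (bz hc)) (hη' : η' ∈ toSet (bz hc)) :
    Cfsg.classInner (Cfsg.indFun C[Subgroup.zpowers z] (dif ξ η))
        (Cfsg.indFun C[Subgroup.zpowers z] (dif ξ' η')) =
      ∑ i ∈ Finset.range (eIdx hc), Cfsg.classInner
        (dif (cj hc (pow_mem hh i) ξ) (cj hc (pow_mem hh i) η)) (dif ξ' η') := by
  classical
  set N := Subgroup.normalizer ((Subgroup.zpowers z : Subgroup G) : Set G) with hN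
  have hnorm : ∀ g ∈ N, ∀ s, s ∈ C[Subgroup.zpowers z] ↔ g * s * g⁻¹ ∈ C[Subgroup.zpowers z] := fun g hg => mem_centralizer_conj_iff hg
  set R : G → C[Subgroup.zpowers z] → ℂ := fun g s => Cfsg.extendByZero C[Subgroup.zpowers z] (dif ξ η) (g⁻¹ * (s : G) * g) with hR
  have hsupp : ∀ (g : G) (s : C[Subgroup.zpowers z]), g ∉ N → R g s * conj (dif ξ' η' s) = 0 := by
    intro g s hg
    by_contra hne
    obtain ⟨h1, h2⟩ := mul_ne_zero_iff.mp hne
    have h3 : dif ξ' η' s ≠ 0 := fun h => h2 (by rw [h, map_zero])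
    have hmem : g⁻¹ * (s : G) * g ∈ C[Subgroup.zpowers z] := by
      by_contra hm
      exact h1 (extendByZero_of_not_mem C[Subgroup.zpowers z] (dif ξ η) hm)
    obtain ⟨u, hu⟩ := Blocks.exists_isPPart (Fact.out : p.Prime) s
    obtain ⟨hs, hzu⟩ := mem_zpowers_of_ne hM hc hξ' hη' hu h3
    obtain ⟨v, hv⟩ := Blocks.exists_isPPart (Fact.out : p.Prime) (⟨_, hmem⟩ : C[Subgroup.zpowers z])
    have h4 : dif ξ η ⟨_, hmem⟩ ≠ 0 := by
      simp only [hR, extendByZero_of_mem C[Subgroup.zpowers z] (dif ξ η) hmem] at h1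
      exact h1
    obtain ⟨-, hzv⟩ := mem_zpowers_of_ne hM hc hξ hη hv h4
    -- the `p`-part is unique
    have hvu : (v : G) = g⁻¹ * (u : G) * g := by
      obtain ⟨y, e1, e2, ⟨k, hk⟩, e3⟩ := hu
      obtain ⟨y', f1, f2, ⟨k', hk'⟩, f3⟩ := hv
      have hconj : ∀ a : G, orderOf (g⁻¹ * a * g) = orderOf a := fun a => by
        simpa using (MulAut.conj g⁻¹).orderOf_eq a
      refine (BrauerMap.PrincipalSection.isPPart_unique (p := p) (Fact.out) (g := g⁻¹ * (s : G) * g) ?_ ?_)
      · exact ⟨(y' : G), congrArg Subtype.val f1, by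
          rw [commute_iff_eq]; exact congrArg Subtype.val f2.eq, ⟨k', by rw [Subgroup.orderOf_coe, hk']⟩,
          by rwa [Subgroup.orderOf_coe]⟩
      · refine ⟨g⁻¹ * (y : G) * g, ?_, ?_, ⟨k, by rw [hconj, Subgroup.orderOf_coe, hk]⟩,
          by rw [hconj, Subgroup.orderOf_coe]; exact e3⟩
        · rw [← e1, Subgroup.coe_mul]; group
        · rw [commute_iff_eq]
          have e2' : (u : G) * y = y * u := congrArg Subtype.val e2.eq
          calc g⁻¹ * (u : G) * g * (g⁻¹ * (y : G) * g) = g⁻¹ * ((u : G) * y) * g := by group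
            _ = g⁻¹ * ((y : G) * u) * g := by rw [e2']
            _ = _ := by group
    rw [hvu] at hzv
    obtain ⟨k, hk⟩ := Subgroup.mem_zpowers_iff.mp hzv
    have hw : g * z * g⁻¹ = (u : G) ^ k := by
      calc g * z * g⁻¹ = g * (g⁻¹ * (u : G) * g⁻¹⁻¹) ^ k * g⁻¹ := by rw [inv_inv, hk]
        _ = (u : G) ^ k := by rw [conj_zpow]; group
    refine hg (Subgroup.mem_normalizer_iff_map_conj_eq.mpr ?_)
    rw [MonoidHom.map_zpowers]
    have huz : Subgroup.zpowers (g * z * g⁻¹) ≤ Subgroup.zpowers (u : G) :=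
      Subgroup.zpowers_le.mpr (hw ▸ Subgroup.mem_zpowers_iff.mpr ⟨k, rfl⟩)
    refine Cfsg.Agent.S4645.eq_of_card_eq_of_cyclic (P := Subgroup.zpowers (u : G))
      (Subgroup.isCyclic_zpowers _) huz (Subgroup.zpowers_le.mpr hzu) ?_
    rw [Nat.card_zpowers, Nat.card_zpowers]
    exact (MulAut.conj g).orderOf_eq z
  -- conjugates in another block
  have hout : ∀ g ∈ N, g ∉ stab (az hc) → ∑ s : C[Subgroup.zpowers z], R g s * conj (dif ξ' η' s) = 0 := by
    intro g hg hgs
    set θ := conjEquiv g C[Subgroup.zpowers z] C[Subgroup.zpowers z] (hnorm g hg) with hθ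
    have hblk : ∀ a ∈ toSet (bz hc), pushIrr θ a ∉ toSet (bz hc) := by
      intro a ha hmem
      rw [mem_toSet, hθ, blkOf_pushIrr_conj, mem_toSet.mp ha] at hmem
      exact hgs (mem_stab_iff.mpr ⟨hg, (act_eq_iff (hg : g ∈ Subgroup.normalizer
        (Subgroup.zpowers z : Set G)) (bz hc)).mp hmem⟩)
    have hval : ∀ s, R g s = dif (pushIrr θ ξ) (pushIrr θ η) s := fun s =>
      extendByZero_conj C[Subgroup.zpowers z] (hnorm g hg) (dif ξ η) s
    have h0 : Cfsg.classInner (dif (pushIrr θ ξ) (pushIrr θ η)) (dif ξ' η') = 0 := by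
      have hne : ∀ a ∈ toSet (bz hc), ∀ b ∈ toSet (bz hc), pushIrr θ a ≠ b := fun a ha b hb h =>
        hblk a ha (by rw [h]; exact hb)
      simp only [dif, classInner_sub_left, classInner_sub_right, classInner_irr_of_ne (hne ξ hξ ξ' hξ'),
        classInner_irr_of_ne (hne ξ hξ η' hη'), classInner_irr_of_ne (hne η hη ξ' hξ'),
        classInner_irr_of_ne (hne η hη η' hη'), sub_zero]
    rw [Cfsg.classInner] at h0
    simp only [hval]
    exact (mul_eq_zero.mp h0).resolve_left (inv_ne_zero (Nat.cast_ne_zero.mpr Nat.card_pos.ne'))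
  -- Frobenius reciprocity
  rw [frobenius_reciprocity' _ _ (isClassFunction_indFun _ _), Cfsg.classInner]
  have e1 : ∑ s : C[Subgroup.zpowers z], Cfsg.indFun C[Subgroup.zpowers z] (dif ξ η) (s : G) * conj (dif ξ' η' s) =
      (Nat.card C[Subgroup.zpowers z] : ℂ)⁻¹ * ∑ g ∈ Finset.univ.filter (fun g : G => g ∈ stab (az hc)),
        ∑ s : C[Subgroup.zpowers z], R g s * conj (dif ξ' η' s) := by
    rw [Finset.mul_sum]
    refine Eq.trans ?_ (Eq.symm (Finset.sum_subset (Finset.filter_subset _ _) fun g _ hg => ?_))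
    · rw [← Finset.mul_sum, Finset.sum_comm, Finset.mul_sum]
      refine Finset.sum_congr rfl fun s _ => ?_
      rw [Cfsg.indFun, mul_assoc, Finset.sum_mul]
    · have hgs : g ∉ stab (az hc) := fun h' => hg (Finset.mem_filter.mpr ⟨Finset.mem_univ _, h'⟩)
      by_cases hgN : g ∈ N
      · rw [hout g hgN hgs, mul_zero]
      · rw [Finset.sum_eq_zero fun s _ => hsupp g s hgN, mul_zero]
  have e2 : ∀ i : ℕ, ∀ w : C[Subgroup.zpowers z], ∑ s : C[Subgroup.zpowers z], R (h ^ i * (w : G)) s * conj (dif ξ' η' s) =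
      (Nat.card C[Subgroup.zpowers z] : ℂ) * Cfsg.classInner
        (dif (cj hc (pow_mem hh i) ξ) (cj hc (pow_mem hh i) η)) (dif ξ' η') := by
    intro i w
    rw [Cfsg.classInner, ← mul_assoc, mul_inv_cancel₀ (Nat.cast_ne_zero.mpr Nat.card_pos.ne'),
      one_mul]
    refine Finset.sum_congr rfl fun s _ => ?_
    congr 1
    have hgx : h ^ i * (w : G) ∈ stab (az hc) :=
      mul_mem (pow_mem hh i) (centralizer_le_stab (az hc) w.2)
    rw [hR, dif_apply]
    refine (extendByZero_conj C[Subgroup.zpowers z] (stab_conj_iff hc hgx) (dif ξ η) s).trans ?_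
    rw [dif_apply, ← cj_apply hc hgx ξ, ← cj_apply hc hgx η,
      cj_mul hc (pow_mem hh i) (centralizer_le_stab (az hc) w.2),
      cj_mul hc (pow_mem hh i) (centralizer_le_stab (az hc) w.2),
      cj_eq_self_of_mem hc _ w.2, cj_eq_self_of_mem hc _ w.2]
  have hsame : ∀ (i j : ℕ) (w w' : C[Subgroup.zpowers z]), i < eIdx hc → j ≤ i →
      h ^ i * (w : G) = h ^ j * w' → i = j := by
    intro i j w w' hi hji e
    have h1 : h ^ (i - j) ∈ C[Subgroup.zpowers z] := by
      have e' : h ^ (i - j) * (w : G) = w' := by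
        refine mul_left_cancel (a := h ^ j) ?_
        rw [← mul_assoc, ← pow_add, Nat.add_sub_cancel' hji]
        exact e
      rw [show h ^ (i - j) = (w' : G) * (w : G)⁻¹ by rw [← e', mul_inv_cancel_right]]
      exact mul_mem w'.2 (inv_mem w.2)
    have := Nat.eq_zero_of_dvd_of_lt ((hiff _).mp h1) (by omega)
    omega
  have e3 : ∑ g ∈ Finset.univ.filter (fun g : G => g ∈ stab (az hc)),
      ∑ s : C[Subgroup.zpowers z], R g s * conj (dif ξ' η' s) =
      ∑ q ∈ Finset.range (eIdx hc) ×ˢ (Finset.univ : Finset C[Subgroup.zpowers z]),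
        (Nat.card C[Subgroup.zpowers z] : ℂ) * Cfsg.classInner
          (dif (cj hc (pow_mem hh q.1) ξ) (cj hc (pow_mem hh q.1) η)) (dif ξ' η') := by
    symm
    refine Finset.sum_bij (fun q _ => h ^ q.1 * (q.2 : G)) (fun q _ => ?_) (fun a ha b hb e => ?_)
      (fun g hg => ?_) (fun q _ => (e2 q.1 q.2).symm)
    · exact Finset.mem_filter.mpr ⟨Finset.mem_univ _,
        mul_mem (pow_mem hh q.1) (centralizer_le_stab (az hc) q.2.2)⟩
    · have ha' := Finset.mem_range.mp (Finset.mem_product.mp ha).1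
      have hb' := Finset.mem_range.mp (Finset.mem_product.mp hb).1
      have h1 : a.1 = b.1 := (le_total b.1 a.1).elim (fun hle => hsame _ _ a.2 b.2 ha' hle e)
        fun hle => (hsame _ _ b.2 a.2 hb' hle e.symm).symm
      refine Prod.ext h1 (Subtype.ext ?_)
      rw [h1] at e
      exact mul_left_cancel e
    · obtain ⟨i, hi, hi'⟩ := hcover g (Finset.mem_filter.mp hg).2
      exact ⟨(i, ⟨_, hi'⟩), Finset.mem_product.mpr ⟨Finset.mem_range.mpr hi, Finset.mem_univ _⟩,
        mul_inv_cancel_left _ _⟩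
  rw [e1, e3, Finset.sum_product, Finset.mul_sum, Finset.mul_sum]
  refine Finset.sum_congr rfl fun i _ => ?_
  rw [Finset.sum_eq_card_nsmul (b := (Nat.card C[Subgroup.zpowers z] : ℂ) * Cfsg.classInner
      (dif (cj hc (pow_mem hh i) ξ) (cj hc (pow_mem hh i) η)) (dif ξ' η')) fun w _ => rfl,
    Finset.card_univ, nsmul_eq_mul, Fintype.card_eq_nat_card]
  have hne : (Nat.card C[Subgroup.zpowers z] : ℂ) ≠ 0 := Nat.cast_ne_zero.mpr Nat.card_pos.ne'
  field_simp

/-! ### Other blocks -/

/-- The idempotent of `bz` in the group algebra over the local ring. -/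
noncomputable def liftIdem (hc : Cyc p ψ P c z) :
    MonoidAlgebra (Blocks.localRing M) G :=
  MonoidAlgebra.mapDomainRingHom (Blocks.localRing M) C[Subgroup.zpowers z].subtype
    (Blocks.blockIdemR (isPBlock_toSet (bz hc))).1

theorem coeff_liftIdem (hc : Cyc p ψ P c z) (s : C[Subgroup.zpowers z]) :
    ((liftIdem hc).coeff (s : G) : ℂ) = Cfsg.blockCoeff (toSet (bz hc)) s := by
  rw [← Blocks.coe_coeff_blockIdemR (isPBlock_toSet (bz hc)) s, liftIdem]
  refine congrArg Subtype.val ?_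
  rw [MonoidAlgebra.mapDomainRingHom_apply]
  exact Finsupp.mapDomain_apply Subtype.val_injective _ _

theorem coeff_liftIdem_of_notMem (hc : Cyc p ψ P c z) {g : G}
    (hg : g ∉ C[Subgroup.zpowers z]) : (liftIdem hc).coeff g = 0 := by
  rw [liftIdem, MonoidAlgebra.mapDomainRingHom_apply]
  refine Finsupp.mapDomain_of_notMem_range _ _ ?_
  rintro ⟨s, rfl⟩
  exact hg s.2

theorem red_liftIdem (hc : Cyc p ψ P c z) :
    BrauerMap.SecondMain.red M (liftIdem hc) = bext C[Subgroup.zpowers z] (bz hc) := by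
  ext g
  rw [BrauerMap.SecondMain.coeff_red, bext]
  by_cases hg : g ∈ C[Subgroup.zpowers z]
  · rw [coeff_ext _ _ ⟨g, hg⟩]
    conv_rhs => rw [← blk_toSet (bz hc) (isPBlock_toSet (bz hc))]
    rw [coeff_bidem]
    exact congrArg (Blocks.residue M) (Subtype.ext (coeff_liftIdem hc ⟨g, hg⟩))
  · rw [coeff_liftIdem_of_notMem hc hg, map_zero, coeff_ext_of_notMem _ _ hg]

theorem liftIdem_mul_self (hc : Cyc p ψ P c z) : liftIdem hc * liftIdem hc = liftIdem hc := by
  rw [liftIdem, ← map_mul, ← Subalgebra.coe_mul, Blocks.blockIdemR_mul_self]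

theorem commute_liftIdem (hc : Cyc p ψ P c z) {v : G} (hv : v ∈ C[Subgroup.zpowers z]) :
    Commute (single v 1) (liftIdem hc) := by
  have h : single v (1 : Blocks.localRing M) = MonoidAlgebra.mapDomainRingHom (Blocks.localRing M)
      C[Subgroup.zpowers z].subtype (single ⟨v, hv⟩ 1) := by
    rw [MonoidAlgebra.mapDomainRingHom_apply]
    simp [MonoidAlgebra.mapDomain_single]
  rw [h, liftIdem]
  exact (show Commute (single (⟨v, hv⟩ : C[Subgroup.zpowers z]) (1 : Blocks.localRing M))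
    (Blocks.blockIdemR (isPBlock_toSet (bz hc))).1 from
      Subalgebra.mem_center_iff.mp (Blocks.blockIdemR (isPBlock_toSet (bz hc))).2 _).map _

/-- The part in `bz` of a character outside the block vanishes at the sections of `z`. -/
theorem blockPart_res_eq_zero (hM : Cfsg.IsPModular p M) (hc : Cyc p ψ P c z)
    [Fintype C[Subgroup.zpowers z]]
    {χ : Cfsg.IrrCharacter G} (hχ : χ ∉ toSet ψ) {s u : C[Subgroup.zpowers z]}
    (hu : Cfsg.IsPPart p s u) (hz : z ∈ Subgroup.zpowers (u : G)) :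
    Cfsg.blockPart (toSet (bz hc)) (fun v : C[Subgroup.zpowers z] => (χ : G → ℂ) v) s = 0 := by
  classical
  set ψ' := blkOf M χ with hψ'
  have hB := isPBlock_toSet ψ'
  obtain ⟨y, e1, e2, ⟨k, hk⟩, e3⟩ := hu
  have hx : Cfsg.IsPPart p (s : G) (u : G) := ⟨(y : G), congrArg Subtype.val e1,
    congrArg Subtype.val e2.eq, ⟨k, by rw [Subgroup.orderOf_coe, hk]⟩,
    by rwa [Subgroup.orderOf_coe]⟩
  have huC : Subgroup.zpowers (u : G) ≤ C[Subgroup.zpowers z] := Subgroup.zpowers_le.mpr u.2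
  have hval : ∀ ω : Blk (Res M) C[Subgroup.zpowers (u : G)],
      PairOf p (blk hB) (⟨Subgroup.zpowers (u : G), ω⟩ : Idx (Res M) G) →
        val (Subgroup.zpowers (u : G)) ω (BrauerMap.SecondMain.red M (1 - liftIdem hc)) = 1 := by
    intro ω hω
    set E := bext C[Subgroup.zpowers z] (bz hc) with hE
    have hzle : Subgroup.zpowers z ≤ Subgroup.zpowers (u : G) := Subgroup.zpowers_le.mpr hz
    have hfixC : IsFixedBy C[Subgroup.zpowers (u : G)] E := isFixedBy_centralizer_bext hzle _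
    have hfixU : IsFixedBy (Subgroup.zpowers (u : G)) E := isFixedBy_bext_of_le huC _
    have hidem : IsIdempotentElem E := bext_isIdem _ _
    rw [show BrauerMap.SecondMain.red M (1 - liftIdem hc) = 1 - E by
      rw [hE, ← red_liftIdem, BrauerMap.SecondMain.red, map_sub, map_one]; rfl]
    rcases val_zero_or_one hω.1 ω hidem hfixU hfixC with h0 | h1
    · have hfix1 : IsFixedBy C[Subgroup.zpowers (u : G)] (1 - E) := fun v hv g => by
        rw [coeff_sub, Finsupp.sub_apply, Finsupp.sub_apply, hfixC v hv g,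
          isFixedBy_one C[Subgroup.zpowers (u : G)] v hv g]
      have hsum : val _ ω (1 - E) + val (Subgroup.zpowers (u : G)) ω E = 1 := by
        rw [val_eq ω hfix1, val_eq ω hfixC, ← map_add]
        refine Eq.trans (congrArg ω (Subtype.ext ?_)) (map_one ω)
        show br _ (1 - E) + br _ E = 1
        rw [← br_add, sub_add_cancel, br_one]
      rw [h0, add_zero] at hsum
      exact hsum
    · exfalso
      have hle : Le p (az hc) (⟨Subgroup.zpowers (u : G), ω⟩ : Idx (Res M) G) :=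
        Relation.ReflTransGen.single
          ⟨hω.1, hzle, huC.trans (Subgroup.centralizer_le_normalizer _), hfixU, h1⟩
      have h2 := (pairOf_iff_of_le hω.1 hle (blk hB)).mpr hω
      have h3 := hc.pair_az
      rw [blk_toSet] at h2
      refine hχ ?_
      rw [mem_toSet]
      obtain ⟨_, h4⟩ := pairOf_iff.mp h2
      obtain ⟨_, h5⟩ := pairOf_iff.mp h3
      rw [← hψ']
      exact h4.symm.trans h5
  have hidem : (1 - liftIdem hc) * (1 - liftIdem hc) = 1 - liftIdem hc :=
    (show IsIdempotentElem (liftIdem hc) from liftIdem_mul_self hc).one_sub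
  have key := BrauerMap.SecondMain.apply_eq_sum_of_val_eq_one hM hB hx (1 - liftIdem hc) hidem
    (fun v hv => (Commute.one_right _).sub_right (commute_liftIdem hc ?_)) hval
    (χ := χ) (mem_toSet.mpr rfl)
  · have hco : ∀ k : G, ((1 - liftIdem hc).coeff k : ℂ) =
        (if k = 1 then 1 else 0) - ((liftIdem hc).coeff k : ℂ) := fun k => by
      rw [coeff_sub, Finsupp.sub_apply, one_def, coeff_single, Finsupp.single_apply]
      by_cases hk : k = 1
      · subst hk; simp
      · rw [if_neg (Ne.symm hk), if_neg hk]; simp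
    simp only [hco, sub_mul, ite_mul, one_mul, zero_mul, Finset.sum_sub_distrib, Finset.sum_ite_eq',
      Finset.mem_univ, if_true, mul_one] at key
    have h0 : ∑ k : G, ((liftIdem hc).coeff k : ℂ) * (χ : G → ℂ) ((s : G) * k) = 0 := by
      linear_combination key
    rw [Blocks.BlockPart.blockPart_eq_sum _ (fun a b => by
      simpa using isClassFunction_irr χ (a : G) (b : G))]
    refine Eq.trans ?_ h0
    refine Finset.sum_of_injOn (fun k : C[Subgroup.zpowers z] => (k : G))
      Subtype.val_injective.injOn (fun _ _ => Finset.mem_univ _) (fun g _ hg => ?_) fun k _ => ?_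
    · rw [coeff_liftIdem_of_notMem hc fun h => hg ⟨⟨g, h⟩, Finset.mem_univ _, rfl⟩]
      simp
    · rw [coeff_liftIdem, Subgroup.coe_mul]
  · rw [BrauerMap.SecondMain.mem_centralizer_zpowers_iff]
    obtain ⟨m, hm⟩ := Subgroup.mem_zpowers_iff.mp hz
    rw [← hm]
    exact hv.zpow_right m

/-- The induced difference only involves the characters of the block. -/
theorem classInner_ind_irr (hM : Cfsg.IsPModular p M) (hc : Cyc p ψ P c z)
    [Fintype C[Subgroup.zpowers z]]
    {ξ η : Cfsg.IrrCharacter C[Subgroup.zpowers z]} (hξ : ξ ∈ toSet (bz hc))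
    (hη : η ∈ toSet (bz hc)) {χ : Cfsg.IrrCharacter G} (hχ : χ ∉ toSet ψ) :
    Cfsg.classInner (Cfsg.indFun C[Subgroup.zpowers z] (dif ξ η)) (χ : G → ℂ) = 0 := by
  classical
  rw [frobenius_reciprocity _ _ (isClassFunction_irr χ)]
  set f : C[Subgroup.zpowers z] → ℂ := fun v => (χ : G → ℂ) v with hf
  have hsame : ∀ a ∈ toSet (bz hc), Cfsg.classInner (a : _ → ℂ) f =
      Cfsg.classInner (a : _ → ℂ) (Cfsg.blockPart (toSet (bz hc)) f) := fun a ha => by
    rw [← classInner_conj_symm f, ← classInner_conj_symm (Cfsg.blockPart _ f),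
      Blocks.BlockPart.classInner_blockPart, if_pos ha]
  have heq : Cfsg.classInner (dif ξ η) f =
      Cfsg.classInner (dif ξ η) (Cfsg.blockPart (toSet (bz hc)) f) := by
    simp only [dif, classInner_sub_left, hsame ξ hξ, hsame η hη]
  rw [heq, Cfsg.classInner, Finset.sum_eq_zero, mul_zero]
  intro s _
  by_cases h0 : dif ξ η s = 0
  · rw [h0, zero_mul]
  obtain ⟨u, hu⟩ := Blocks.exists_isPPart (Fact.out : p.Prime) s
  rw [blockPart_res_eq_zero hM hc hχ hu (mem_zpowers_of_ne hM hc hξ hη hu h0).2, map_zero, mul_zero]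

end Cfsg.Agent.Lib.CyclicBlocks.Induced
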