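import Cfsg.Agent.Lib.CyclicBlocks.Theorem
import Cfsg.Agent.Lib.PerfectIso.Columns

/-!
# Perfect isometries between blocks with cyclic defect groups

Two blocks whose exceptional characters are linked in the same way to local families of characters
with a perfect pairing are perfectly isometric.
-/

set_option autoImplicit false
set_option linter.style.haveILetI false
set_option linter.unusedSectionVars false

namespace Cfsg.Agent.Lib.CyclicBlocks.Isometry

open Cfsg.Agent.Lib.BrauerPairs.Center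
open Cfsg.Agent.Lib.CyclicBlocks.Main
open Cfsg.Agent.Lib.Blocks Cfsg.Agent.Lib.Blocks.Contrib Cfsg.Agent.Lib.BrauerChar
open Cfsg.Agent.Lib.Characters.Basic
open Cfsg.Agent.Lib.Induced.Basic

universe u v w w'

attribute [local instance] Ideal.Quotient.field

/-- One side of the comparison: a block with the structure of a cyclic block, linked to a family
`ξ` of functions on a subgroup. -/
structure Side (p : ℕ) (M : Ideal Cfsg.AlgInt) {L : Type u} [Group L] [Fintype L]
    (B : Set (Cfsg.IrrCharacter L)) (n e : ℕ) {J : Type w} [Fintype J] {I : Type w'} [Fintype I]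
    (j₀ : J) (r : J → I) (C : Subgroup L) (ξ : J → Cfsg.IrrCharacter C)
    (X Y : Finset (Cfsg.IrrCharacter L)) (δ : Cfsg.IrrCharacter L → ℤ) (δ₀ : ℤ)
    (y : I → Cfsg.IrrCharacter L) : Prop where
  block : Cfsg.IsPBlock M B
  struct : CyclicStruct p B n e X Y δ δ₀
  inj : Function.Injective y
  range : ∀ η, η ∈ Y ↔ ∃ i, y i = η
  link : ∀ j, j ≠ j₀ → ∀ g : L, Cfsg.indFun C (ξ j : C → ℂ) g - Cfsg.indFun C (ξ j₀ : C → ℂ) g =
    (δ₀ : ℂ) * (y (r j) : L → ℂ) g + ∑ χ ∈ X, (δ χ : ℂ) * (χ : L → ℂ) g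
  total : ∀ s : C, p ∣ orderOf s → ∑ j, (ξ j : C → ℂ) s = 0

section One

variable {p : ℕ} [Fact p.Prime] {M : Ideal Cfsg.AlgInt} [M.IsMaximal] {L : Type u} [Group L]
  [Fintype L]

open scoped Classical in
/-- An induced function over the order of the centralizer, class by class. -/
theorem ind_eq_sum (C : Subgroup L) [Fintype (ConjClasses C)] {f : C → ℂ}
    (hf : Cfsg.IsClassFunction C f) (g : L) :
    Cfsg.indFun C f g = (Nat.card (Subgroup.centralizer ({g} : Set L)) : ℂ) *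
      ∑ c : ConjClasses C with IsConj g (c.out : L),
        f c.out / (Nat.card (Subgroup.centralizer ({c.out} : Set C)) : ℂ) := by
  haveI := Fintype.ofFinite C
  have h1 : ∑ x : L, Cfsg.extendByZero C f (x⁻¹ * g * x) =
      ∑ x : L, Cfsg.extendByZero C f (x * g * x⁻¹) :=
    Fintype.sum_equiv (Equiv.inv L) _ _ fun x => by simp
  have h2 : ∑ t ∈ Finset.univ.image (fun v : L => v * g * v⁻¹), Cfsg.extendByZero C f t =
      ∑ a ∈ Finset.univ.filter (fun a : C => IsConj g (a : L)), f a := by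
    symm
    refine Finset.sum_of_injOn (fun a : C => (a : L)) Subtype.val_injective.injOn (fun a ha => ?_)
      (fun t ht hnot => ?_) fun a _ => (extendByZero_coe C f a).symm
    · obtain ⟨x, hx⟩ := isConj_iff.mp (Finset.mem_filter.mp (Finset.mem_coe.mp ha)).2
      exact Finset.mem_coe.mpr (Finset.mem_image.mpr ⟨x, Finset.mem_univ _, hx⟩)
    · refine extendByZero_of_not_mem C f fun htC => hnot ?_
      obtain ⟨x, -, hx⟩ := Finset.mem_image.mp ht
      exact ⟨⟨t, htC⟩, Finset.mem_coe.mpr (Finset.mem_filter.mpr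
        ⟨Finset.mem_univ _, isConj_iff.mpr ⟨x, hx⟩⟩), rfl⟩
  rw [Cfsg.indFun, h1, PerfectIso.sum_conj_fibre, h2, mul_left_comm]
  congr 1
  have h3 := BrauerMap.ClassSum.sum_invariant (G := C) {a : C | IsConj g (a : L)}
    (fun a b e h => h.trans (BrauerMap.Induced.isConj_coe e)) f
    fun a b e => classFunction_apply_of_isConj hf e
  simp only [Set.mem_setOf_eq] at h3
  rw [h3, Finset.mul_sum]
  refine Finset.sum_congr rfl fun c _ => ?_
  have hcard := (Subgroup.centralizer ({c.out} : Set C)).card_mul_index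
  rw [BrauerMap.ClassSum.card_isConj, nsmul_eq_mul, ← hcard, Nat.cast_mul, mul_inv]
  have h4 : ((Subgroup.centralizer ({c.out} : Set C)).index : ℂ) ≠ 0 :=
    Nat.cast_ne_zero.mpr Subgroup.index_ne_zero_of_finite
  field_simp

/-- The centralizer of a conjugate inside a subgroup is not larger. -/
theorem dvd_card_centralizer (C : Subgroup L) {g : L} {s : C} (h : IsConj g (s : L)) :
    Nat.card (Subgroup.centralizer ({s} : Set C)) ∣
      Nat.card (Subgroup.centralizer ({g} : Set L)) := by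
  obtain ⟨x, hx⟩ := isConj_iff.mp h
  have hle : ((Subgroup.centralizer ({s} : Set C)).map C.subtype).map
      (MulAut.conj x⁻¹).toMonoidHom ≤ Subgroup.centralizer ({g} : Set L) := by
    rintro _ ⟨_, ⟨c, hc, rfl⟩, rfl⟩
    rw [Subgroup.mem_centralizer_singleton_iff]
    have hc' : (c : L) * s = s * c :=
      congrArg Subtype.val (Subgroup.mem_centralizer_singleton_iff.mp hc)
    show x⁻¹ * (c : L) * x⁻¹⁻¹ * g = g * (x⁻¹ * (c : L) * x⁻¹⁻¹)
    rw [show g = x⁻¹ * (s : L) * x by rw [← hx]; group]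
    calc x⁻¹ * (c : L) * x⁻¹⁻¹ * (x⁻¹ * (s : L) * x) = x⁻¹ * ((c : L) * s) * x := by group
      _ = x⁻¹ * ((s : L) * c) * x := by rw [hc']
      _ = _ := by group
  have h1 := Subgroup.card_dvd_of_le hle
  rw [Nat.card_congr (Subgroup.equivMapOfInjective _ _ C.subtype_injective).toEquiv,
    Nat.card_congr (Subgroup.equivMapOfInjective _ (MulAut.conj x⁻¹).toMonoidHom
      (MulAut.conj x⁻¹).injective).toEquiv]
  exact h1

theorem dvd_orderOf_of_isConj {C : Subgroup L} {g : L} {s : C} (h : IsConj g (s : L))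
    (hg : p ∣ orderOf g) : p ∣ orderOf s := by
  obtain ⟨x, hx⟩ := isConj_iff.mp h
  rw [← Subgroup.orderOf_coe, ← hx, show x * g * x⁻¹ = MulAut.conj x g from rfl,
    MulEquiv.orderOf_eq]
  exact hg

variable {B : Set (Cfsg.IrrCharacter L)} {n e : ℕ} {J : Type w} [Fintype J] {I : Type w'}
  [Fintype I] {j₀ : J} {r : J → I} {C : Subgroup L} {ξ : J → Cfsg.IrrCharacter C}
  {X Y : Finset (Cfsg.IrrCharacter L)} {δ : Cfsg.IrrCharacter L → ℤ} {δ₀ : ℤ}
  {y : I → Cfsg.IrrCharacter L}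

open scoped Classical in
/-- The vector of a representative. -/
noncomputable def dvec (X : Finset (Cfsg.IrrCharacter L)) (δ : Cfsg.IrrCharacter L → ℤ) (δ₀ : ℤ)
    (y : I → Cfsg.IrrCharacter L) (i : I) (χ : Cfsg.IrrCharacter L) : ℤ :=
  if χ ∈ X then δ χ else if χ = y i then δ₀ else 0

variable (h : Side p M B n e j₀ r C ξ X Y δ δ₀ y)
include h

theorem Side.y_notMem (i : I) : y i ∉ X := fun hX =>
  Finset.disjoint_left.mp h.struct.disjoint hX ((h.range _).mpr ⟨i, rfl⟩)

theorem Side.y_mem (i : I) : y i ∈ B :=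
  (h.struct.mem_iff _).mpr (Or.inr ((h.range _).mpr ⟨i, rfl⟩))

theorem Side.sum_Y (F : Cfsg.IrrCharacter L → ℂ) : ∑ η ∈ Y, F η = ∑ i, F (y i) :=
  (Finset.sum_bij (fun i _ => y i) (fun i _ => (h.range _).mpr ⟨i, rfl⟩)
    (fun a _ b _ e => h.inj e)
    (fun η hη => by
      obtain ⟨i, hi⟩ := (h.range η).mp hη
      exact ⟨i, Finset.mem_univ _, hi⟩) fun _ _ => rfl).symm

theorem Side.sum_B (F : Cfsg.IrrCharacter L → ℂ) :
    ∑ χ ∈ bset B, F χ = ∑ χ ∈ X, F χ + ∑ i, F (y i) := by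
  classical
  rw [← h.sum_Y, ← Finset.sum_union h.struct.disjoint]
  refine Finset.sum_congr (Finset.ext fun χ => ?_) fun _ _ => rfl
  rw [mem_bset, Finset.mem_union, h.struct.mem_iff]

theorem Side.sum_dvec (F : Cfsg.IrrCharacter L → ℂ) (i : I) :
    ∑ χ ∈ bset B, F χ * (dvec X δ δ₀ y i χ : ℂ) =
      ∑ χ ∈ X, F χ * (δ χ : ℂ) + F (y i) * (δ₀ : ℂ) := by
  classical
  rw [h.sum_B]
  congr 1
  · exact Finset.sum_congr rfl fun χ hχ => by rw [dvec, if_pos hχ]
  · rw [Finset.sum_eq_single i]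
    · rw [dvec, if_neg (h.y_notMem i), if_pos rfl]
    · intro k _ hk
      rw [dvec, if_neg (h.y_notMem k), if_neg fun e => hk (h.inj e), Int.cast_zero, mul_zero]
    · simp

theorem Side.orth (i : I) {g : L} (hg : ¬ p ∣ orderOf g) :
    ∑ χ ∈ bset B, (χ : L → ℂ) g * (dvec X δ δ₀ y i χ : ℂ) = 0 := by
  rw [h.sum_dvec]
  have h1 := h.struct.relation (y i) ((h.range _).mpr ⟨i, rfl⟩) g hg
  simp only [mul_comm ((δ _ : ℤ) : ℂ), mul_comm (δ₀ : ℂ)] at h1
  rw [add_comm]
  exact h1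

theorem Side.hcol {g : L} (hg : p ∣ orderOf g) :
    ∀ χ ∈ B, (χ : L → ℂ) g = ∑ i, (δ₀ : ℂ) * (y i : L → ℂ) g * (dvec X δ δ₀ y i χ : ℂ) := by
  classical
  intro χ hχ
  rcases (h.struct.mem_iff χ).mp hχ with h1 | h1
  · have h2 := h.struct.congrY χ h1 g hg
    rw [h.sum_Y] at h2
    simp only [dvec, if_pos h1, ← Finset.sum_mul, ← Finset.mul_sum]
    have h3 : (δ χ : ℂ) * (δ χ : ℂ) = 1 := by
      rcases h.struct.sign χ h1 with h4 | h4 <;> simp [h4]
    linear_combination (δ χ : ℂ) * h2 - (χ : L → ℂ) g * h3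
  · obtain ⟨i, rfl⟩ := (h.range χ).mp h1
    rw [Finset.sum_eq_single i]
    · rw [dvec, if_neg (h.y_notMem i), if_pos rfl]
      have h3 : (δ₀ : ℂ) * (δ₀ : ℂ) = 1 := by rcases h.struct.sign₀ with h4 | h4 <;> simp [h4]
      linear_combination -(y i : L → ℂ) g * h3
    · intro k _ hk
      rw [dvec, if_neg (h.y_notMem i), if_neg fun e => hk (h.inj e).symm, Int.cast_zero, mul_zero]
    · simp

theorem Side.horth (hM : Cfsg.IsPModular p M) (f : IBr M p L) (i : I) :
    ∑ χ ∈ bset B, (dnum hM χ f : ℂ) * (dvec X δ δ₀ y i χ : ℂ) = 0 := by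
  classical
  haveI := finite_ibr (G := L) hM
  haveI := Fintype.ofFinite (IBr M p L)
  refine Fintype.linearIndependent_iff.mp (linearIndependent_val hM)
    (fun f => ∑ χ ∈ bset B, (dnum hM χ f : ℂ) * (dvec X δ δ₀ y i χ : ℂ)) ?_ f
  simp only [Finset.sum_smul, mul_comm ((dnum hM _ _ : ℕ) : ℂ), ← smul_smul]
  rw [Finset.sum_comm]
  simp only [← Finset.smul_sum, ← pRegularPart_eq hM]
  funext g
  rw [Finset.sum_apply, Pi.zero_apply]
  simp only [Pi.smul_apply, smul_eq_mul, pRegularPart_apply, mul_ite, mul_zero]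
  split_ifs with hg
  · exact Finset.sum_const_zero
  · exact Eq.trans (Finset.sum_congr rfl fun χ _ => mul_comm _ _) (h.orth i hg)

/-- The values of the induced functions at singular elements. -/
theorem Side.ind_singular [DecidableEq J] (hfib : ∀ F : I → ℂ, ∑ j ∈ Finset.univ.erase j₀, F (r j) =
      (e : ℂ) * ∑ i, F i) (hJ : Fintype.card J = e * Fintype.card I + 1) (hX : 0 < e)
    {g : L} (hg : p ∣ orderOf g) :
    Cfsg.indFun C (ξ j₀ : C → ℂ) g = -(e : ℂ) * ∑ i, (δ₀ : ℂ) * (y i : L → ℂ) g ∧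
      ∀ j, j ≠ j₀ → Cfsg.indFun C (ξ j : C → ℂ) g = (δ₀ : ℂ) * (y (r j) : L → ℂ) g := by
  classical
  haveI : Finite (ConjClasses C) := Quotient.finite _
  haveI := Fintype.ofFinite (ConjClasses C)
  set a := Cfsg.indFun C (ξ j₀ : C → ℂ) g with ha
  set R := ∑ i, (δ₀ : ℂ) * (y i : L → ℂ) g with hR
  have hXsum : ∑ χ ∈ X, (δ χ : ℂ) * (χ : L → ℂ) g = (e : ℂ) * R := by
    rw [Finset.sum_congr rfl (g := fun _ => R) fun χ hχ => ?_, Finset.sum_const, h.struct.cardX,
      nsmul_eq_mul]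
    have h2 := h.struct.congrY χ hχ g hg
    rw [h.sum_Y, Finset.mul_sum] at h2
    linear_combination h2
  have hj : ∀ j, j ≠ j₀ → Cfsg.indFun C (ξ j : C → ℂ) g =
      a + (δ₀ : ℂ) * (y (r j) : L → ℂ) g + (e : ℂ) * R := fun j hj => by
    have := h.link j hj g
    rw [hXsum] at this
    linear_combination this
  have htot : ∑ j, Cfsg.indFun C (ξ j : C → ℂ) g = 0 := by
    simp only [ind_eq_sum C (isClassFunction_irr _) g, ← Finset.mul_sum]
    rw [Finset.sum_comm, Finset.sum_eq_zero, mul_zero]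
    intro c hc
    rw [← Finset.sum_div, h.total _ (dvd_orderOf_of_isConj (Finset.mem_filter.mp hc).2 hg),
      zero_div]
  have hcard : ((Finset.univ.erase j₀).card : ℂ) = (e : ℂ) * Fintype.card I := by
    rw [Finset.card_erase_of_mem (Finset.mem_univ _), Finset.card_univ, hJ, Nat.add_sub_cancel]
    push_cast
    ring
  rw [← Finset.add_sum_erase _ _ (Finset.mem_univ j₀),
    Finset.sum_congr rfl fun j hj' => hj j (Finset.ne_of_mem_erase hj'), Finset.sum_add_distrib,
    Finset.sum_add_distrib, Finset.sum_const, Finset.sum_const, nsmul_eq_mul, nsmul_eq_mul,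
    hcard] at htot
  have h1 := hfib fun i => (δ₀ : ℂ) * (y i : L → ℂ) g
  rw [h1] at htot
  have hA : ((e : ℂ) * Fintype.card I + 1) * (a + (e : ℂ) * R) = 0 := by
    linear_combination htot
  have hne : (e : ℂ) * Fintype.card I + 1 ≠ 0 := by
    exact_mod_cast Nat.succ_ne_zero (e * Fintype.card I)
  have haR := (mul_eq_zero.mp hA).resolve_left hne
  exact ⟨by linear_combination haR, fun j hj' => by rw [hj j hj']; linear_combination haR⟩

end One

/-! ### The isometry -/

variable {p : ℕ} [Fact p.Prime] {M : Ideal Cfsg.AlgInt} [M.IsMaximal]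
  {G : Type u} [Group G] [Fintype G] {H : Type v} [Group H] [Fintype H]
  {B : Set (Cfsg.IrrCharacter G)} {c : Set (Cfsg.IrrCharacter H)} {n n' e : ℕ}
  {J : Type w} [Fintype J] {I : Type w'} [Fintype I] {j₀ : J} {r : J → I}
  {C : Subgroup G} {ξ : J → Cfsg.IrrCharacter C} {C' : Subgroup H}
  {ξ' : J → Cfsg.IrrCharacter C'}
  {X Y : Finset (Cfsg.IrrCharacter G)} {δ : Cfsg.IrrCharacter G → ℤ} {δ₀ : ℤ}
  {y : I → Cfsg.IrrCharacter G}
  {X' Y' : Finset (Cfsg.IrrCharacter H)} {δ' : Cfsg.IrrCharacter H → ℤ} {δ₀' : ℤ}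
  {y' : I → Cfsg.IrrCharacter H}

/-- The isometry: constant sign on the exceptional characters. -/
theorem exists_isometry (hM : Cfsg.IsPModular p M) (he : ¬ p ∣ e) [Nonempty I] [DecidableEq J]
    (hfib : ∀ F : I → ℂ, ∑ j ∈ Finset.univ.erase j₀, F (r j) = (e : ℂ) * ∑ i, F i)
    (hJ : Fintype.card J = e * Fintype.card I + 1)
    (hG : Side p M B n e j₀ r C ξ X Y δ δ₀ y) (hH : Side p M c n' e j₀ r C' ξ' X' Y' δ' δ₀' y')
    (hpair : ∀ (t : C) (s : C'), p ∣ orderOf t → p ∣ orderOf s →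
      (∑ j, (ξ j : C → ℂ) t * (ξ' j : C' → ℂ) s) /
          (Nat.card (Subgroup.centralizer ({t} : Set C)) : ℂ) ∈ localRing M ∧
        (∑ j, (ξ j : C → ℂ) t * (ξ' j : C' → ℂ) s) /
          (Nat.card (Subgroup.centralizer ({s} : Set C')) : ℂ) ∈ localRing M) :
    ∃ (Φ : Cfsg.IrrCharacter H → Cfsg.IrrCharacter G) (ε : Cfsg.IrrCharacter H → ℤ),
      Cfsg.IsPerfectIsometry p M c B Φ ε ∧ ∀ η ∈ Y', ε η = δ₀' * δ₀ := by
  classical
  have hepos : 0 < e := Nat.pos_of_ne_zero fun h0 => he (h0 ▸ dvd_zero p)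
  have hcardX : Fintype.card X' = Fintype.card X := by
    rw [Fintype.card_coe, Fintype.card_coe, hH.struct.cardX, hG.struct.cardX]
  let eX : X' ≃ X := Fintype.equivOfCardEq hcardX
  let Φ : Cfsg.IrrCharacter H → Cfsg.IrrCharacter G := fun η =>
    if hη : η ∈ X' then (eX ⟨η, hη⟩ : Cfsg.IrrCharacter G) else y (Function.invFun y' η)
  let ε : Cfsg.IrrCharacter H → ℤ := fun η =>
    if η ∈ X' then δ' η * δ (Φ η) else δ₀' * δ₀
  have hΦX : ∀ η (hη : η ∈ X'), Φ η = eX ⟨η, hη⟩ := fun η hη => dif_pos hη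
  have hΦy : ∀ i, Φ (y' i) = y i := fun i => by
    show (if hη : y' i ∈ X' then (eX ⟨y' i, hη⟩ : Cfsg.IrrCharacter G)
      else y (Function.invFun y' (y' i))) = y i
    rw [dif_neg (hH.y_notMem i), Function.leftInverse_invFun hH.inj i]
  have hΦmemX : ∀ η, η ∈ X' → Φ η ∈ X := fun η hη => by rw [hΦX η hη]; exact (eX _).2
  have hbij : Set.BijOn Φ c B := by
    refine ⟨fun η hη => ?_, fun a ha b hb hab => ?_, fun χ hχ => ?_⟩
    · rcases (hH.struct.mem_iff η).mp hη with h1 | h1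
      · exact (hG.struct.mem_iff _).mpr (Or.inl (hΦmemX η h1))
      · obtain ⟨i, rfl⟩ := (hH.range η).mp h1
        rw [hΦy]
        exact hG.y_mem i
    · rcases (hH.struct.mem_iff a).mp ha with h1 | h1 <;>
        rcases (hH.struct.mem_iff b).mp hb with h2 | h2
      · rw [hΦX a h1, hΦX b h2] at hab
        exact congrArg Subtype.val (eX.injective (Subtype.ext hab))
      · obtain ⟨i, rfl⟩ := (hH.range b).mp h2
        rw [hΦy] at hab
        exact absurd (hab ▸ hΦmemX a h1) (hG.y_notMem i)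
      · obtain ⟨i, rfl⟩ := (hH.range a).mp h1
        rw [hΦy] at hab
        exact absurd (hab.symm ▸ hΦmemX b h2) (hG.y_notMem i)
      · obtain ⟨i, rfl⟩ := (hH.range a).mp h1
        obtain ⟨k, rfl⟩ := (hH.range b).mp h2
        rw [hΦy, hΦy] at hab
        rw [hG.inj hab]
    · rcases (hG.struct.mem_iff χ).mp hχ with h1 | h1
      · refine ⟨eX.symm ⟨χ, h1⟩, (hH.struct.mem_iff _).mpr (Or.inl (eX.symm ⟨χ, h1⟩).2), ?_⟩
        rw [hΦX _ (eX.symm ⟨χ, h1⟩).2, Subtype.coe_eta, Equiv.apply_symm_apply]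
      · obtain ⟨i, rfl⟩ := (hG.range χ).mp h1
        exact ⟨y' i, hH.y_mem i, hΦy i⟩
  have hε : ∀ η ∈ c, ε η = 1 ∨ ε η = -1 := by
    intro η hη
    rcases (hH.struct.mem_iff η).mp hη with h1 | h1
    · simp only [ε, if_pos h1]
      rcases hH.struct.sign η h1 with a | a <;>
        rcases hG.struct.sign _ (hΦmemX η h1) with b | b <;> simp [a, b]
    · simp only [ε, if_neg fun h2 => Finset.disjoint_left.mp hH.struct.disjoint h2 h1]
      rcases hH.struct.sign₀ with a | a <;> rcases hG.struct.sign₀ with b | b <;> simp [a, b]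
  have hεY : ∀ η ∈ Y', ε η = δ₀' * δ₀ := fun η hη => by
    simp only [ε, if_neg fun h2 => Finset.disjoint_left.mp hH.struct.disjoint h2 hη]
  have hkey : ∀ η ∈ c, ∀ i : I, (ε η : ℂ) * (dvec X δ δ₀ y i (Φ η) : ℂ) =
      (dvec X' δ' δ₀' y' i η : ℂ) := by
    intro η hη i
    rw [← Int.cast_mul]
    congr 1
    rcases (hH.struct.mem_iff η).mp hη with h1 | h1
    · simp only [ε, dvec, if_pos h1, if_pos (hΦmemX η h1)]
      rcases hG.struct.sign _ (hΦmemX η h1) with b | b <;> rw [b] <;> ring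
    · rw [hεY η h1]
      obtain ⟨k, rfl⟩ := (hH.range η).mp h1
      simp only [dvec, hΦy, if_neg (hH.y_notMem k), if_neg (hG.y_notMem k)]
      by_cases hik : k = i
      · subst hik
        rw [if_pos rfl, if_pos rfl]
        rcases hG.struct.sign₀ with b | b <;> rw [b] <;> ring
      · rw [if_neg fun e => hik (hG.inj e), if_neg fun e => hik (hH.inj e), mul_zero]
  have hsumB : ∀ F : Cfsg.IrrCharacter G → ℂ,
      ∑ η ∈ bset c, F (Φ η) = ∑ χ ∈ bset B, F χ := fun F =>
    Finset.sum_bij (fun η _ => Φ η) (fun η hη => mem_bset.mpr (hbij.mapsTo (mem_bset.mp hη)))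
      (fun a ha b hb e => hbij.injOn (mem_bset.mp ha) (mem_bset.mp hb) e)
      (fun χ hχ => by
        obtain ⟨η, hη, rfl⟩ := hbij.surjOn (mem_bset.mp hχ)
        exact ⟨η, mem_bset.mpr hη, rfl⟩) fun η _ => rfl
  set μ := Cfsg.signedBijectionKernel c Φ ε with hμ
  have hμeq : ∀ x z, μ x z = ∑ η ∈ bset c, (ε η : ℂ) * (Φ η : G → ℂ) x * (η : H → ℂ) z :=
    fun x z => by rw [hμ, Cfsg.signedBijectionKernel, finsum_mem_bset]
  -- the two families of vectors are transported
  have hperpH : ∀ (x : G) (i : I),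
      ∑ η ∈ bset c, (ε η : ℂ) * (Φ η : G → ℂ) x * (dvec X' δ' δ₀' y' i η : ℂ) =
        ∑ χ ∈ bset B, (χ : G → ℂ) x * (dvec X δ δ₀ y i χ : ℂ) := by
    intro x i
    rw [← hsumB fun χ => (χ : G → ℂ) x * (dvec X δ δ₀ y i χ : ℂ)]
    refine Finset.sum_congr rfl fun η hη => ?_
    rw [← hkey η (mem_bset.mp hη) i]
    have h4 : (ε η : ℂ) * (ε η : ℂ) = 1 := by
      rcases hε η (mem_bset.mp hη) with h4 | h4 <;> simp [h4]
    linear_combination (Φ η : G → ℂ) x * (dvec X δ δ₀ y i (Φ η) : ℂ) * h4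
  have hinv : ∀ z : H, ∃ v : Cfsg.IrrCharacter G → ℂ, ∀ η ∈ c,
      v (Φ η) = (ε η : ℂ) * (η : H → ℂ) z := by
    intro z
    haveI : Nonempty (Cfsg.IrrCharacter H) := ⟨y' (Classical.arbitrary I)⟩
    refine ⟨fun χ => (ε (Function.invFunOn Φ c χ) : ℂ) *
      ((Function.invFunOn Φ c χ : Cfsg.IrrCharacter H) : H → ℂ) z, fun η hη => ?_⟩
    simp only [hbij.injOn.leftInvOn_invFunOn hη]
  have hperpG : ∀ (z : H) (v : Cfsg.IrrCharacter G → ℂ),
      (∀ η ∈ c, v (Φ η) = (ε η : ℂ) * (η : H → ℂ) z) → ∀ i : I,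
      ∑ χ ∈ bset B, v χ * (dvec X δ δ₀ y i χ : ℂ) =
        ∑ η ∈ bset c, (η : H → ℂ) z * (dvec X' δ' δ₀' y' i η : ℂ) := by
    intro z v hv i
    rw [← hsumB fun χ => v χ * (dvec X δ δ₀ y i χ : ℂ)]
    refine Finset.sum_congr rfl fun η hη => ?_
    rw [hv η (mem_bset.mp hη), ← hkey η (mem_bset.mp hη) i]
    ring
  refine ⟨Φ, ε, ⟨hbij, hε, fun x z => ?_⟩, hεY⟩
  rw [← hμ]
  have hzero : ∀ x z, ¬ p ∣ orderOf x → p ∣ orderOf z → μ x z = 0 := by
    intro x z hx hz
    rw [hμeq, Finset.sum_congr rfl fun η hη => by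
      rw [hH.hcol hz η (mem_bset.mp hη), Finset.mul_sum], Finset.sum_comm]
    refine Finset.sum_eq_zero fun i _ => ?_
    rw [Finset.sum_congr rfl (g := fun η : Cfsg.IrrCharacter H => ((δ₀' : ℂ) * (y' i : H → ℂ) z) *
      ((ε η : ℂ) * (Φ η : G → ℂ) x * (dvec X' δ' δ₀' y' i η : ℂ))) fun η _ => by ring,
      ← Finset.mul_sum, hperpH x i, hG.orth i hx, mul_zero]
  have hzero' : ∀ x z, p ∣ orderOf x → ¬ p ∣ orderOf z → μ x z = 0 := by
    intro x z hx hz
    rw [hμeq, Finset.sum_congr rfl fun η hη => by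
      rw [hG.hcol hx (Φ η) (hbij.mapsTo (mem_bset.mp hη)), Finset.mul_sum, Finset.sum_mul],
      Finset.sum_comm]
    refine Finset.sum_eq_zero fun i _ => ?_
    rw [Finset.sum_congr rfl (g := fun η : Cfsg.IrrCharacter H => ((δ₀ : ℂ) * (y i : G → ℂ) x) *
      ((η : H → ℂ) z * (dvec X' δ' δ₀' y' i η : ℂ))) fun η hη => by
        rw [← hkey η (mem_bset.mp hη) i]; ring,
      ← Finset.mul_sum, hH.orth i hz, mul_zero]
  have hregular : ∀ x z, ¬ p ∣ orderOf x → ¬ p ∣ orderOf z →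
      μ x z / (Nat.card (Subgroup.centralizer ({x} : Set G)) : ℂ) ∈ localRing M ∧
        μ x z / (Nat.card (Subgroup.centralizer ({z} : Set H)) : ℂ) ∈ localRing M := by
    intro x z hx hz
    constructor
    · obtain ⟨v, hv⟩ := hinv z
      have hcols : PerfectIso.InCols M B v :=
        PerfectIso.inCols_of_orth hM hG.block (dvec X δ δ₀ y)
          (fun g hg => ⟨_, hG.hcol hg⟩)
          (fun χ hχ => by
            obtain ⟨η, hη, rfl⟩ := hbij.surjOn hχ
            rw [hv η hη]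
            exact mul_mem (intCast_mem _ _) (mem_localRing_of_isIntegral
              (isIntegral_apply (isCharacter_irr η) z)))
          (fun i => by rw [hperpG z v hv i, hH.orth i hz])
          fun f i => hG.horth hM f.1 i
      have h1 := hcols.sum_mul_div_mem hG.block x
      rw [← hsumB fun χ => v χ * (χ : G → ℂ) x] at h1
      rw [hμeq, Finset.sum_congr rfl fun η hη => ?_]
      · exact h1
      · rw [hv η (mem_bset.mp hη)]
        ring
    · have hcols : PerfectIso.InCols M c fun η => (ε η : ℂ) * (Φ η : G → ℂ) x :=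
        PerfectIso.inCols_of_orth hM hH.block (dvec X' δ' δ₀' y')
          (fun g hg => ⟨_, hH.hcol hg⟩)
          (fun η _ => mul_mem (intCast_mem _ _) (mem_localRing_of_isIntegral
              (isIntegral_apply (isCharacter_irr (Φ η)) x)))
          (fun i => by rw [hperpH x i, hG.orth i hx])
          fun f i => hH.horth hM f.1 i
      rw [hμeq]
      exact hcols.sum_mul_div_mem hH.block z
  have hsingular : ∀ x z, p ∣ orderOf x → p ∣ orderOf z →
      μ x z / (Nat.card (Subgroup.centralizer ({x} : Set G)) : ℂ) ∈ localRing M ∧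
        μ x z / (Nat.card (Subgroup.centralizer ({z} : Set H)) : ℂ) ∈ localRing M := by
    intro x z hx hz
    haveI : Finite (ConjClasses C) := Quotient.finite _
    haveI := Fintype.ofFinite (ConjClasses C)
    haveI : Finite (ConjClasses C') := Quotient.finite _
    haveI := Fintype.ofFinite (ConjClasses C')
    obtain ⟨hG0, hGj⟩ := hG.ind_singular hfib hJ hepos hx
    obtain ⟨hH0, hHj⟩ := hH.ind_singular hfib hJ hepos hz
    set a : I → ℂ := fun i => (δ₀ : ℂ) * (y i : G → ℂ) x with ha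
    set a' : I → ℂ := fun i => (δ₀' : ℂ) * (y' i : H → ℂ) z with ha'
    have hμ1 : μ x z = (e : ℂ) * (∑ i, a i) * (∑ i, a' i) + ∑ i, a i * a' i := by
      rw [hμeq, hH.sum_B fun η => (ε η : ℂ) * (Φ η : G → ℂ) x * (η : H → ℂ) z]
      congr 1
      · rw [Finset.sum_congr rfl (g := fun _ => (∑ i, a i) * ∑ i, a' i) fun η hη => ?_,
          Finset.sum_const, hH.struct.cardX, nsmul_eq_mul, mul_assoc]
        have h1 := hH.struct.congrY η hη z hz
        have h2 := hG.struct.congrY (Φ η) (hΦmemX η hη) x hx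
        rw [hH.sum_Y, Finset.mul_sum] at h1
        rw [hG.sum_Y, Finset.mul_sum] at h2
        simp only [ε, if_pos hη, ha, ha', Int.cast_mul]
        linear_combination ((δ (Φ η) : ℂ) * (Φ η : G → ℂ) x) * h1 +
          (∑ i, (δ₀' : ℂ) * (y' i : H → ℂ) z) * h2
      · refine Finset.sum_congr rfl fun i _ => ?_
        simp only [hΦy, hεY _ ((hH.range _).mpr ⟨i, rfl⟩), ha, ha', Int.cast_mul]
        ring
    have hμe : (e : ℂ) * μ x z =
        ∑ j, Cfsg.indFun C (ξ j : C → ℂ) x * Cfsg.indFun C' (ξ' j : C' → ℂ) z := by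
      rw [← Finset.add_sum_erase _ _ (Finset.mem_univ j₀), hG0, hH0,
        Finset.sum_congr rfl (g := fun j => a (r j) * a' (r j)) fun j hj => by
          rw [hGj j (Finset.ne_of_mem_erase hj), hHj j (Finset.ne_of_mem_erase hj)]]
      have h1 := hfib fun i => a i * a' i
      rw [h1, hμ1]
      ring
    set P : ConjClasses C → ConjClasses C' → ℂ := fun k l =>
      ∑ j, (ξ j : C → ℂ) k.out * (ξ' j : C' → ℂ) l.out with hP
    have hexp : (e : ℂ) * μ x z =
        ∑ k : ConjClasses C with IsConj x (k.out : G), ∑ l : ConjClasses C' with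
          IsConj z (l.out : H), ((Nat.card (Subgroup.centralizer ({x} : Set G)) : ℂ) /
            (Nat.card (Subgroup.centralizer ({k.out} : Set C)) : ℂ)) *
          ((Nat.card (Subgroup.centralizer ({z} : Set H)) : ℂ) /
            (Nat.card (Subgroup.centralizer ({l.out} : Set C')) : ℂ)) * P k l := by
      rw [hμe]
      simp only [ind_eq_sum C (isClassFunction_irr _), ind_eq_sum C' (isClassFunction_irr _),
        hP, mul_mul_mul_comm (Nat.card (Subgroup.centralizer ({x} : Set G)) : ℂ)]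
      simp only [Finset.sum_mul_sum]
      simp only [Finset.mul_sum]
      rw [Finset.sum_comm]
      refine Finset.sum_congr rfl fun k _ => ?_
      rw [Finset.sum_comm]
      exact Finset.sum_congr rfl fun l _ => Finset.sum_congr rfl fun j _ => by ring
    have hnat : ∀ (g : G) (s : C),
        IsConj g (s : G) → ((Nat.card (Subgroup.centralizer ({g} : Set G)) : ℂ) /
          (Nat.card (Subgroup.centralizer ({s} : Set C)) : ℂ)) ∈ localRing M := by
      intro g s hgs
      obtain ⟨m, hm⟩ := dvd_card_centralizer C hgs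
      rw [hm, Nat.cast_mul, mul_div_cancel_left₀ _ (Nat.cast_ne_zero.mpr Nat.card_pos.ne')]
      exact natCast_mem _ _
    have hnat' : ∀ (g : H) (s : C'),
        IsConj g (s : H) → ((Nat.card (Subgroup.centralizer ({g} : Set H)) : ℂ) /
          (Nat.card (Subgroup.centralizer ({s} : Set C')) : ℂ)) ∈ localRing M := by
      intro g s hgs
      obtain ⟨m, hm⟩ := dvd_card_centralizer C' hgs
      rw [hm, Nat.cast_mul, mul_div_cancel_left₀ _ (Nat.cast_ne_zero.mpr Nat.card_pos.ne')]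
      exact natCast_mem _ _
    have he' : ((e : ℂ))⁻¹ ∈ localRing M := natCast_inv_mem_localRing hM he
    have heq : μ x z = (e : ℂ)⁻¹ * ((e : ℂ) * μ x z) := by
      rw [← mul_assoc, inv_mul_cancel₀ (Nat.cast_ne_zero.mpr hepos.ne'), one_mul]
    have hx0 : (Nat.card (Subgroup.centralizer ({x} : Set G)) : ℂ) ≠ 0 :=
      Nat.cast_ne_zero.mpr Nat.card_pos.ne'
    have hz0 : (Nat.card (Subgroup.centralizer ({z} : Set H)) : ℂ) ≠ 0 :=
      Nat.cast_ne_zero.mpr Nat.card_pos.ne'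
    rw [heq, hexp]
    simp only [mul_div_assoc, Finset.sum_div]
    refine ⟨mul_mem he' (sum_mem fun k hk => sum_mem fun l hl => ?_),
      mul_mem he' (sum_mem fun k hk => sum_mem fun l hl => ?_)⟩
    · have h1 := (hpair k.out l.out (dvd_orderOf_of_isConj (Finset.mem_filter.mp hk).2 hx)
        (dvd_orderOf_of_isConj (Finset.mem_filter.mp hl).2 hz)).1
      refine (congrArg (· ∈ localRing M) ?_).mp
        (mul_mem (hnat' z l.out (Finset.mem_filter.mp hl).2) h1)
      simp only [hP]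
      field_simp
    · have h1 := (hpair k.out l.out (dvd_orderOf_of_isConj (Finset.mem_filter.mp hk).2 hx)
        (dvd_orderOf_of_isConj (Finset.mem_filter.mp hl).2 hz)).2
      refine (congrArg (· ∈ localRing M) ?_).mp
        (mul_mem (hnat x k.out (Finset.mem_filter.mp hk).2) h1)
      simp only [hP]
      field_simp
  by_cases hx : p ∣ orderOf x <;> by_cases hz : p ∣ orderOf z
  · exact ⟨(hsingular x z hx hz).1, (hsingular x z hx hz).2,
      Or.inl ⟨fun h' => absurd hx h', fun h' => absurd hz h'⟩⟩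
  · rw [hzero' x z hx hz, zero_div, zero_div]
    exact ⟨(localRing M).zero_mem, (localRing M).zero_mem, Or.inr rfl⟩
  · rw [hzero x z hx hz, zero_div, zero_div]
    exact ⟨(localRing M).zero_mem, (localRing M).zero_mem, Or.inr rfl⟩
  · exact ⟨(hregular x z hx hz).1, (hregular x z hx hz).2,
      Or.inl ⟨fun _ => hz, fun _ => hx⟩⟩

end Cfsg.Agent.Lib.CyclicBlocks.Isometry
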