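import Mathlib
import Cfsg.Agent.Lib.CyclicBlocks.Induced
import Cfsg.Agent.Lib.CyclicBlocks.Combin
import Cfsg.Agent.Lib.BC77.Reg
import Cfsg.Agent.Lib.Induced.Character
import Cfsg.Agent.Lib.Characters.Generalized

/-!
# The ordinary characters of a block with cyclic defect group

Given that the block has at least `e` modular characters it has exactly `e`, and the characters are
`e` nonexceptional and `(|P| - 1) / e` exceptional ones with the usual signs and congruences.
-/

set_option autoImplicit false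
set_option linter.style.haveILetI false
set_option linter.unusedSectionVars false

namespace Cfsg.Agent.Lib.CyclicBlocks.Main

open MonoidAlgebra Cfsg.Agent.Lib.BrauerMap.Basic
open Cfsg.Agent.Lib.BrauerPairs
open Cfsg.Agent.Lib.BrauerPairs.Center Cfsg.Agent.Lib.BrauerPairs.Trunc
open Cfsg.Agent.Lib.BrauerPairs.Conj Cfsg.Agent.Lib.BrauerPairs.Pairs
open Cfsg.Agent.Lib.BrauerPairs.Transport Cfsg.Agent.Lib.BrauerPairs.Maximal
open Cfsg.Agent.Lib.BrauerPairs.Bridge Cfsg.Agent.Lib.BrauerPairs.Local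
open Cfsg.Agent.Lib.CyclicBlocks.Local Cfsg.Agent.Lib.CyclicBlocks.Chars
open Cfsg.Agent.Lib.CyclicBlocks.Family Cfsg.Agent.Lib.CyclicBlocks.Induced
open Cfsg.Agent.Lib.Blocks.Contrib
open Cfsg.Agent.Lib.Characters.Basic
open Cfsg.Agent.Lib.Induced.Basic
open scoped ComplexConjugate

universe u

attribute [local instance] Ideal.Quotient.field

variable {M : Ideal Cfsg.AlgInt} [M.IsMaximal] {G : Type u} [Group G] [Finite G]
  {p : ℕ} [Fact p.Prime] [CharP (Res M) p] {ψ : Blk (Res M) G} {P : Subgroup G}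
  {c : Blk (Res M) (Subgroup.centralizer (P : Set G))} {z : G}

local notation "C[" P "]" => Subgroup.centralizer ((P : Subgroup G) : Set G)

/-- An integral combination of the characters of the block. -/
noncomputable def comb (B : Set (Cfsg.IrrCharacter G)) (a : Cfsg.IrrCharacter G → ℤ) : G → ℂ :=
  fun g => ∑ χ ∈ bset B, (a χ : ℂ) * (χ : G → ℂ) g

theorem comb_eq_sum (B : Set (Cfsg.IrrCharacter G)) (a : Cfsg.IrrCharacter G → ℤ) :
    comb B a = ∑ χ ∈ bset B, (a χ : ℂ) • (χ : G → ℂ) := by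
  funext g
  rw [comb, Finset.sum_apply]
  rfl

theorem classInner_comb [Fintype G] (B : Set (Cfsg.IrrCharacter G))
    (a : Cfsg.IrrCharacter G → ℤ) {χ : Cfsg.IrrCharacter G} (hχ : χ ∈ B) :
    Cfsg.classInner (comb B a) (χ : G → ℂ) = (a χ : ℂ) := by
  classical
  rw [comb_eq_sum, classInner_sum_left]
  simp only [classInner_smul_left, classInner_irr, mul_ite, mul_one, mul_zero, Finset.sum_ite_eq',
    mem_bset, hχ, if_true]

theorem classInner_comb_comb [Fintype G] (B : Set (Cfsg.IrrCharacter G))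
    (a a' : Cfsg.IrrCharacter G → ℤ) :
    Cfsg.classInner (comb B a) (comb B a') = ∑ χ ∈ bset B, (a χ : ℂ) * (a' χ : ℂ) := by
  classical
  conv_lhs => rw [comb_eq_sum B a']
  rw [classInner_sum_right]
  refine Finset.sum_congr rfl fun χ hχ => ?_
  rw [classInner_smul_right, classInner_comb B a (mem_bset.mp hχ), map_intCast, mul_comm]

/-- The structure of the ordinary characters. -/
structure CyclicStruct (p : ℕ) (B : Set (Cfsg.IrrCharacter G)) (n e : ℕ)
    (X Y : Finset (Cfsg.IrrCharacter G)) (δ : Cfsg.IrrCharacter G → ℤ) (δ₀ : ℤ) : Prop where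
  disjoint : Disjoint X Y
  mem_iff : ∀ χ, χ ∈ B ↔ χ ∈ X ∨ χ ∈ Y
  cardX : X.card = e
  cardY : e * Y.card + 1 = n
  rank : Cfsg.blockRank p B = e
  sign : ∀ χ ∈ X, δ χ = 1 ∨ δ χ = -1
  sign₀ : δ₀ = 1 ∨ δ₀ = -1
  exc_eq : ∀ η ∈ Y, ∀ η' ∈ Y, ∀ g : G, ¬ p ∣ orderOf g → (η : G → ℂ) g = (η' : G → ℂ) g
  relation : ∀ η ∈ Y, ∀ g : G, ¬ p ∣ orderOf g →
    (δ₀ : ℂ) * (η : G → ℂ) g + ∑ χ ∈ X, (δ χ : ℂ) * (χ : G → ℂ) g = 0
  congrX : ∀ χ ∈ X, ∀ χ' ∈ X, ∀ g : G, p ∣ orderOf g →
    (δ χ : ℂ) * (χ : G → ℂ) g = (δ χ' : ℂ) * (χ' : G → ℂ) g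
  congrY : ∀ χ ∈ X, ∀ g : G, p ∣ orderOf g →
    (δ χ : ℂ) * (χ : G → ℂ) g - (δ₀ : ℂ) * ∑ η ∈ Y, (η : G → ℂ) g = 0

/-- The exceptional characters are linked to the representatives `Q` of the characters of the local
block: inducing `q - ξ₀` gives the exceptional character of `q` with the signed nonexceptional ones. -/
def Linked (z : G) (ξ₀ : Cfsg.IrrCharacter C[Subgroup.zpowers z])
    (Q : Finset (Cfsg.IrrCharacter C[Subgroup.zpowers z])) (X Y : Finset (Cfsg.IrrCharacter G))
    (δ : Cfsg.IrrCharacter G → ℤ) (δ₀ : ℤ) : Prop :=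
  ∃ y : Q → Cfsg.IrrCharacter G, Function.Injective y ∧ (∀ η, η ∈ Y ↔ ∃ q, y q = η) ∧
    ∀ [Fintype G] (q : Q) (g : G), Cfsg.indFun C[Subgroup.zpowers z] (dif (q : _) ξ₀) g =
      (δ₀ : ℂ) * (y q : G → ℂ) g + ∑ χ ∈ X, (δ χ : ℂ) * (χ : G → ℂ) g

/-- The main theorem with the link to the local block. -/
theorem exists_linked (hM : Cfsg.IsPModular p M) (hc : Cyc p ψ P c z)
    (hl : eIdx hc ≤ Cfsg.blockRank p (toSet ψ)) {h : G} {hh : h ∈ stab (az hc)}
    {ξ₀ : Cfsg.IrrCharacter C[Subgroup.zpowers z]}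
    {Q : Finset (Cfsg.IrrCharacter C[Subgroup.zpowers z])} (hO : Orbits hc h hh ξ₀ Q) :
    ∃ X Y δ δ₀, CyclicStruct p (toSet ψ) (Nat.card P) (eIdx hc) X Y δ δ₀ ∧
      Linked z ξ₀ Q X Y δ δ₀ := by
  classical
  haveI hFG := Fintype.ofFinite G
  haveI := Fintype.ofFinite C[Subgroup.zpowers z]
  obtain ⟨r, hk, hr⟩ := hc.card_eq hM
  have hepos := hc.eIdx_pos hM
  set B := toSet ψ with hB
  have hBblk : Cfsg.IsPBlock M B := isPBlock_toSet ψ
  set e := eIdx hc with he
  have hQr : Q.card = r := by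
    have h1 : e * Q.card + 1 = Nat.card P := hO.card
    rw [← hr] at h1
    exact Nat.eq_of_mul_eq_mul_left hepos (by omega)
  have hP1 : 1 < Nat.card P := by
    haveI : Nontrivial P := (Subgroup.nontrivial_iff_ne_bot P).mpr hc.ne_bot
    exact Finite.one_lt_card
  have hQpos : 1 ≤ Q.card := by
    rcases Nat.eq_zero_or_pos Q.card with h0 | h0
    · have h1 := hO.card
      rw [h0, mul_zero] at h1
      omega
    · exact h0
  -- the induced functions
  let α : Q → G → ℂ := fun q => Cfsg.indFun C[Subgroup.zpowers z] (dif (q : _) ξ₀)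
  have hαclass : ∀ q, Cfsg.IsClassFunction G (α q) := fun q => isClassFunction_indFun _ _
  have hαgen : ∀ q, Cfsg.IsGeneralizedCharacter G (α q) := fun q =>
    Cfsg.Agent.Lib.Induced.Character.isGeneralizedCharacter_indFun _
      ⟨_, _, isCharacter_irr _, isCharacter_irr _, rfl⟩
  have hint : ∀ (χ : Cfsg.IrrCharacter G) (q : Q),
      ∃ k : ℤ, Cfsg.classInner (α q) (χ : G → ℂ) = (k : ℂ) :=
    fun χ q => Characters.Generalized.exists_classInner_int (hαgen q)
      (Characters.Generalized.of_isCharacter (isCharacter_irr χ))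
  choose b hb using hint
  have hαeq : ∀ q, α q = comb B (fun χ => b χ q) := by
    intro q
    haveI := Fintype.ofFinite (Cfsg.IrrCharacter G)
    conv_lhs => rw [Characters.Complete.classFunction_eq_sum (hαclass q)]
    rw [comb_eq_sum]
    refine (Finset.sum_subset (Finset.subset_univ (bset B)) fun χ _ hχ => ?_).symm.trans
      (Finset.sum_congr rfl fun χ _ => by rw [hb χ q])
    rw [show Cfsg.classInner (α q) (χ : G → ℂ) = 0 from
      classInner_ind_irr hM hc (hO.subset _ q.2) hO.mem₀ (fun h' => hχ (mem_bset.mpr h')), zero_smul]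
  have hαreg : ∀ q, ∀ g : G, ¬ p ∣ orderOf g → α q g = 0 := fun q g hg =>
    ind_apply_regular hM hc (hO.subset _ q.2) hO.mem₀ hg
  have hne0 : ∀ q : Q, (q : Cfsg.IrrCharacter C[Subgroup.zpowers z]) ≠ ξ₀ := fun q h' =>
    hO.notMem₀ (h' ▸ q.2)
  have hgramC : ∀ q q' : Q, Cfsg.classInner (α q) (α q') = (if q = q' then 1 else 0) + (e : ℂ) := by
    intro q q'
    rw [classInner_ind_ind hM hc hh hO.cover hO.pow_mem_iff (hO.subset _ q.2) hO.mem₀
      (hO.subset _ q'.2) hO.mem₀]
    have h1 : ∀ i ∈ Finset.range e, Cfsg.classInner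
        (dif (cj hc (pow_mem hh i) (q : _)) (cj hc (pow_mem hh i) ξ₀)) (dif (q' : _) ξ₀) =
        (if i = 0 ∧ q = q' then 1 else 0) + 1 := by
      intro i hi
      rw [hO.fixed i]
      simp only [dif, classInner_sub_left, classInner_sub_right, classInner_self_irr,
        classInner_irr_of_ne (Ne.symm (hne0 q')), classInner_irr_of_ne (hO.ne₀ _ q.2 i)]
      by_cases h2 : i = 0 ∧ q = q'
      · rw [if_pos h2]
        obtain ⟨rfl, rfl⟩ := h2
        rw [cj_eq_self_of_mem hc _ (by rw [pow_zero]; exact one_mem _), classInner_self_irr]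
        ring
      · rw [if_neg h2, classInner_irr_of_ne fun h3 => h2 ?_]
        · ring
        · exact ⟨(hO.unique _ q.2 _ q'.2 i (Finset.mem_range.mp hi) h3).1,
            Subtype.ext (hO.unique _ q.2 _ q'.2 i (Finset.mem_range.mp hi) h3).2⟩
    rw [Finset.sum_congr rfl h1, Finset.sum_add_distrib, Finset.sum_const, Finset.card_range,
      nsmul_eq_mul, mul_one]
    congr 1
    by_cases hqq : q = q'
    · simp only [hqq, and_true, if_true, Finset.sum_ite_eq', Finset.mem_range, hepos]
    · simp [hqq]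
  have hgram : ∀ q q' : Q, ∑ χ ∈ bset B, b χ q * b χ q' = (if q = q' then 1 else 0) + (e : ℤ) := by
    intro q q'
    have h1 := hgramC q q'
    rw [hαeq q, hαeq q', classInner_comb_comb] at h1
    have h2 : ((∑ χ ∈ bset B, b χ q * b χ q' : ℤ) : ℂ) =
        (((if q = q' then 1 else 0) + (e : ℤ) : ℤ) : ℂ) := by
      push_cast
      rw [h1]
      congr 1
      rcases eq_or_ne q q' with rfl | hqq
      · exact (if_pos rfl).trans (Int.cast_one.symm.trans (congrArg _ (if_pos rfl).symm))
      · exact (if_neg hqq).trans (Int.cast_zero.symm.trans (congrArg _ (if_neg hqq).symm))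
    exact_mod_cast h2
  -- the kernel of the restriction to regular elements
  let L : (bset B → ℂ) →ₗ[ℂ] (G → ℂ) := ∑ χ : bset B,
    (LinearMap.proj χ).smulRight (Cfsg.pRegularPart p ((χ : Cfsg.IrrCharacter G) : G → ℂ))
  have hL : ∀ a g, L a g = if p ∣ orderOf g then 0 else
      ∑ χ : bset B, a χ * ((χ : Cfsg.IrrCharacter G) : G → ℂ) g := by
    intro a g
    simp only [L, LinearMap.sum_apply, LinearMap.smulRight_apply, LinearMap.proj_apply,
      Finset.sum_apply, Pi.smul_apply, smul_eq_mul, pRegularPart_apply, mul_ite, mul_zero]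
    split_ifs <;> simp
  have hrange : LinearMap.range L =
      Submodule.span ℂ ((fun χ : Cfsg.IrrCharacter G => Cfsg.pRegularPart p (χ : G → ℂ)) '' B) := by
    refine le_antisymm ?_ (Submodule.span_le.mpr ?_)
    · rintro _ ⟨a, rfl⟩
      simp only [L, LinearMap.sum_apply, LinearMap.smulRight_apply, LinearMap.proj_apply]
      exact Submodule.sum_mem _ fun χ _ => Submodule.smul_mem _ _
        (Submodule.subset_span ⟨χ, mem_bset.mp χ.2, rfl⟩)
    · rintro _ ⟨χ, hχ, rfl⟩
      refine ⟨Pi.single ⟨χ, mem_bset.mpr hχ⟩ 1, funext fun g => ?_⟩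
      rw [hL]
      by_cases hg : p ∣ orderOf g <;>
        simp [pRegularPart_apply, hg, Pi.single_apply, Finset.sum_ite_eq']
  have hcardB : Fintype.card (bset B) = Nat.card B := by
    rw [Fintype.card_coe, Nat.card_coe_set_eq, Set.ncard_eq_toFinset_card _ (Set.toFinite _)]
    exact congrArg Finset.card (Finset.ext fun χ => by simp [mem_bset])
  have hker : Module.finrank ℂ (LinearMap.ker L) = Q.card := by
    have h1 := L.finrank_range_add_finrank_ker
    rw [hrange, Module.finrank_pi, hcardB, hk] at h1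
    change Cfsg.blockRank p B + _ = _ at h1
    omega
  let v : Q → LinearMap.ker L := fun q => ⟨fun χ => (b χ q : ℂ), by
    rw [LinearMap.mem_ker]
    funext g
    rw [hL, Pi.zero_apply]
    split_ifs with hg
    · rfl
    · rw [← hαreg q g hg, hαeq q, comb,
        ← Finset.sum_coe_sort (bset B) (fun χ => (b χ q : ℂ) * (χ : G → ℂ) g)]⟩
  have hv : LinearIndependent ℂ v := by
    rw [Fintype.linearIndependent_iff]
    intro f hf
    have h1 : ∀ q' : Q, f q' + (e : ℂ) * ∑ q, f q = 0 := by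
      intro q'
      have h2 : ∀ χ : bset B, ∑ q, f q * (b χ q : ℂ) = 0 := fun χ => by
        have := congrArg (fun w : LinearMap.ker L => (w : bset B → ℂ) χ) hf
        simpa [v, Finset.sum_apply] using this
      have h3 : ∑ χ : bset B, (∑ q, f q * (b χ q : ℂ)) * (b χ q' : ℂ) = 0 :=
        Finset.sum_eq_zero fun χ _ => by rw [h2, zero_mul]
      simp only [Finset.sum_mul, mul_assoc] at h3
      rw [Finset.sum_comm] at h3
      simp only [← Finset.mul_sum] at h3
      have h4 : ∀ q, ∑ χ : bset B, (b χ q : ℂ) * (b χ q' : ℂ) =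
          (if q = q' then 1 else 0) + (e : ℂ) := fun q => by
        rw [Finset.sum_coe_sort (bset B) fun χ => (b χ q : ℂ) * (b χ q' : ℂ)]
        have h5 := hgram q q'
        exact_mod_cast congrArg (fun x : ℤ => (x : ℂ)) h5
      simp only [h4, mul_add, mul_ite, mul_one, mul_zero, Finset.sum_add_distrib,
        Finset.sum_ite_eq', Finset.mem_univ, if_true, ← Finset.sum_mul] at h3
      linear_combination h3
    have h2 : (1 + (e : ℂ) * Fintype.card Q) * ∑ q, f q = 0 := by
      have := Finset.sum_eq_zero (s := Finset.univ) fun q (_ : q ∈ Finset.univ) => h1 q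
      rw [Finset.sum_add_distrib, Finset.sum_const, Finset.card_univ, nsmul_eq_mul] at this
      linear_combination this
    have h3 : (1 + (e : ℂ) * Fintype.card Q) ≠ 0 := by
      exact_mod_cast (Nat.add_pos_left Nat.one_pos _).ne'
    intro q
    have := h1 q
    rw [(mul_eq_zero.mp h2).resolve_left h3, mul_zero, add_zero] at this
    exact this
  have hspan : Submodule.span ℂ (Set.range v) = ⊤ :=
    hv.span_eq_top_of_card_eq_finrank' (by rw [hker, Fintype.card_coe])
  -- a combination orthogonal to all of them vanishes on singular elements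
  have hvanish : ∀ a : Cfsg.IrrCharacter G → ℤ, (∀ q : Q, ∑ χ ∈ bset B, a χ * b χ q = 0) →
      ∀ g : G, p ∣ orderOf g → comb B a g = 0 := by
    intro a ha
    set A : ℂ := (p : ℂ) ^ (Nat.card G).factorization p with hA
    have hA0 : A ≠ 0 := pow_ne_zero _ (Nat.cast_ne_zero.mpr (Fact.out : p.Prime).ne_zero)
    let a' : bset B → ℂ := fun φ => A⁻¹ * ∑ χ ∈ bset B, (a χ : ℂ) * (contribN p χ φ : ℂ)
    have ha' : ∀ g : G, ∑ φ : bset B, a' φ * ((φ : Cfsg.IrrCharacter G) : G → ℂ) g =
        if p ∣ orderOf g then 0 else comb B a g := by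
      intro g
      simp only [a', mul_assoc, Finset.sum_mul, ← Finset.mul_sum]
      rw [Finset.sum_comm]
      have h1 : ∀ χ ∈ bset B, ∑ φ : bset B, (a χ : ℂ) * ((contribN p χ φ : ℂ) *
          ((φ : Cfsg.IrrCharacter G) : G → ℂ) g) =
            A * (if p ∣ orderOf g then 0 else (a χ : ℂ) * (χ : G → ℂ) g) := by
        intro χ hχ
        rw [← Finset.mul_sum, Finset.sum_coe_sort (bset B) fun φ =>
          (contribN p χ φ : ℂ) * (φ : G → ℂ) g, sum_bset_apply hM hBblk (mem_bset.mp hχ)]
        split_ifs <;> ring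
      rw [Finset.sum_congr rfl h1, ← Finset.mul_sum, ← mul_assoc, inv_mul_cancel₀ hA0, one_mul]
      split_ifs <;> simp [comb]
    let w : bset B → ℂ := fun χ => (a χ : ℂ) - a' χ
    have hw : w ∈ LinearMap.ker L := by
      rw [LinearMap.mem_ker]
      funext g
      rw [hL, Pi.zero_apply]
      split_ifs with hg
      · rfl
      · simp only [w, sub_mul, Finset.sum_sub_distrib, ha' g, if_neg hg]
        rw [comb, Finset.sum_coe_sort (bset B) fun χ => (a χ : ℂ) * (χ : G → ℂ) g, sub_self]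
    obtain ⟨f, hf⟩ := Submodule.mem_span_range_iff_exists_fun ℂ |>.mp
      (hspan ▸ Submodule.mem_top : (⟨w, hw⟩ : LinearMap.ker L) ∈ Submodule.span ℂ (Set.range v))
    let F : G → ℂ := fun g => if p ∣ orderOf g then comb B a g else 0
    have hF : F = ∑ q, f q • α q := by
      funext g
      have h1 : F g = ∑ χ : bset B, w χ * ((χ : Cfsg.IrrCharacter G) : G → ℂ) g := by
        simp only [w, sub_mul, Finset.sum_sub_distrib, ha' g]
        rw [Finset.sum_coe_sort (bset B) fun χ => (a χ : ℂ) * (χ : G → ℂ) g]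
        simp only [F, comb]
        split_ifs <;> ring
      have h2 : ∀ χ : bset B, w χ = ∑ q, f q * (b χ q : ℂ) := fun χ => by
        have := congrArg (fun u : LinearMap.ker L => (u : bset B → ℂ) χ) hf
        simpa [v, Finset.sum_apply] using this.symm
      rw [h1, Finset.sum_apply]
      simp only [h2, Finset.sum_mul, Pi.smul_apply, smul_eq_mul]
      rw [Finset.sum_comm]
      refine Finset.sum_congr rfl fun q _ => ?_
      rw [hαeq q, comb, ← Finset.sum_coe_sort (bset B), Finset.mul_sum]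
      exact Finset.sum_congr rfl fun χ _ => by ring
    have hinner : Cfsg.classInner F (comb B a) = 0 := by
      rw [hF, classInner_sum_left]
      refine Finset.sum_eq_zero fun q _ => ?_
      rw [classInner_smul_left, hαeq q, classInner_comb_comb]
      have h1 : ((∑ χ ∈ bset B, a χ * b χ q : ℤ) : ℂ) = 0 := by rw [ha q, Int.cast_zero]
      push_cast at h1
      rw [Finset.sum_congr rfl fun χ _ => mul_comm ((b χ q : ℤ) : ℂ) _, h1, mul_zero]
    have hz : ∀ g : G, Complex.normSq (F g) = 0 := by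
      have h1 : ∑ g : G, (Complex.normSq (F g) : ℂ) = 0 := by
        rw [Cfsg.classInner] at hinner
        refine Eq.trans (Finset.sum_congr rfl fun g _ => ?_)
          ((mul_eq_zero.mp hinner).resolve_left (inv_ne_zero (Nat.cast_ne_zero.mpr Nat.card_pos.ne')))
        rw [← Complex.mul_conj]
        simp only [F]
        split_ifs <;> simp
      have h2 : ∑ g : G, Complex.normSq (F g) = 0 := by exact_mod_cast h1
      exact fun g => (Finset.sum_eq_zero_iff_of_nonneg fun x _ => Complex.normSq_nonneg _).mp h2 g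
        (Finset.mem_univ g)
    intro g hg
    have := Complex.normSq_eq_zero.mp (hz g)
    simpa [F, hg] using this
  -- no row vanishes
  have hrow : ∀ χ : bset B, ∃ q : Q, b χ q ≠ 0 := by
    rintro ⟨χ, hχ⟩
    by_contra hall
    push Not at hall
    have hv0 := hvanish (fun φ => if φ = χ then 1 else 0) (fun q => by
      simp only [ite_mul, one_mul, zero_mul, Finset.sum_ite_eq', hχ, if_true]
      exact hall q)
    have hv1 : ∀ g : G, p ∣ orderOf g → (χ : G → ℂ) g = 0 := fun g hg => by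
      rw [← hv0 g hg, comb]
      simp only [Int.cast_ite, Int.cast_one, Int.cast_zero, ite_mul, one_mul, zero_mul,
        Finset.sum_ite_eq', hχ, if_true]
    obtain ⟨k, hk1⟩ := BC77.Reg.dvd_apply_one (p := p)
      (Characters.Generalized.of_isCharacter (isCharacter_irr χ)) hv1
    rw [BlocksChars5.Basic.apply_one] at hk1
    have hdvd : p ^ (Nat.card G).factorization p ∣ Cfsg.charDegree (χ : G → ℂ) := by
      rw [← Int.natCast_dvd_natCast]
      exact ⟨k, by exact_mod_cast hk1⟩
    obtain ⟨χ₀, hχ₀, h₀⟩ := exists_height_zero (p := p) hBblk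
    have hvd : vdeg p χ = (Nat.card G).factorization p := le_antisymm (vdeg_le p χ)
      (((Fact.out : p.Prime).pow_dvd_iff_le_factorization
        (BlocksChars5.Basic.degree_pos χ).ne').mp hdvd)
    have hd0 : Cfsg.blockDefect p B ≠ 0 := fun h0 => by
      have := RankAbelian.card_top hM hc.top hc.pair
      rw [show Cfsg.blockDefect p (toSet ψ) = 0 from h0, pow_zero] at this
      exact absurd (this : Nat.card P = 1) hP1.ne'
    by_cases hcc : χ = χ₀
    · subst hcc
      have := minVdeg_add_blockDefect (p := p) hBblk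
      omega
    · refine not_dvd_contribN hM hBblk hχ₀ h₀ (mem_bset.mp hχ) ?_
      rw [show contribN p χ₀ χ = 0 from ?_]
      · exact dvd_zero _
      have h9 : (contribN p χ₀ χ : ℂ) = 0 := by
        rw [← BC77.Reg.classInner_scaled_regular (p := p) χ₀ χ]
        calc Cfsg.classInner _ (χ : G → ℂ) = Cfsg.classInner
              (((p ^ (Nat.card G).factorization p : ℕ) : ℂ) • (χ₀ : G → ℂ)) (χ : G → ℂ) := by
              simp only [Cfsg.classInner, Pi.smul_apply, smul_eq_mul]
              congr 1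
              refine Finset.sum_congr rfl fun g _ => ?_
              split_ifs with hg
              · rw [hv1 g hg]; simp
              · rfl
          _ = 0 := by rw [classInner_smul_left, classInner_irr_of_ne (Ne.symm hcc), mul_zero]
      exact_mod_cast h9
  -- the combinatorics
  obtain ⟨hcard, y, δy, hy, hδy, hyval, hconst⟩ := Combin.exists_family
    (fun (χ : bset B) (q : Q) => b χ q) e (by rw [Fintype.card_coe]; exact hQpos)
    (fun q q' => by
      rw [Finset.sum_coe_sort (bset B) fun χ => b χ q * b χ q']; exact hgram q q')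
    hrow (by rw [hcardB, Fintype.card_coe, hk]; omega)
  rw [hcardB, Fintype.card_coe, hk] at hcard
  have hrank : Cfsg.blockRank p B = e := by omega
  set Y : Finset (Cfsg.IrrCharacter G) := Finset.univ.image fun q => ((y q : bset B) : _) with hY
  set X : Finset (Cfsg.IrrCharacter G) := bset B \ Y with hX
  have hYB : Y ⊆ bset B := fun χ hχ => by
    obtain ⟨q, -, rfl⟩ := Finset.mem_image.mp hχ
    exact (y q).2
  have hXconst : ∀ χ, χ ∈ X → ∃ d : ℤ, (d = 1 ∨ d = -1) ∧ ∀ q, b χ q = d := by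
    intro χ hχ
    obtain ⟨h1, h2⟩ := Finset.mem_sdiff.mp hχ
    refine hconst ⟨χ, h1⟩ ?_
    rintro ⟨q, hq⟩
    exact h2 (Finset.mem_image.mpr ⟨q, Finset.mem_univ _, by rw [hq]⟩)
  choose! δ hδ1 hδ2 using hXconst
  have hdeg : ∀ q : Q, ∀ g : G, ¬ p ∣ orderOf g →
      (δy q : ℂ) * ((y q : bset B) : Cfsg.IrrCharacter G).1 g +
        ∑ χ ∈ X, (δ χ : ℂ) * (χ : G → ℂ) g = 0 := by
    intro q g hg
    rw [← hαreg q g hg, hαeq q, comb, ← Finset.sum_sdiff hYB, ← hX, add_comm]
    congr 1
    · exact Finset.sum_congr rfl fun χ hχ => by rw [hδ2 χ hχ q]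
    · rw [hY, Finset.sum_image fun a _ a' _ e' => hy (Subtype.ext e')]
      rw [Finset.sum_eq_single q]
      · rw [hyval q q, if_pos rfl]
      · intro q' _ hne'
        rw [hyval q' q, if_neg hne', Int.cast_zero, zero_mul]
      · simp
  obtain ⟨q₀, hq₀⟩ : ∃ q, q ∈ Q := Finset.card_pos.mp hQpos
  have hsame : ∀ q : Q, δy q = δy ⟨q₀, hq₀⟩ := by
    intro q
    have h1 : ¬ p ∣ orderOf (1 : G) := by
      rw [orderOf_one]; exact (Fact.out : p.Prime).not_dvd_one
    have e1 := hdeg q 1 h1
    have e2 := hdeg ⟨q₀, hq₀⟩ 1 h1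
    rw [BlocksChars5.Basic.apply_one] at e1 e2
    have d1 := BlocksChars5.Basic.degree_pos ((y q : bset B) : Cfsg.IrrCharacter G)
    have d2 := BlocksChars5.Basic.degree_pos ((y ⟨q₀, hq₀⟩ : bset B) : Cfsg.IrrCharacter G)
    set D1 := Cfsg.charDegree (((y q : bset B) : Cfsg.IrrCharacter G) : G → ℂ)
    set D2 := Cfsg.charDegree (((y ⟨q₀, hq₀⟩ : bset B) : Cfsg.IrrCharacter G) : G → ℂ)
    have e3 : δy q * (D1 : ℤ) = δy ⟨q₀, hq₀⟩ * (D2 : ℤ) := by
      have : ((δy q * (D1 : ℤ) : ℤ) : ℂ) = ((δy ⟨q₀, hq₀⟩ * (D2 : ℤ) : ℤ) : ℂ) := by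
        push_cast at e1 e2 ⊢
        linear_combination e1 - e2
      exact_mod_cast this
    rcases hδy q with ha | ha <;> rcases hδy ⟨q₀, hq₀⟩ with hb' | hb' <;>
      rw [ha, hb'] at e3 ⊢ <;> omega
  have hδ₀ := hδy ⟨q₀, hq₀⟩
  have hYcard : Y.card = Q.card := by
    rw [hY, Finset.card_image_of_injective _ fun a a' e' => hy (Subtype.ext e'),
      Finset.card_univ, Fintype.card_coe]
  have hlink : ∀ q : Q, ∀ g : G, α q g = (δy ⟨q₀, hq₀⟩ : ℂ) *
      ((y q : bset B) : Cfsg.IrrCharacter G).1 g + ∑ χ ∈ X, (δ χ : ℂ) * (χ : G → ℂ) g := by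
    intro q g
    rw [hαeq q, comb, ← Finset.sum_sdiff hYB, ← hX, add_comm]
    congr 1
    · rw [hY, Finset.sum_image fun a _ a' _ e' => hy (Subtype.ext e'), Finset.sum_eq_single q]
      · rw [hyval q q, if_pos rfl, hsame q]
      · intro q' _ hne'
        rw [hyval q' q, if_neg hne', Int.cast_zero, zero_mul]
      · simp
    · exact Finset.sum_congr rfl fun χ hχ => by rw [hδ2 χ hχ q]
  refine ⟨X, Y, δ, δy ⟨q₀, hq₀⟩,
    { disjoint := Finset.sdiff_disjoint
      mem_iff := fun χ => ?_
      cardX := ?_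
      cardY := by rw [hYcard]; exact hO.card
      rank := hrank
      sign := hδ1
      sign₀ := hδ₀
      exc_eq := ?_
      relation := ?_
      congrX := ?_
      congrY := ?_ }, fun q => ((y q : bset B) : Cfsg.IrrCharacter G),
    fun a a' e' => hy (Subtype.ext e'), fun η => ?_, ?_⟩
  · rw [← mem_bset (B := B), hX, Finset.mem_sdiff]
    constructor
    · intro h'; exact (em (χ ∈ Y)).symm.imp (fun h'' => ⟨h', h''⟩) id
    · rintro (h' | h')
      exacts [h'.1, hYB h']
  · have h1 : (bset B).card = Nat.card B := by rw [← hcardB, Fintype.card_coe]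
    rw [hX, Finset.card_sdiff_of_subset hYB, hYcard, h1, hk]
    omega
  · intro η hη η' hη' g hg
    obtain ⟨q, -, rfl⟩ := Finset.mem_image.mp hη
    obtain ⟨q', -, rfl⟩ := Finset.mem_image.mp hη'
    have e1 := hdeg q g hg
    have e2 := hdeg q' g hg
    rw [hsame q] at e1
    rw [hsame q'] at e2
    have hne : ((δy ⟨q₀, hq₀⟩ : ℤ) : ℂ) ≠ 0 := by
      rcases hδ₀ with h' | h' <;> simp [h']
    exact mul_left_cancel₀ hne (by linear_combination e1 - e2)
  · intro η hη g hg
    obtain ⟨q, -, rfl⟩ := Finset.mem_image.mp hη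
    rw [← hsame q]
    exact hdeg q g hg
  · intro χ hχ χ' hχ' g hg
    by_cases hcc : χ = χ'
    · rw [hcc]
    have h1 := hvanish (fun φ => (if φ = χ then δ χ else 0) - if φ = χ' then δ χ' else 0) (fun q => by
      simp only [sub_mul, ite_mul, zero_mul, Finset.sum_sub_distrib, Finset.sum_ite_eq',
        (Finset.mem_sdiff.mp hχ).1, (Finset.mem_sdiff.mp hχ').1, if_true]
      rw [hδ2 χ hχ q, hδ2 χ' hχ' q]
      rcases hδ1 χ hχ with ha | ha <;> rcases hδ1 χ' hχ' with hb' | hb' <;> rw [ha, hb'] <;> norm_num)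
      g hg
    simp only [comb, Int.cast_sub, Int.cast_ite, Int.cast_zero, sub_mul, ite_mul, zero_mul,
      Finset.sum_sub_distrib, Finset.sum_ite_eq', (Finset.mem_sdiff.mp hχ).1,
      (Finset.mem_sdiff.mp hχ').1, if_true] at h1
    exact sub_eq_zero.mp h1
  · intro χ hχ g hg
    have hχY := (Finset.mem_sdiff.mp hχ).2
    have hχB := (Finset.mem_sdiff.mp hχ).1
    -- the combination `δ χ - δ₀ ∑ Y` is orthogonal to all
    have h1 := hvanish (fun φ => (if φ = χ then δ χ else 0) -
      if φ ∈ Y then δy ⟨q₀, hq₀⟩ else 0) (fun q => by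
        simp only [sub_mul, ite_mul, zero_mul, Finset.sum_sub_distrib, Finset.sum_ite_eq', hχB,
          if_true, Finset.sum_ite_mem, Finset.inter_eq_right.mpr hYB, ← Finset.mul_sum, hδ2 χ hχ q]
        rw [hY, Finset.sum_image fun a _ a' _ e' => hy (Subtype.ext e'), Finset.sum_eq_single q]
        · rw [hyval q q, if_pos rfl, hsame q]
          rcases hδ1 χ hχ with ha | ha <;> rcases hδ₀ with hb' | hb' <;> rw [ha, hb'] <;> norm_num
        · intro q' _ hne'
          rw [hyval q' q, if_neg hne']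
        · simp) g hg
    simp only [comb, Int.cast_sub, Int.cast_ite, Int.cast_zero, sub_mul, ite_mul, zero_mul,
      Finset.sum_sub_distrib, Finset.sum_ite_eq', hχB, if_true, Finset.sum_ite_mem,
      Finset.inter_eq_right.mpr hYB, ← Finset.mul_sum] at h1
    linear_combination h1
  · rw [hY]
    simp
  · intro inst q g
    rw [Subsingleton.elim inst hFG]
    exact hlink q g

/-- The main theorem, from the lower bound for the number of modular characters. -/
theorem exists_cyclicStruct (hM : Cfsg.IsPModular p M) (hc : Cyc p ψ P c z)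
    (hl : eIdx hc ≤ Cfsg.blockRank p (toSet ψ)) :
    ∃ X Y δ δ₀, CyclicStruct p (toSet ψ) (Nat.card P) (eIdx hc) X Y δ δ₀ := by
  obtain ⟨h, hh, ξ₀, Q, hO⟩ := exists_orbits hM hc
  obtain ⟨X, Y, δ, δ₀, hs, -⟩ := exists_linked hM hc hl hO
  exact ⟨X, Y, δ, δ₀, hs⟩

end Cfsg.Agent.Lib.CyclicBlocks.Main
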