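import Cfsg.Agent.Lib.CyclicBlocks.Sides
import Cfsg.Agent.Lib.BrauerPairs.Extend

/-!
# A block with cyclic defect group and its correspondent in the normalizer of `z`
-/

set_option autoImplicit false
set_option linter.style.haveILetI false
set_option linter.unusedSectionVars false

namespace Cfsg.Agent.Lib.CyclicBlocks.Normalizer

open MonoidAlgebra Cfsg.Agent.Lib.BrauerMap.Basic
open Cfsg.Agent.Lib.BrauerPairs
open Cfsg.Agent.Lib.BrauerPairs.Center Cfsg.Agent.Lib.BrauerPairs.Trunc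
open Cfsg.Agent.Lib.BrauerPairs.Conj Cfsg.Agent.Lib.BrauerPairs.Pairs
open Cfsg.Agent.Lib.BrauerPairs.Transport Cfsg.Agent.Lib.BrauerPairs.Maximal
open Cfsg.Agent.Lib.BrauerPairs.Bridge Cfsg.Agent.Lib.BrauerPairs.Local
open Cfsg.Agent.Lib.BrauerPairs.Embed Cfsg.Agent.Lib.BrauerPairs.Extend
open Cfsg.Agent.Lib.CyclicBlocks.Local Cfsg.Agent.Lib.CyclicBlocks.Main
open Cfsg.Agent.Lib.CyclicBlocks.Chars Cfsg.Agent.Lib.CyclicBlocks.Family
open Cfsg.Agent.Lib.Blocks.Contrib
open Cfsg.Agent.Lib.Characters.Basic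

universe u

attribute [local instance] Ideal.Quotient.field

variable {M : Ideal Cfsg.AlgInt} [M.IsMaximal] {G : Type u} [Group G] [Finite G]
  {p : ℕ} [Fact p.Prime] [CharP (Res M) p] {ψ : Blk (Res M) G} {P : Subgroup G}
  {c : Blk (Res M) (Subgroup.centralizer (P : Set G))} {z : G} {H : Subgroup G} {zH : H}
  {φ : Blk (Res M) H}
  {c' : Blk (Res M) (Subgroup.centralizer ((P.subgroupOf H : Subgroup H) : Set H))}

local notation "C[" P "]" => Subgroup.centralizer ((P : Subgroup G) : Set G)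

theorem zpowers_map (zH : H) :
    (Subgroup.zpowers zH).map H.subtype = Subgroup.zpowers (zH : G) := by
  rw [MonoidHom.map_zpowers]
  rfl

/-- The local pair of the normalizer comes from the local pair of the group. -/
theorem ext_bext_bz (hc : Cyc p ψ P c z) (hc' : Cyc p φ (P.subgroupOf H) c' zH) (hz : (zH : G) = z)
    (hPH : P ≤ H) (hCP : C[P] ≤ H) (hCz : C[Subgroup.zpowers z] ≤ H)
    (hcc : c' = down hPH hCP c) :
    ext H (bext (Subgroup.centralizer ((Subgroup.zpowers zH : Subgroup H) : Set H)) (bz hc')) =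
      bext C[Subgroup.zpowers z] (bz hc) := by
  subst hz
  have hsub : C[(az hc').1.map H.subtype] ≤ H := by
    show C[(Subgroup.zpowers zH).map H.subtype] ≤ H
    rw [zpowers_map]
    exact hCz
  obtain ⟨⟨Z, ω⟩, hb⟩ := exists_up (az hc') hsub
  obtain ⟨d, hd, hle⟩ := le_of_up hc'.le_az hb
  obtain rfl : d = (⟨P, c⟩ : Idx (Res M) G) :=
    hd.unique ⟨hPH, hCP, by rw [hcc]⟩
  obtain ⟨h1, h2⟩ := hb.spec
  have hZ : Z = Subgroup.zpowers (zH : G) := h1.symm.trans (zpowers_map zH)
  subst hZ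
  rw [show bz hc = ω from le_unique hc.top.1 c hc.le_az hle]
  exact h2

theorem mem_centralizer_iff' (zH : H) (x : H) :
    x ∈ Subgroup.centralizer ((Subgroup.zpowers zH : Subgroup H) : Set H) ↔
      (x : G) ∈ C[Subgroup.zpowers (zH : G)] := by
  rw [BrauerMap.SecondMain.mem_centralizer_zpowers_iff,
    BrauerMap.SecondMain.mem_centralizer_zpowers_iff]
  exact ⟨fun h => congrArg Subtype.val h, fun h => Subtype.ext h⟩

/-- The two centralizers of `z`. -/
def kap (hz : (zH : G) = z) (hCz : C[Subgroup.zpowers z] ≤ H) : C[Subgroup.zpowers z] ≃*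
    Subgroup.centralizer ((Subgroup.zpowers zH : Subgroup H) : Set H) where
  toFun s := ⟨⟨s, hCz s.2⟩, (mem_centralizer_iff' zH _).mpr (by rw [hz]; exact s.2)⟩
  invFun s := ⟨((s : H) : G), by rw [← hz]; exact (mem_centralizer_iff' zH _).mp s.2⟩
  left_inv _ := rfl
  right_inv _ := rfl
  map_mul' _ _ := rfl

theorem pull_mem (hc : Cyc p ψ P c z) (hc' : Cyc p φ (P.subgroupOf H) c' zH) (hz : (zH : G) = z)
    (hCz : C[Subgroup.zpowers z] ≤ H)
    (hbz : ext H (bext (Subgroup.centralizer ((Subgroup.zpowers zH : Subgroup H) : Set H))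
      (bz hc')) = bext C[Subgroup.zpowers z] (bz hc))
    (ξ : Cfsg.IrrCharacter C[Subgroup.zpowers z]) :
    pushIrr (kap hz hCz) ξ ∈ toSet (bz hc') ↔ ξ ∈ toSet (bz hc) := by
  set C' := Subgroup.centralizer ((Subgroup.zpowers zH : Subgroup H) : Set H)
  set κ := kap hz hCz
  have hext : ∀ a : MonoidAlgebra (Res M) C[Subgroup.zpowers z],
      ext H (ext C' (MonoidAlgebra.domCongr (Res M) (Res M) κ a)) = ext C[Subgroup.zpowers z] a := by
    intro a
    induction a using MonoidAlgebra.induction_linear with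
    | zero => simp
    | add f g hf hg => simp only [map_add, hf, hg]
    | single b r =>
      rw [domCongr_single, ext_single, ext_single, ext_single]
      rfl
  have key : ext H (bext C' (blkOf M (pushIrr κ ξ))) =
      bext C[Subgroup.zpowers z] (blkOf M ξ) := by
    have e : bidem (blkOf M (pushIrr κ ξ)) =
        MonoidAlgebra.domCongr (Res M) (Res M) κ (bidem (blkOf M ξ)) := by
      rw [blkOf_pushIrr]
      show ((idem _ : ZAlg (Res M) C') : MonoidAlgebra (Res M) C') = _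
      rw [← zMap_idem, coe_zMap]
      rfl
    rw [bext, e, hext]
    rfl
  rw [mem_toSet, mem_toSet]
  constructor
  · intro h
    rw [h, hbz] at key
    exact (bext_injective _ key).symm
  · intro h
    rw [h, ← hbz] at key
    exact bext_injective _ (ext_injective H key)

theorem mem_stab_iff' (hc : Cyc p ψ P c z) (hc' : Cyc p φ (P.subgroupOf H) c' zH)
    (hz : (zH : G) = z) (hH : H = Subgroup.normalizer (Subgroup.zpowers z : Set G))
    (hbz : ext H (bext (Subgroup.centralizer ((Subgroup.zpowers zH : Subgroup H) : Set H))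
      (bz hc')) = bext C[Subgroup.zpowers z] (bz hc)) (x : H) :
    x ∈ stab (az hc') ↔ (x : G) ∈ stab (az hc) := by
  subst hz
  rw [mem_stab_iff, mem_stab_iff]
  have hN : (x : G) ∈ Subgroup.normalizer (Subgroup.zpowers (zH : G) : Set G) :=
    (congrArg (fun K : Subgroup G => (x : G) ∈ K) hH).mp x.2
  have hN' : x ∈ Subgroup.normalizer ((Subgroup.zpowers zH : Subgroup H) : Set H) := by
    have hmem : ∀ y : H, y ∈ Subgroup.zpowers zH ↔ (y : G) ∈ Subgroup.zpowers (zH : G) := fun y => by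
      rw [← zpowers_map, Subgroup.mem_map_iff_mem H.subtype_injective (x := y) |>.symm]
      rfl
    rw [Subgroup.mem_normalizer_iff]
    intro y
    rw [hmem, hmem]
    exact Subgroup.mem_normalizer_iff.mp hN y
  refine ⟨fun h => ⟨hN, ?_⟩, fun h => ⟨hN', ?_⟩⟩
  · show conjA (x : G) (bext C[Subgroup.zpowers (zH : G)] (bz hc)) = _
    rw [← hbz, ← ext_conjA]
    exact (congrArg (ext H) h.2).trans hbz
  · refine ext_injective H ?_
    rw [ext_conjA]
    exact (congrArg (conjA (x : G)) hbz).trans (h.2.trans hbz.symm)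

variable [Fintype G] [Fintype H]

/-- **The comparison.** -/
theorem exists_isometry (hM : Cfsg.IsPModular p M) (hc : Cyc p ψ P c z)
    (hc' : Cyc p φ (P.subgroupOf H) c' zH) (hz : (zH : G) = z) (hPH : P ≤ H)
    (hCP : C[P] ≤ H) (hH : H = Subgroup.normalizer (Subgroup.zpowers z : Set G))
    (hcc : c' = down hPH hCP c) :
    Nat.card (toSet φ) = Nat.card (toSet ψ) ∧
      Cfsg.blockRank p (toSet φ) = Cfsg.blockRank p (toSet ψ) ∧
      ∃ (Φ : Cfsg.IrrCharacter H → Cfsg.IrrCharacter G) (ε : Cfsg.IrrCharacter H → ℤ),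
        Cfsg.IsPerfectIsometry p M (toSet φ) (toSet ψ) Φ ε := by
  classical
  set C := C[Subgroup.zpowers z] with hC
  have hCz : C ≤ H := hH ▸ Subgroup.centralizer_le_normalizer _
  have hbz := ext_bext_bz hc hc' hz hPH hCP hCz hcc
  set C' := Subgroup.centralizer ((Subgroup.zpowers zH : Subgroup H) : Set H) with hC'
  set κ := kap hz hCz with hκ
  obtain ⟨ξ₀, hξ₀, hst⟩ := exists_stable hM hc
  obtain ⟨h, hh, Q, hO, -⟩ := exists_orbits_of hM hc ξ₀ hξ₀ hst
  have hhH : h ∈ H := by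
    rw [hH]
    exact stab_le_normalizer (az hc) hh
  set h' : H := ⟨h, hhH⟩ with hh'def
  have hh' : h' ∈ stab (az hc') := (mem_stab_iff' hc hc' hz hH hbz h').mpr hh
  -- the indices
  obtain ⟨g', hg', -, hcov', hiff'⟩ := hc'.exists_gen hM
  have hcC : Nat.card C' = Nat.card C := Nat.card_congr κ.symm.toEquiv
  have hcardS : Nat.card (stab (az hc')) = Nat.card (stab (az hc)) :=
    Nat.card_congr
      { toFun := fun x => ⟨((x : H) : G), (mem_stab_iff' hc hc' hz hH hbz x).mp x.2⟩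
        invFun := fun x => ⟨⟨x, hH.symm ▸ stab_le_normalizer (az hc) x.2⟩,
          (mem_stab_iff' hc hc' hz hH hbz _).mpr x.2⟩
        left_inv := fun _ => rfl
        right_inv := fun _ => rfl }
  have hee : eIdx hc' = eIdx hc := by
    have h1 := Sides.card_stab hc' hg' hcov' hiff'
    rw [hcardS, Sides.card_stab hc hh hO.cover hO.pow_mem_iff, hcC] at h1
    exact (Nat.eq_of_mul_eq_mul_right Nat.card_pos h1).symm
  have hinj : Function.Injective (pushIrr κ) := fun a b e => Subtype.ext (funext fun s => by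
    simpa [pushIrr_apply] using congrArg (fun ξ : Cfsg.IrrCharacter C' => (ξ : C' → ℂ) (κ s)) e)
  have hmem : ∀ ξ, pushIrr κ ξ ∈ toSet (bz hc') ↔ ξ ∈ toSet (bz hc) :=
    pull_mem hc hc' hz hCz hbz
  have hcj : ∀ (i : ℕ) (ξ : Cfsg.IrrCharacter C),
      cj hc' (pow_mem hh' i) (pushIrr κ ξ) = pushIrr κ (cj hc (pow_mem hh i) ξ) := by
    intro i ξ
    refine Subtype.ext (funext fun s => ?_)
    rw [pushIrr_apply, cj_apply, cj_apply, pushIrr_apply]
    refine congrArg (ξ : C → ℂ) (Subtype.ext ?_)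
    show ((((h' ^ i)⁻¹ * (s : H) * h' ^ i : H)) : G) = (h ^ i)⁻¹ * ((s : H) : G) * h ^ i
    simp [hh'def]
  have hO' : Orbits hc' h' hh' (pushIrr κ ξ₀) (Q.image (pushIrr κ)) := by
    refine
      { cover := fun x hx => ?_
        pow_mem_iff := fun i => ?_
        mem₀ := (hmem ξ₀).mpr hO.mem₀
        fixed := fun i => by rw [hcj, hO.fixed]
        subset := fun q hq => by
          obtain ⟨a, ha, rfl⟩ := Finset.mem_image.mp hq
          exact (hmem a).mpr (hO.subset a ha)
        notMem₀ := fun h0 => by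
          obtain ⟨q, hq, e⟩ := Finset.mem_image.mp h0
          exact hO.notMem₀ (hinj e ▸ hq)
        unique := fun a ha b hb i hi e => ?_
        ne₀ := fun a ha i e => ?_
        card := ?_ }
    · obtain ⟨i, hi, hi'⟩ := hO.cover (x : G) ((mem_stab_iff' hc hc' hz hH hbz x).mp hx)
      refine ⟨i, hee.symm ▸ hi, (mem_centralizer_iff' zH _).mpr ?_⟩
      rw [hz]
      simpa [hh'def] using hi'
    · rw [hee, ← hO.pow_mem_iff i, mem_centralizer_iff', hz]
      simp [hh'def]
    · obtain ⟨q, hq, rfl⟩ := Finset.mem_image.mp ha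
      obtain ⟨q', hq', rfl⟩ := Finset.mem_image.mp hb
      rw [hcj] at e
      obtain ⟨h1, h2⟩ := hO.unique q hq q' hq' i (hee ▸ hi) (hinj e)
      exact ⟨h1, by rw [h2]⟩
    · obtain ⟨q, hq, rfl⟩ := Finset.mem_image.mp ha
      rw [hcj] at e
      exact hO.ne₀ q hq i (hinj e)
    · rw [hee, Finset.card_image_of_injective _ hinj, hO.card,
        Nat.card_congr (Subgroup.subgroupOfEquivOfLe hPH).toEquiv]
  -- the sides
  haveI := Fintype.ofFinite (toSet (bz hc))
  obtain ⟨r, hr, hfib, hJ, hne⟩ := Sides.exists_map hM hO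
  let qI : Q ≃ Q.image (pushIrr κ) := Equiv.ofBijective
    (fun q => ⟨pushIrr κ (q : _), Finset.mem_image_of_mem _ q.2⟩)
    ⟨fun a b e => Subtype.ext (hinj (congrArg Subtype.val e)), fun ⟨x, hx⟩ => by
      obtain ⟨q, hq, rfl⟩ := Finset.mem_image.mp hx
      exact ⟨⟨q, hq⟩, rfl⟩⟩
  obtain ⟨X, Y, δ, δ₀, y, hG⟩ := Sides.exists_side hM hO
    (⟨ξ₀, hO.mem₀⟩ : toSet (bz hc)) r (fun j => (j : Cfsg.IrrCharacter C))
    ⟨fun j _ => j.2, fun a _ b _ e => Subtype.ext e, fun ξ hξ => ⟨⟨ξ, hξ⟩, trivial, rfl⟩⟩ rfl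
    (Equiv.refl _) hr
  obtain ⟨X', Y', δ', δ₀', y', hH'⟩ := Sides.exists_side hM hO'
    (⟨ξ₀, hO.mem₀⟩ : toSet (bz hc)) r (fun j => pushIrr κ (j : Cfsg.IrrCharacter C))
    ⟨fun j _ => (hmem _).mpr j.2, fun a _ b _ e => Subtype.ext (hinj e), fun η hη => by
      have e : pushIrr κ (pushIrr κ.symm η) = η :=
        Subtype.ext (funext fun s => by simp [pushIrr_apply])
      exact ⟨⟨pushIrr κ.symm η, (hmem _).mp (by rw [e]; exact hη)⟩, trivial, e⟩⟩ rfl qI
    fun j hj => by
      obtain ⟨i, hi⟩ := hr j hj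
      exact ⟨i, by rw [show (qI (r j) : Cfsg.IrrCharacter C') = pushIrr κ (r j : _) from rfl,
        hcj, ← hi]⟩
  rw [hee] at hH'
  have hcards : ∀ {L : Type u} [Group L] [Fintype L] {B : Set (Cfsg.IrrCharacter L)} {n e : ℕ}
      {X Y : Finset (Cfsg.IrrCharacter L)} {δ : Cfsg.IrrCharacter L → ℤ} {δ₀ : ℤ},
      CyclicStruct p B n e X Y δ δ₀ → Nat.card B = e + Y.card := by
    intro L _ _ B n e X Y δ δ₀ hs
    classical
    rw [show B = ((X ∪ Y : Finset _) : Set (Cfsg.IrrCharacter L)) from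
      Set.ext fun χ => by rw [Finset.mem_coe, Finset.mem_union]; exact hs.mem_iff χ,
      Nat.card_coe_set_eq, Set.ncard_coe_finset, Finset.card_union_of_disjoint hs.disjoint,
      hs.cardX]
  refine ⟨?_, by rw [hH'.struct.rank, hG.struct.rank], ?_⟩
  · rw [hcards hH'.struct, hcards hG.struct]
    have h1 := hH'.struct.cardY
    rw [Nat.card_congr (Subgroup.subgroupOfEquivOfLe hPH).toEquiv, ← hG.struct.cardY] at h1
    rw [Nat.eq_of_mul_eq_mul_left (hc.eIdx_pos hM) (Nat.add_right_cancel h1)]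
  obtain ⟨Φ, ε, hiso, -⟩ := Isometry.exists_isometry hM (hc.not_dvd_eIdx hM) hfib hJ hG hH' (by
    intro t s _ _
    haveI := Fintype.ofFinite C
    have hs : ∀ j : toSet (bz hc), (pushIrr κ (j : Cfsg.IrrCharacter C) : C' → ℂ) s =
        ((j : Cfsg.IrrCharacter C) : C → ℂ) (κ.symm s) := fun j => pushIrr_apply κ _ s
    have hsum : ∀ F : Cfsg.IrrCharacter C → ℂ,
        ∑ j : toSet (bz hc), F (j : Cfsg.IrrCharacter C) = ∑ ξ ∈ bset (toSet (bz hc)), F ξ :=
      fun F => (Finset.sum_subtype (bset (toSet (bz hc))) (fun ξ => mem_bset) F).symm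
    simp only [hs]
    rw [hsum fun ξ => (ξ : C → ℂ) t * (ξ : C → ℂ) (κ.symm s)]
    refine ⟨?_, ?_⟩
    · rw [Finset.sum_congr rfl fun ξ _ => mul_comm _ _]
      exact PerfectIso.sum_mul_div_mem (isPBlock_toSet (bz hc)) (κ.symm s) t
    · rw [show Nat.card (Subgroup.centralizer ({s} : Set C')) =
          Nat.card (Subgroup.centralizer ({κ.symm s} : Set C)) from Nat.card_congr
        (κ.symm.toEquiv.subtypeEquiv fun a => by
          rw [Subgroup.mem_centralizer_singleton_iff, Subgroup.mem_centralizer_singleton_iff]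
          show a * s = s * a ↔ κ.symm a * κ.symm s = κ.symm s * κ.symm a
          rw [← map_mul, ← map_mul, κ.symm.injective.eq_iff])]
      exact PerfectIso.sum_mul_div_mem (isPBlock_toSet (bz hc)) t (κ.symm s))
  exact ⟨Φ, ε, hiso⟩

end Cfsg.Agent.Lib.CyclicBlocks.Normalizer
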