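import Cfsg.Agent.Lib.CyclicBlocks.Main
import Cfsg.Agent.Lib.CyclicBlocks.Rank
import Cfsg.Agent.Lib.BrauerPairs.Fusion
import Cfsg.Agent.Lib.BlocksChars5.Basic

/-!
# Blocks with cyclic defect groups

The structure theorem in terms of sets of characters.
-/

set_option autoImplicit false
set_option linter.style.haveILetI false
set_option linter.unusedSectionVars false

namespace Cfsg.Agent.Lib.CyclicBlocks.Theorem

open Cfsg.Agent.Lib.BrauerPairs
open Cfsg.Agent.Lib.BrauerPairs.Center Cfsg.Agent.Lib.BrauerPairs.Trunc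
open Cfsg.Agent.Lib.BrauerPairs.Pairs Cfsg.Agent.Lib.BrauerPairs.Maximal
open Cfsg.Agent.Lib.BrauerPairs.Bridge Cfsg.Agent.Lib.BrauerPairs.Local
open Cfsg.Agent.Lib.CyclicBlocks.Local Cfsg.Agent.Lib.CyclicBlocks.Main

universe u

attribute [local instance] Ideal.Quotient.field

variable {M : Ideal Cfsg.AlgInt} [M.IsMaximal] {G : Type u} [Group G] [Finite G]
  {p : ℕ} [Fact p.Prime] [CharP (Res M) p]

local notation "C[" P "]" => Subgroup.centralizer ((P : Subgroup G) : Set G)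

/-- The two ways to express that an element stabilizes a block of a centralizer. -/
theorem stabilizes_iff_forall {Q : Subgroup G} {b : Set (Cfsg.IrrCharacter C[Q])} {g : G}
    (hg : g ∈ Subgroup.normalizer (Q : Set G)) :
    Cfsg.StabilizesBlock C[Q] b g ↔ ∀ θ ∈ b, ∀ θ' : Cfsg.IrrCharacter C[Q],
      (∀ h h' : C[Q], (h' : G) = g * h * g⁻¹ → (θ' : C[Q] → ℂ) h' = (θ : C[Q] → ℂ) h) → θ' ∈ b := by
  constructor
  · rintro ⟨-, h⟩ θ hθ θ' hθ'
    obtain ⟨χ, hχ, hconj⟩ := h θ hθ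
    rw [isConjCharOf_iff (mem_centralizer_conj_iff hg)] at hconj
    have h2 := (isConjCharOf_iff (mem_centralizer_conj_iff hg) θ θ').mp hθ'
    rwa [h2, ← hconj]
  · intro h
    refine ⟨Subgroup.mem_normalizer_iff.mpr (mem_centralizer_conj_iff hg), fun χ hχ => ?_⟩
    exact ⟨_, h χ hχ _ ((isConjCharOf_iff (mem_centralizer_conj_iff hg) χ _).mpr rfl),
      (isConjCharOf_iff (mem_centralizer_conj_iff hg) χ _).mpr rfl⟩

/-- The data of the statements give the local data. -/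
theorem exists_data {B : Set (Cfsg.IrrCharacter G)} (hB : Cfsg.IsPBlock M B) {P : Subgroup G}
    (hPD : Cfsg.IsDefectGroup p M B P) (hP1 : P ≠ ⊥) (hcyc : IsCyclic P)
    {c : Set (Cfsg.IrrCharacter C[P])} (hc : Cfsg.IsInducedBlock M C[P] c B) {T : Subgroup G}
    (hT : ∀ g : G, g ∈ T ↔ (g ∈ Subgroup.normalizer (P : Set G) ∧
      Cfsg.StabilizesBlock C[P] c g)) {e : ℕ} (he : C[P].relIndex T = e) :
    ∃ (z : G) (hcy : Cyc p (blk hB) P (blk hc.1) z), eIdx hcy = e := by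
  have hD := (isDefectGroup_iff hB P).mp hPD
  have hP : IsPGroup p P := hD.isPGroup
  have hpair := (InducedPair.isInducedBlock_iff hP hc.1 hB).mp hc
  obtain ⟨z, hz⟩ := exists_cyc (top_of_isDef hpair hD) hpair hcyc hP1
  refine ⟨z, hz, ?_⟩
  rw [← he, Fusion.eq_stab hc.1 hT]
  rfl

/-- The structure theorem. -/
theorem exists_struct (hM : Cfsg.IsPModular p M) {B : Set (Cfsg.IrrCharacter G)}
    (hB : Cfsg.IsPBlock M B) {P : Subgroup G} (hPD : Cfsg.IsDefectGroup p M B P) (hP1 : P ≠ ⊥)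
    (hcyc : IsCyclic P) {c : Set (Cfsg.IrrCharacter C[P])}
    (hc : Cfsg.IsInducedBlock M C[P] c B) {T : Subgroup G}
    (hT : ∀ g : G, g ∈ T ↔ (g ∈ Subgroup.normalizer (P : Set G) ∧
      Cfsg.StabilizesBlock C[P] c g)) {e : ℕ} (he : C[P].relIndex T = e) :
    e ∣ p - 1 ∧ ∃ X Y δ δ₀, CyclicStruct p B (Nat.card P) e X Y δ δ₀ := by
  obtain ⟨z, hz, rfl⟩ := exists_data hB hPD hP1 hcyc hc hT he
  refine ⟨(hz.inertial hM).2.1, ?_⟩
  obtain ⟨X, Y, δ, δ₀, h⟩ := exists_cyclicStruct hM hz (Rank.le_blockRank hM hz)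
  rw [toSet_blk] at h
  exact ⟨X, Y, δ, δ₀, h⟩

/-- The defect of the block. -/
theorem card_eq_defect (hM : Cfsg.IsPModular p M) {B : Set (Cfsg.IrrCharacter G)}
    (hB : Cfsg.IsPBlock M B) {P : Subgroup G} (hPD : Cfsg.IsDefectGroup p M B P)
    {c : Set (Cfsg.IrrCharacter C[P])} (hc : Cfsg.IsInducedBlock M C[P] c B) :
    Nat.card P = p ^ Cfsg.blockDefect p B := by
  have hD := (isDefectGroup_iff hB P).mp hPD
  have hpair := (InducedPair.isInducedBlock_iff hD.isPGroup hc.1 hB).mp hc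
  have h := RankAbelian.card_top hM (top_of_isDef hpair hD) hpair
  rw [toSet_blk] at h
  exact h

variable {B : Set (Cfsg.IrrCharacter G)} {n e : ℕ} {X Y : Finset (Cfsg.IrrCharacter G)}
  {δ : Cfsg.IrrCharacter G → ℤ} {δ₀ : ℤ}

theorem isGeneralized_diff {ι : Type*} (s : Finset ι) (m : ι → ℤ)
    (φ : ι → Cfsg.IrrCharacter G) :
    Cfsg.IsGeneralizedCharacter G (fun g => ∑ i ∈ s, (m i : ℂ) * (φ i : G → ℂ) g) := by
  classical
  haveI := Fintype.ofFinite (Cfsg.IrrCharacter G)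
  convert BC77.Reg.isGeneralized_intComb (G := G) (fun χ => ∑ i ∈ s with φ i = χ, m i) using 1
  funext g
  rw [← Finset.sum_fiberwise_of_maps_to (t := Finset.univ) (g := φ) (fun i _ => Finset.mem_univ _)]
  refine Finset.sum_congr rfl fun χ _ => ?_
  push_cast
  rw [Finset.sum_mul]
  exact Finset.sum_congr rfl fun i hi => by rw [(Finset.mem_filter.mp hi).2]

/-- The congruences of the degrees modulo the full power of `p`. -/
theorem degree_congrX (h : CyclicStruct p B n e X Y δ δ₀) {χ χ' : Cfsg.IrrCharacter G}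
    (hχ : χ ∈ X) (hχ' : χ' ∈ X) :
    δ χ * (Cfsg.charDegree (χ : G → ℂ) : ℤ) ≡ δ χ' * (Cfsg.charDegree (χ' : G → ℂ) : ℤ)
      [ZMOD (p : ℤ) ^ (Nat.card G).factorization p] := by
  classical
  obtain ⟨j, hj⟩ := BC77.Reg.dvd_apply_one (p := p) (G := G)
    (isGeneralized_diff (Finset.univ : Finset (Fin 2)) ![δ χ, -δ χ'] ![χ, χ']) (fun x hx => by
      simp [Fin.sum_univ_two, h.congrX χ hχ χ' hχ' x hx])
  simp only [Fin.sum_univ_two, Matrix.cons_val_zero, Matrix.cons_val_one, Int.cast_neg,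
    BlocksChars5.Basic.apply_one] at hj
  refine (Int.modEq_iff_dvd.mpr ⟨j, ?_⟩).symm
  apply @Int.cast_injective ℂ
  push_cast at hj ⊢
  linear_combination hj

theorem charDegree_exc (h : CyclicStruct p B n e X Y δ δ₀) {η η' : Cfsg.IrrCharacter G}
    (hη : η ∈ Y) (hη' : η' ∈ Y) :
    Cfsg.charDegree (η : G → ℂ) = Cfsg.charDegree (η' : G → ℂ) := by
  have h1 := h.exc_eq η hη η' hη' 1 (by simp [(Fact.out : p.Prime).ne_one])
  rw [BlocksChars5.Basic.apply_one, BlocksChars5.Basic.apply_one] at h1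
  exact_mod_cast h1

theorem degree_congrY (h : CyclicStruct p B n e X Y δ δ₀) {χ η : Cfsg.IrrCharacter G}
    (hχ : χ ∈ X) (hη : η ∈ Y) :
    δ χ * (Cfsg.charDegree (χ : G → ℂ) : ℤ) ≡ δ₀ * Y.card * (Cfsg.charDegree (η : G → ℂ) : ℤ)
      [ZMOD (p : ℤ) ^ (Nat.card G).factorization p] := by
  classical
  obtain ⟨j, hj⟩ := BC77.Reg.dvd_apply_one (p := p) (G := G)
    (isGeneralized_diff (Finset.univ : Finset (Unit ⊕ Y)) (Sum.elim (fun _ => δ χ) fun _ => -δ₀)
      (Sum.elim (fun _ => χ) fun y => y.1)) (fun x hx => by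
      rw [Fintype.sum_sum_type, ← h.congrY χ hχ x hx, Finset.mul_sum,
        ← Finset.sum_coe_sort Y]
      simp [sub_eq_add_neg])
  simp only [Fintype.sum_sum_type, Fintype.sum_unique, Sum.elim_inl,
    Sum.elim_inr, BlocksChars5.Basic.apply_one, charDegree_exc h (Subtype.prop _) hη,
    Finset.sum_const, Finset.card_univ, Fintype.card_coe, Fintype.card_unit, nsmul_eq_mul, Nat.cast_one, one_mul,
    Int.cast_neg] at hj
  refine (Int.modEq_iff_dvd.mpr ⟨j, ?_⟩).symm
  apply @Int.cast_injective ℂ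
  push_cast at hj ⊢
  linear_combination hj

theorem Y_nonempty (h : CyclicStruct p B n e X Y δ δ₀) (hn : 1 < n) : Y.Nonempty := by
  rw [← Finset.card_pos]
  rcases Nat.eq_zero_or_pos Y.card with h0 | h0
  · have := h.cardY
    rw [h0, mul_zero] at this
    omega
  · exact h0

theorem X_nonempty (h : CyclicStruct p B n e X Y δ δ₀) (hn : 1 < n) : X.Nonempty := by
  rw [← Finset.card_pos, h.cardX]
  rcases Nat.eq_zero_or_pos e with h0 | h0
  · have := h.cardY
    rw [h0, zero_mul] at this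
    omega
  · exact h0

end Cfsg.Agent.Lib.CyclicBlocks.Theorem
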